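import Cfsg.Agent.Lib.KnownB.Mult.Ru.Code
import Cfsg.Agent.Lib.KnownB.Mult.Ru.StemData

/-!
Words in the two generators, multiplication by `i`, and the centre of `Cfsg.Spor.fourRu`.
-/

set_option autoImplicit false
set_option maxRecDepth 100000
set_option Elab.async false
set_option maxHeartbeats 0

namespace CfsgLib.KnownB.Mult.Ru

open Cfsg Cfsg.Spor
open CfsgLib.KnownB.Mult
open CfsgLib.KnownB.Mult.HS (K5 A28 encA encR decR okR okR_iff dg pk p28 encA_inj mulA mulA_enc dg_encR
  decR_encR getD_encA encR_inj)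
open scoped Matrix

/-- the matrix of a code -/
def decM (x : List ℕ) : A28 := fun k => decR (x.getD (k : ℕ) 0)

theorem decM_encA (A : A28) : decM (encA A) = A := by
  funext k
  rw [decM, getD_encA, decR_encR]

/-- the code of a word in the generators -/
def wordC (w : List ℕ) : List ℕ := w.foldr (fun g x => mulA (gList.getD g []) x) oneR

theorem exists_word : ∀ w : List ℕ, (w.all fun g => Nat.blt g 2) = true → ∃ y, RepR y (wordC w)
  | [], _ => ⟨1, rep_oneR⟩
  | g :: w, h => by
    simp only [List.all_cons, Bool.and_eq_true, Nat.blt_eq] at h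
    obtain ⟨a, ha⟩ := exists_gen g h.1
    obtain ⟨b, hb⟩ := exists_word w h.2
    exact ⟨a * b, rep_mulR ha hb⟩

/-- a scalar code -/
def scalC (c : ℕ) : List ℕ := p28.map fun k => c <<< (10 * k)

theorem scal_ok : ∀ c : Fin 5, encA ((c.val : K5) • (1 : A28)) = scalC c.val := by decide +kernel

theorem ruI_four (v : ruLattice) : ruI (ruI (ruI (ruI v))) = v := by
  refine Subtype.ext ?_
  show gI • gI • gI • gI • (v : RuVec) = v
  rw [smul_smul, smul_smul, smul_smul, show gI * gI * gI * gI = 1 by decide, one_smul]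

/-- multiplication by `i` as a permutation -/
def iotaPerm : Equiv.Perm ruLattice where
  toFun := ruI
  invFun v := ruI (ruI (ruI v))
  left_inv := ruI_four
  right_inv := ruI_four

theorem iota_mem : iotaPerm ∈ fourRu := by
  refine ⟨fun a b => Subtype.ext ?_, fun a => rfl, fun a => ?_⟩
  · show gI • ((a : RuVec) + (b : RuVec)) = gI • (a : RuVec) + gI • (b : RuVec)
    rw [smul_add]
  · show ruNorm (gI • (a : RuVec)) = ruNorm (a : RuVec)
    refine Finset.sum_congr rfl fun p _ => ?_
    rw [Pi.smul_apply, smul_eq_mul, Zsqrtd.norm_mul, show gI.norm = 1 by decide, one_mul]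

/-- multiplication by `i` -/
def iota : fourRu := ⟨iotaPerm, iota_mem⟩

theorem iota_center : iota ∈ Subgroup.center fourRu := by
  rw [Subgroup.mem_center_iff]
  intro f
  exact Subtype.ext (Equiv.ext fun v => f.2.2.1 v)

theorem red_iota : red iota = (3 : K5) • (1 : A28) := by
  have h : mat iota⁻¹ = (3 : K5) • 1 := by
    funext p q
    show 4 * rho ((gI • gI • gI • sgl p (4 : GaussianInt)) q) = _
    rw [Pi.smul_apply, Pi.smul_apply, Pi.smul_apply, smul_eq_mul, smul_eq_mul, smul_eq_mul,
      map_mul, map_mul, map_mul]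
    by_cases e : p = q
    · subst e
      rw [sgl, Pi.single_eq_same, rho_four, Matrix.smul_apply, Matrix.one_apply_eq]
      decide
    · rw [sgl, Pi.single_eq_of_ne (Ne.symm e), map_zero, Matrix.smul_apply, Matrix.one_apply_ne e]
      simp
  show Matrix.reindexAlgEquiv ℕ K5 idx (mat iota⁻¹) = _
  rw [h, Matrix.reindexAlgEquiv_apply, Matrix.reindex_apply, Matrix.submatrix_smul, Pi.smul_apply,
    Pi.smul_apply, Matrix.submatrix_one_equiv]

theorem fix_ok : decM fixL * (decM (wordC fixW) - 1) +
    Matrix.vecMulVec (decR fixV) (decR fixU) = 1 := by decide +kernel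

theorem bas_ok : (decM basM * decM basInv = 1) ∧ basW.length = 28 ∧
    ∀ k : Fin 28, (decM (wordC (basW.getD k.1 []))).mulVec (decR fixV) = fun i => decM basM i k := by
  decide +kernel

theorem fixW_ok : (fixW.all fun g => Nat.blt g 2) = true ∧
    (basW.all fun w => w.all fun g => Nat.blt g 2) = true := by decide +kernel

theorem center_scalar {z : fourRu} (hz : z ∈ Subgroup.center fourRu) :
    ∃ c : K5, red z = c • (1 : A28) := by
  set M := red z with hM
  have hcomm : ∀ y : cover, M * red y.1 = red y.1 * M := fun y => by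
    rw [hM, ← map_mul, ← map_mul, Subgroup.mem_center_iff.1 hz y.1]
  have hw : ∀ w : List ℕ, (w.all fun g => Nat.blt g 2) = true →
      M * decM (wordC w) = decM (wordC w) * M := fun w h => by
    obtain ⟨y, hy⟩ := exists_word w h
    rw [← hy, decM_encA]
    exact hcomm y
  set v := decR fixV with hv
  set T := decM (wordC fixW) with hT
  set u := decR fixU with hu
  have hTv : (T - 1).mulVec v = 0 := by
    have : ∀ i, (T - 1).mulVec v i = 0 := by
      rw [hT, hv]; decide +kernel
    exact funext this
  have hTx : (T - 1).mulVec (M.mulVec v) = 0 := by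
    rw [Matrix.mulVec_mulVec, Matrix.sub_mul, Matrix.one_mul, ← hw fixW fixW_ok.1,
      ← Matrix.mulVec_zero M, ← hTv, Matrix.mulVec_mulVec, Matrix.mul_sub, Matrix.mul_one]
  set c := u ⬝ᵥ M.mulVec v with hc
  have hMv : M.mulVec v = c • v := by
    have h := congrArg (fun A : A28 => A.mulVec (M.mulVec v)) fix_ok
    simp only [Matrix.add_mulVec, Matrix.one_mulVec] at h
    rw [← Matrix.mulVec_mulVec, ← hT, hTx, Matrix.mulVec_zero, zero_add, Matrix.vecMulVec_mulVec,
      op_smul_eq_smul] at h
    exact h.symm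
  refine ⟨c, ?_⟩
  obtain ⟨hBI, hlen, hB⟩ := bas_ok
  have hcol : M * decM basM = c • decM basM := by
    ext i k
    have hwk : ((basW.getD k.1 []).all fun g => Nat.blt g 2) = true := by
      rw [List.getD_eq_getElem _ _ (by rw [hlen]; exact k.2)]
      exact List.all_eq_true.1 fixW_ok.2 _ (List.getElem_mem _)
    have hk : M.mulVec (fun i => decM basM i k) = c • fun i => decM basM i k := by
      rw [← hB k, ← hv, Matrix.mulVec_mulVec, hw _ hwk, ← Matrix.mulVec_mulVec, hMv, Matrix.mulVec_smul]
    exact congrFun hk i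
  rw [← Matrix.mul_one M, ← hBI, ← Matrix.mul_assoc, hcol, Matrix.smul_mul]

theorem center_eq : Subgroup.center fourRu = Subgroup.zpowers iota := by
  refine le_antisymm (fun z hz => ?_) (Subgroup.zpowers_le.2 iota_center)
  obtain ⟨c, hc⟩ := center_scalar hz
  have hc0 : c ≠ 0 := by
    rintro rfl
    have h := congrArg (fun A : A28 => A * red z⁻¹) hc
    simp only [← map_mul, mul_inv_cancel, map_one, zero_smul, zero_mul] at h
    exact one_ne_zero h
  have hp : ∀ n : ℕ, red (iota ^ n) = ((3 : K5) ^ n) • (1 : A28) := fun n => by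
    rw [map_pow, red_iota, smul_pow, one_pow]
  have : ∀ d : K5, d ≠ 0 → ∃ n : Fin 4, (3 : K5) ^ n.val = d := by decide
  obtain ⟨n, hn⟩ := this c hc0
  have e : z = iota ^ n.val := red_injective (by rw [hp, hn, hc])
  rw [e]
  exact Subgroup.pow_mem _ (Subgroup.mem_zpowers iota) _

theorem orderOf_iota : orderOf iota = 4 := by
  haveI : Fact (Nat.Prime 2) := ⟨Nat.prime_two⟩
  have h4 : iota ^ 4 = 1 := red_injective (by
    rw [map_pow, red_iota, smul_pow, one_pow, map_one, show (3 : K5) ^ 4 = 1 by decide, one_smul])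
  have h2 : iota ^ 2 ≠ 1 := fun h => by
    have e := congrArg (fun f : fourRu => red f 0 0) h
    simp only [map_pow, red_iota, smul_pow, one_pow, map_one, Matrix.smul_apply, Matrix.one_apply_eq] at e
    exact absurd e (by decide)
  exact orderOf_eq_prime_pow (p := 2) (n := 1) (by simpa using h2) (by simpa using h4)

theorem natCard_center : Nat.card (Subgroup.center fourRu) = 4 := by
  rw [center_eq, Nat.card_zpowers, orderOf_iota]

end CfsgLib.KnownB.Mult.Ru
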