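import Cfsg.Agent.Lib.KnownB.Mult.Ru.CodeData
import Cfsg.Agent.Lib.KnownB.Mult.Co0Code
import Cfsg.Agent.Lib.KnownB.Mult.Chunks

/-!
The double cover of the Rudvalis group as a subgroup of `Cfsg.Spor.fourRu` generated by two elements of
odd order, with codes by matrices over five elements.
-/

set_option autoImplicit false
set_option maxRecDepth 100000
set_option Elab.async false

namespace CfsgLib.KnownB.Mult.Ru

open Cfsg Cfsg.Spor
open CfsgLib.KnownB.Mult
open CfsgLib.KnownB.Mult.HS (K5 A28 encA encR decR okR okR_iff dg pk p28 encA_inj mulA mulA_enc dg_encR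
  decR_encR)

/-- the first generator -/
noncomputable def gA : fourRu := (exists_elem a_pair).choose

/-- the second generator -/
noncomputable def gB : fourRu := (exists_elem b_pair).choose

theorem gA_enc : encA (Matrix.reindexAlgEquiv ℕ K5 idx fun p q => 4 * rho (zOf aMat p q)) =
    gList.getD 0 [] := by
  decide +kernel

theorem gB_enc : encA (Matrix.reindexAlgEquiv ℕ K5 idx fun p q => 4 * rho (zOf bMat p q)) =
    gList.getD 1 [] := by
  decide +kernel

/-- the cover -/
def cover : Subgroup fourRu := Subgroup.closure {gA, gB}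

/-- the code relation -/
def RepR (y : cover) (x : List ℕ) : Prop := encA (red y.1) = x

theorem exists_gen (g : ℕ) (hg : g < 2) : ∃ y : cover, RepR y (gList.getD g []) := by
  interval_cases g
  · refine ⟨⟨gA, Subgroup.subset_closure (Or.inl rfl)⟩, ?_⟩
    show encA (Matrix.reindexAlgEquiv ℕ K5 idx (mat gA⁻¹)) = _
    rw [gA, (exists_elem a_pair).choose_spec.1]
    exact gA_enc
  · refine ⟨⟨gB, Subgroup.subset_closure (Or.inr rfl)⟩, ?_⟩
    show encA (Matrix.reindexAlgEquiv ℕ K5 idx (mat gB⁻¹)) = _
    rw [gB, (exists_elem b_pair).choose_spec.1]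
    exact gB_enc

/-- the code of the identity -/
def oneR : List ℕ := encA 1

theorem rep_oneR : RepR 1 oneR := by
  show encA (red 1) = _
  rw [map_one]; rfl

theorem rep_mulR {a b : cover} {x y : List ℕ} (ha : RepR a x) (hb : RepR b y) :
    RepR (a * b) (mulA x y) := by
  show encA (red (a.1 * b.1)) = _
  rw [map_mul, ← mulA_enc, ha, hb]

theorem eq_of_rep {a b : cover} {x : List ℕ} (ha : RepR a x) (hb : RepR b x) : a = b :=
  Subtype.ext (red_injective (encA_inj (ha.trans hb.symm)))

/-- a step of a straight-line program: a generator, the identity, or a product -/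
def stepOK (T : List (List ℕ)) (k : ℕ) (s : ℕ × ℕ × ℕ) : Bool :=
  let e := T.getD k []
  bif Nat.beq s.1 0 then
    bif Nat.blt s.2.1 2 then eqW e (gList.getD s.2.1 []) else eqW e oneR
  else
    Nat.blt s.2.1 k && Nat.blt s.2.2 k && eqW e (mulA (T.getD s.2.1 []) (T.getD s.2.2 []))

/-- a program computing a table -/
def slpOK (T : List (List ℕ)) (P : List (ℕ × ℕ × ℕ)) : Bool :=
  Nat.beq T.length P.length && (List.range T.length).all fun k => stepOK T k (P.getD k (0, 0, 0))

theorem exists_of_slp {T : List (List ℕ)} {P : List (ℕ × ℕ × ℕ)} (h : slpOK T P = true) :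
    ∀ {k : ℕ}, k < T.length → ∃ y, RepR y (T.getD k []) := by
  simp only [slpOK, Bool.and_eq_true, List.all_eq_true, List.mem_range] at h
  intro k
  induction k using Nat.strong_induction_on with
  | _ k ih =>
    intro hk
    have hs := h.2 k hk
    rw [stepOK] at hs
    cases hb : Nat.beq (P.getD k (0, 0, 0)).1 0
    · simp only [hb, cond_false, Bool.and_eq_true, Nat.blt_eq, eqW_iff] at hs
      obtain ⟨⟨ha, hc⟩, e⟩ := hs
      obtain ⟨y, hy⟩ := ih _ ha (lt_trans ha hk)
      obtain ⟨y', hy'⟩ := ih _ hc (lt_trans hc hk)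
      exact ⟨y * y', e ▸ rep_mulR hy hy'⟩
    · cases hj : Nat.blt (P.getD k (0, 0, 0)).2.1 2
      · simp only [hb, hj, cond_true, cond_false, eqW_iff] at hs
        exact ⟨1, hs ▸ rep_oneR⟩
      · simp only [hb, hj, cond_true, eqW_iff] at hs
        obtain ⟨y, hy⟩ := exists_gen _ (Nat.blt_eq.mp hj)
        exact ⟨y, hs ▸ hy⟩

/-- the code attached to a table -/
noncomputable def code (T : List (List ℕ)) (P : List (ℕ × ℕ × ℕ)) (h : slpOK T P = true) :
    Code cover (List ℕ) where
  rep := RepR
  mul := mulA
  one := oneR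
  eqc x y := eqW x y
  okc x := T.any fun t => eqW x t
  rep_mul := rep_mulR
  rep_one := rep_oneR
  eq_iff {a b x y} ha hb := by
    rw [eqW_iff]
    constructor
    · rintro rfl; exact eq_of_rep ha hb
    · rintro rfl; exact ha.symm.trans hb
  exists_rep {x} hx := by
    obtain ⟨y, hy, he⟩ := List.any_eq_true.1 hx
    rw [eqW_iff] at he
    obtain ⟨k, hk, rfl⟩ := List.getElem_of_mem hy
    obtain ⟨y, hy⟩ := exists_of_slp h hk
    rw [List.getD_eq_getElem _ _ hk] at hy
    exact ⟨y, he ▸ hy⟩

/-- an action on packed rows -/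
def appP (x : List ℕ) (v : ℕ) : ℕ := bif okR v then red5T x v else v
where
  /-- a matrix applied to a column -/
  red5T (A : List ℕ) (v : ℕ) : ℕ :=
    pk (A.map fun r => ((List.range 28).map fun l => dg r l * dg v l).sum % 5)

theorem sum_range_map (f : ℕ → ℕ) (n : ℕ) :
    ((List.range n).map f).sum = ∑ l : Fin n, f l := by
  rw [← List.sum_toFinset _ (List.nodup_range), List.toFinset_range, Fin.sum_univ_eq_sum_range f n]

attribute [local irreducible] dg p28 in
theorem appP_key (A : A28) (w : Fin 28 → K5) (k : Fin 28) :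
    ((List.range 28).map fun l => dg (encR (A k)) l * dg (encR w) l).sum % 5 =
      (A.mulVec w k).val := by
  rw [sum_range_map, ← ZMod.val_natCast, Nat.cast_sum]
  show _ = (∑ l, A k l * w l).val
  refine congrArg ZMod.val (Finset.sum_congr rfl fun l _ => ?_)
  rw [dg_encR, dg_encR, Nat.cast_mul, ZMod.natCast_zmod_val, ZMod.natCast_zmod_val]

theorem appP_enc (A : A28) (w : Fin 28 → K5) :
    appP.red5T (encA A) (encR w) = encR (A.mulVec w) := by
  show pk ((p28.map fun k => if h : k < 28 then encR (A ⟨k, h⟩) else 0).map _) = pk (p28.map _)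
  rw [List.map_map]
  refine congrArg pk (List.map_congr_left fun k hk => ?_)
  have hk' : k < 28 := List.mem_range.1 hk
  rw [Function.comp_apply, dif_pos hk', dif_pos hk']
  exact appP_key A w ⟨k, hk'⟩

theorem okR_encR (w : Fin 28 → K5) : okR (encR w) = true := okR_iff.2 (by rw [decR_encR])

/-- the action -/
noncomputable def ptAct : PtAct cover ℕ where
  act y v := bif okR v then encR ((red y.1).mulVec (decR v)) else v
  act_mul y z v := by
    cases hv : okR v
    · simp [hv]
    · simp only [cond_true, okR_encR, decR_encR, Matrix.mulVec_mulVec]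
      rw [← map_mul]
      rfl
  act_one v := by
    cases hv : okR v
    · simp
    · simp [okR_iff.1 hv]

attribute [local irreducible] okR red encR decR in
theorem ptAct_app {y : cover} {x : List ℕ} (h : RepR y x) (v : ℕ) : ptAct.act y v = appP x v := by
  show (bif okR v then _ else v) = _
  cases hv : okR v
  · simp [appP, hv]
  · simp only [appP, hv, cond_true]
    rw [← h, ← appP_enc, okR_iff.1 hv]

end CfsgLib.KnownB.Mult.Ru
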