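import Cfsg.Agent.Lib.KnownB.Mult.Ru.Gens

/-! The packed matrices modulo `2 - i` of the two generators. -/

set_option autoImplicit false

namespace CfsgLib.KnownB.Mult.Ru

/-- packed matrices of the generators -/
def gList : List (List ℕ) := [
  [3620276540847249616843069427805585981486553229687364868266467355206168349696, 3625570176926896576620557688847974171077752153918128604812143581268300267522, 7410695478035302934216019989861253027105730698716115788856813612055749919245312, 1852680502088749583771714800243588083990497097691681893012627378577943759421442, 5695119931600095283113623381060252023442660065540757945954213992300451450034587650, 5691418197946753694937032309704247493124946947440777716572998679929494648460938244, 1902695610354481469553343020265955468172568282846981158255572429693527083546841090, 5691412775498288199838836325316620148067626775461493507567461893994327401469841409, 5559829539968563490081479429529023261451897369738754314736450579150374308938756, 6908492918694170778511704654702569353635488334061136761345693976625152, 7244072968967951104490044461675635397810279280366262860914304716842288021504, 7410697244887425990390966448232043849797631633035710087306818043679274630647812, 7595961053973125469533016330141428886975056700694508375403562314784776711703628800, 3794276989379771431290359635440656046667799179393974840362174196896360147606047744, 1902702852658874564494093551678846210107191096111889527996938416630420214411952129, 7588550365557297062617400223795074524559578073254815623477541307611077963055890435, 5695118117048159762301364446680038268851216354117941451915429670376828849895771136,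 5693269063896900175487930905294126644776720966775107863946473293522439320634393600, 5696970790477685621419723500270765750989027285682109268004657130785085155210952706, 1898993887295322205402704794772604211399543222297910118801092097586323993848184835, 5695123548336040254466111888832571952031585242148770245768364468275149556808679427, 7588553978761275025983619488730957649748370398605839892941396765481922704550400000, 1897143017818371546665167504022413917048925531225237512911117434942796279285022723, 1900846562491685027550187797699133312245154948243179230749821507743390941025668096, 5558022057139988510327120913909871973972514950334060498743793616715869201633283, 3707156113895254306225360080228472764874334338283001352627506075579622286688256, 5433059900503296733488850877533336892957573076368360280226226962867707445248, 3457616455891998328855099821474519026917804652031103450812652381539329],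
  [1766847064778384329583297500742918515827483896875618958121606201292619776, 1809251394333065553493296640760748560207343510400633813116524750123642650624, 1852673427797059126777135760139006525652319754650249024631321344126610074238976, 1897137590064188545819787018382342682267975428761855001222473056385648716020711424, 1, 1024, 1048576, 1073741824, 1099511627776, 1125899906842624, 1152921504606846976, 1180591620717411303424, 1208925819614629174706176, 1237940039285380274899124224, 1267650600228229401496703205376, 1298074214633706907132624082305024, 1329227995784915872903807060280344576, 1361129467683753853853498429727072845824, 1393796574908163946345982392040522594123776, 1427247692705959881058285969449495136382746624, 1461501637330902918203684832716283019655932542976, 1496577676626844588240573268701473812127674924007424, 1532495540865888858358347027150309183618739122183602176, 1569275433846670190958947355801916604025588861116008628224, 1606938044258990275541962092341162602522202993782792835301376, 1645504557321206042154969182557350504982735865633579863348609024, 1684996666696914987166688442938726917102321526408785780068975640576, 1725436586697640946858688965569256363112777243042596638790631055949824]]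

end CfsgLib.KnownB.Mult.Ru
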