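import Cfsg.Agent.Lib.KnownB.Mult.Ru.Rep

/-!
Elements of `Cfsg.Spor.fourRu` from matrices over the Gaussian integers, and two of them.
-/

set_option autoImplicit false
set_option maxRecDepth 100000
set_option Elab.async false
set_option maxHeartbeats 0

namespace CfsgLib.KnownB.Mult.Ru

open Cfsg Cfsg.Spor
open CfsgLib.LocalEven.RuRootless
open scoped Matrix

/-- position of an index -/
def pn (p : RuIdx) : ℕ := 4 * p.1.1 + p.2.1

/-- a matrix from its data -/
def zOf (D : List (List ℤ)) : Matrix RuIdx RuIdx GaussianInt := fun p q =>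
  ⟨(D.getD (pn p) []).getD (2 * pn q) 0, (D.getD (pn p) []).getD (2 * pn q + 1) 0⟩

/-- multiply a row by `i` -/
def rot : List ℤ → List ℤ
  | a :: b :: t => (-b) :: a :: rot t
  | _ => []

/-- the rows and their multiples by `i` are as listed -/
def rowsOKD (D : List (List ℤ)) : Prop :=
  ∀ p : RuIdx, (D.getD (pn p) []).length = 56 ∧ (rot (D.getD (pn p) [])).length = 56 ∧
    ∀ j : Fin 56, (D.getD (pn p) []).getD j.1 0 = flat (zOf D p) j ∧
      (rot (D.getD (pn p) [])).getD j.1 0 = flat (gI • zOf D p) j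

instance (D : List (List ℤ)) : Decidable (rowsOKD D) := inferInstanceAs (Decidable (∀ _, _))

/-- add a multiple of a list -/
def axL (c : ℤ) (l acc : List ℤ) : List ℤ :=
  if c = 0 then acc else List.zipWith (fun a b => c * a + b) l acc

/-- the indices -/
def ps : List RuIdx := (List.finRange 7).flatMap fun n => (List.finRange 4).map fun t => (n, t)

theorem ps_ok : ps.Nodup ∧ ps.toFinset = Finset.univ := by decide +kernel

/-- the image of a vector, accumulated along a list of indices -/
def accL (D : List (List ℤ)) (x : List ℕ) : List RuIdx → List ℤ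
  | [] => List.replicate 56 0
  | p :: l => axL (x.getD (2 * pn p) 0 : ℕ) (D.getD (pn p) [])
      (axL (x.getD (2 * pn p + 1) 0 : ℕ) (rot (D.getD (pn p) [])) (accL D x l))

/-- a list as a function -/
def toF (l : List ℤ) (j : Fin 56) : ℤ := l.getD j.1 0

theorem axL_spec {c : ℤ} {l acc : List ℤ} (h : l.length = 56) (h' : acc.length = 56) :
    (axL c l acc).length = 56 ∧ toF (axL c l acc) = c • toF l + toF acc := by
  rw [axL]
  split
  · next e => exact ⟨h', by rw [e, zero_smul, zero_add]⟩
  · refine ⟨by simp [h, h'], funext fun j => ?_⟩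
    have h1 : (j : ℕ) < l.length := by omega
    have h2 : (j : ℕ) < acc.length := by omega
    simp [toF, List.getD_eq_getElem?_getD, h1, h2]

/-- the vector of a list -/
def vecL (x : List ℕ) : RuVec := unflat (toZ x)

theorem flat_smul_eq (c : GaussianInt) (v : RuVec) :
    flat (c • v) = c.re • flat v + c.im • flat (gI • v) := by
  have e : c • v = c.re • v + c.im • (gI • v) := by
    funext p
    apply Zsqrtd.ext <;> simp [gI] <;> ring
  rw [e, flat_add, show flat (c.re • v) = c.re • flat v from flatHom.map_zsmul c.re v,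
    show flat (c.im • (gI • v)) = c.im • flat (gI • v) from flatHom.map_zsmul c.im (gI • v)]

theorem accL_spec {D : List (List ℤ)} (hD : rowsOKD D) (x : List ℕ) : ∀ l : List RuIdx,
    (accL D x l).length = 56 ∧ toF (accL D x l) = flat (l.map fun p => vecL x p • zOf D p).sum
  | [] => ⟨List.length_replicate, by
      rw [List.map_nil, List.sum_nil, show flat (0 : RuVec) = 0 from flatHom.map_zero]
      funext j
      show (List.replicate 56 (0 : ℤ)).getD j.1 0 = 0
      rw [List.getD_eq_getElem _ _ (by rw [List.length_replicate]; exact j.2), List.getElem_replicate]⟩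
  | p :: l => by
    obtain ⟨hlen, hv⟩ := accL_spec hD x l
    obtain ⟨h1, h2, h3⟩ := hD p
    obtain ⟨g1, g2⟩ := axL_spec (c := ((x.getD (2 * pn p + 1) 0 : ℕ) : ℤ)) h2 hlen
    obtain ⟨k1, k2⟩ := axL_spec (c := ((x.getD (2 * pn p) 0 : ℕ) : ℤ)) h1 g1
    refine ⟨k1, k2.trans ?_⟩
    rw [g2, List.map_cons, List.sum_cons, flat_add, hv, flat_smul_eq, add_assoc]
    have e1 : toF (D.getD (pn p) []) = flat (zOf D p) := funext fun j => (h3 j).1
    have e2 : toF (rot (D.getD (pn p) [])) = flat (gI • zOf D p) := funext fun j => (h3 j).2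
    have i1 : (vecL x p).re = ((x.getD (2 * pn p) 0 : ℕ) : ℤ) := by
      show ((x.getD (8 * p.1.1 + 2 * p.2.1) 0 : ℕ) : ℤ) = _
      rw [pn]; congr 2; omega
    have i2 : (vecL x p).im = ((x.getD (2 * pn p + 1) 0 : ℕ) : ℤ) := by
      show ((x.getD (8 * p.1.1 + 2 * p.2.1 + 1) 0 : ℕ) : ℤ) = _
      rw [pn]; congr 2; omega
    rw [e1, e2, i1, i2]

theorem vecMul_eq (D : List (List ℤ)) (v : RuVec) :
    v ᵥ* zOf D = (ps.map fun p => v p • zOf D p).sum := by
  rw [← List.sum_toFinset _ ps_ok.1, ps_ok.2, Matrix.vecMul_eq_sum]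

/-- the rows are in the lattice -/
def rowMemOK (D : List (List ℤ)) (C : List (List ℕ)) : Bool :=
  (List.range 28).all fun k =>
    ((D.getD k []).zip (vsum ((C.getD k []).zip rows))).all fun q => decide (q.1 % 4 = (q.2 : ℤ) % 4)

/-- images of the rows of the lattice are four times lattice vectors -/
def imgMemOK (D : List (List ℤ)) (C : List (List ℕ)) : Bool :=
  (List.range 42).all fun k =>
    ((accL D (rows.getD k []) ps).zip (vsum ((C.getD k []).zip rows))).all fun q =>
      decide (q.1 % 4 = 0) && decide (q.1 / 4 % 4 = (q.2 : ℤ) % 4)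

theorem vsum_length {cs : List ℕ} : (vsum (cs.zip rows)).length = 56 :=
  (vsum_spec _ fun _ hp => (List.of_mem_zip hp).2).1

theorem mem_of_coef {v : RuVec} (cs : List ℕ)
    (h : ∀ j : Fin 56, flat v j % 4 = (((vsum (cs.zip rows)).getD j 0 : ℕ) : ℤ) % 4) :
    v ∈ ruLattice :=
  of_flat_mem (mem_lat_of_mod _ (fun _ hp => (List.of_mem_zip hp).2) h)

theorem zip_getD {q : ℤ × ℕ → Prop} {a : List ℤ} {b : List ℕ} (ha : a.length = 56)
    (hb : b.length = 56) (h : ∀ z ∈ a.zip b, q z) (j : Fin 56) : q (a.getD j.1 0, b.getD j.1 0) := by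
  have hj : (j : ℕ) < (a.zip b).length := by rw [List.length_zip]; omega
  have := h _ (List.getElem_mem hj)
  rw [List.getElem_zip] at this
  rwa [List.getD_eq_getElem _ _ (by omega), List.getD_eq_getElem _ _ (by omega)]

/-- a matrix maps the lattice into four times the lattice -/
structure Good (D : List (List ℤ)) (C1 C2 : List (List ℕ)) : Prop where
  rows_ok : rowsOKD D
  mem : rowMemOK D C1 = true
  img : imgMemOK D C2 = true

theorem zOf_mem {D : List (List ℤ)} {C1 C2 : List (List ℕ)} (G : Good D C1 C2) (p : RuIdx) :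
    zOf D p ∈ ruLattice := by
  have hp : pn p < 28 := by rw [pn]; omega
  obtain ⟨h1, -, h3⟩ := G.rows_ok p
  have h := G.mem
  simp only [rowMemOK, List.all_eq_true, List.mem_range, decide_eq_true_eq] at h
  refine mem_of_coef (C1.getD (pn p) []) fun j => ?_
  rw [← (h3 j).1]
  exact zip_getD (q := fun z => z.1 % 4 = (z.2 : ℤ) % 4) h1 vsum_length (h _ hp) j

theorem image {D : List (List ℤ)} {C1 C2 : List (List ℕ)} (G : Good D C1 C2) {v : RuVec}
    (hv : v ∈ ruLattice) : ∃ w ∈ ruLattice, v ᵥ* zOf D = (4 : GaussianInt) • w := by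
  let S : AddSubgroup RuVec :=
    { carrier := {v | ∃ w ∈ ruLattice, v ᵥ* zOf D = (4 : GaussianInt) • w}
      zero_mem' := ⟨0, zero_mem _, by rw [Matrix.zero_vecMul, smul_zero]⟩
      add_mem' := by
        rintro a b ⟨w, hw, e⟩ ⟨w', hw', e'⟩
        exact ⟨w + w', add_mem hw hw', by rw [Matrix.add_vecMul, e, e', smul_add]⟩
      neg_mem' := by
        rintro a ⟨w, hw, e⟩
        exact ⟨-w, neg_mem hw, by rw [Matrix.neg_vecMul, e, smul_neg]⟩ }
  suffices hl : lat ≤ S.comap unflatHom by
    have := hl (mem_lat_of_mem hv)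
    rwa [AddSubgroup.mem_comap, show unflatHom (flat v) = unflat (flat v) from rfl, unflat_flat] at this
  refine (AddSubgroup.closure_le _).2 ?_
  rintro x (⟨R, hR, rfl⟩ | ⟨y, rfl⟩)
  · obtain ⟨k, hk, hk2⟩ := List.getElem_of_mem hR
    have hget : rows.getD k [] = R := by rw [List.getD_eq_getElem _ _ hk, hk2]
    obtain ⟨hlen, hsp⟩ := accL_spec G.rows_ok R ps
    have hflat : flat (vecL R ᵥ* zOf D) = toF (accL D R ps) := by rw [vecMul_eq, hsp]
    have h := G.img
    simp only [imgMemOK, List.all_eq_true, List.mem_range, Bool.and_eq_true, decide_eq_true_eq] at h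
    have hk42 : k < 42 := rows_length ▸ hk
    have hz := zip_getD (q := fun z => z.1 % 4 = 0 ∧ z.1 / 4 % 4 = (z.2 : ℤ) % 4) hlen vsum_length
      (by have := h k hk42; rw [hget] at this; exact this)
    refine ⟨unflat fun j => toF (accL D R ps) j / 4, mem_of_coef (C2.getD k []) fun j => ?_, ?_⟩
    · rw [flat_unflat]; exact (hz j).2
    · show unflat (toZ R) ᵥ* zOf D = _
      refine flat_injective ?_
      rw [show unflat (toZ R) = vecL R from rfl, hflat, flat_smul_eq, flat_unflat]
      funext j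
      have := (hz j).1
      show toF (accL D R ps) j = _
      simp only [Zsqrtd.re_ofNat, Zsqrtd.im_ofNat, zero_smul, add_zero, Pi.smul_apply, smul_eq_mul]
      show toF (accL D R ps) j = 4 * (toF (accL D R ps) j / 4)
      change (accL D R ps).getD j.1 0 % 4 = 0 at this
      rw [toF]
      omega
  · refine ⟨unflat y ᵥ* zOf D, ?_, ?_⟩
    · rw [Matrix.vecMul_eq_sum]
      exact sum_mem fun p _ => smul_mem _ (zOf_mem G p)
    · show unflat (4 • y) ᵥ* zOf D = _
      have e : unflat (4 • y) = (4 : GaussianInt) • unflat y := by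
        funext p
        apply Zsqrtd.ext <;> simp [unflat]
      rw [e, Matrix.smul_vecMul]

theorem ruNorm_eq_dot (v : RuVec) : ((ruNorm v : ℤ) : GaussianInt) = v ⬝ᵥ star v := by
  rw [ruNorm, Int.cast_sum]
  exact Finset.sum_congr rfl fun p _ => Zsqrtd.norm_eq_mul_conj _

theorem norm_vecMul {Z : Matrix RuIdx RuIdx GaussianInt} (hZ : Z * Zᴴ = (16 : GaussianInt) • 1)
    (v : RuVec) : ruNorm (v ᵥ* Z) = 16 * ruNorm v := by
  have h : ((ruNorm (v ᵥ* Z) : ℤ) : GaussianInt) = ((16 * ruNorm v : ℤ) : GaussianInt) := by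
    rw [Int.cast_mul, ruNorm_eq_dot, ruNorm_eq_dot, Matrix.star_vecMul, Matrix.dotProduct_mulVec,
      Matrix.vecMul_vecMul, hZ, Matrix.vecMul_smul, Matrix.vecMul_one, smul_dotProduct]
    rfl
  have := congrArg Zsqrtd.re h
  simpa using this

/-- a pair of inverse matrices -/
structure GoodPair (D D' : List (List ℤ)) (C1 C2 C1' C2' : List (List ℕ)) : Prop where
  fwd : Good D C1 C2
  bwd : Good D' C1' C2'
  conj : zOf D' = (zOf D)ᴴ
  mul_conj : zOf D * zOf D' = (16 : GaussianInt) • 1
  conj_mul : zOf D' * zOf D = (16 : GaussianInt) • 1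

theorem exists_elem {D D' : List (List ℤ)} {C1 C2 C1' C2' : List (List ℕ)}
    (P : GoodPair D D' C1 C2 C1' C2') :
    ∃ f : fourRu, mat f⁻¹ = (fun p q => 4 * rho (zOf D p q)) ∧
      ∀ v : ruLattice, (v : RuVec) ᵥ* zOf D = (4 : GaussianInt) • hom f⁻¹ v := by
  have c4 : (4 : GaussianInt) ≠ 0 := by decide
  have hinj : ∀ a b : RuVec, (4 : GaussianInt) • a = (4 : GaussianInt) • b → a = b := fun a b h =>
    funext fun q => mul_left_cancel₀ c4 (congrFun h q)
  choose w hw hwe using fun v : ruLattice => image P.fwd v.2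
  choose u hu hue using fun v : ruLattice => image P.bwd v.2
  let F : ruLattice → ruLattice := fun v => ⟨w v, hw v⟩
  let F' : ruLattice → ruLattice := fun v => ⟨u v, hu v⟩
  have h16 : ∀ (A B : List (List ℤ)) (v : RuVec), zOf A * zOf B = (16 : GaussianInt) • 1 →
      (v ᵥ* zOf A) ᵥ* zOf B = (4 : GaussianInt) • (4 : GaussianInt) • v := fun A B v h => by
    rw [Matrix.vecMul_vecMul, h, Matrix.vecMul_smul, Matrix.vecMul_one, smul_smul]
    rfl
  have l1 : ∀ v, F' (F v) = v := fun v => Subtype.ext (hinj _ _ (hinj _ _ (by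
    show (4 : GaussianInt) • (4 : GaussianInt) • u (F v) = _
    rw [← hue, ← Matrix.smul_vecMul]
    show ((4 : GaussianInt) • w v) ᵥ* zOf D' = _
    rw [← hwe, h16 _ _ _ P.mul_conj])))
  have l2 : ∀ v, F (F' v) = v := fun v => Subtype.ext (hinj _ _ (hinj _ _ (by
    show (4 : GaussianInt) • (4 : GaussianInt) • w (F' v) = _
    rw [← hwe, ← Matrix.smul_vecMul]
    show ((4 : GaussianInt) • u v) ᵥ* zOf D = _
    rw [← hue, h16 _ _ _ P.conj_mul])))
  let e : Equiv.Perm ruLattice := ⟨F, F', l1, l2⟩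
  have he : e ∈ fourRu := by
    refine ⟨fun a b => Subtype.ext (hinj _ _ ?_), fun a => Subtype.ext (hinj _ _ ?_), fun a => ?_⟩
    · show (4 : GaussianInt) • w (a + b) = (4 : GaussianInt) • (w a + w b)
      rw [← hwe, smul_add, ← hwe, ← hwe, AddSubgroup.coe_add, Matrix.add_vecMul]
    · show (4 : GaussianInt) • w (ruI a) = (4 : GaussianInt) • (gI • w a)
      rw [← hwe, smul_comm, ← hwe, show ((ruI a : ruLattice) : RuVec) = gI • (a : RuVec) from rfl,
        Matrix.smul_vecMul]
    · have h := norm_vecMul (Z := zOf D) (by rw [← P.conj, P.mul_conj]) (a : RuVec)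
      rw [hwe] at h
      have h4 : ruNorm ((4 : GaussianInt) • w a) = 16 * ruNorm (w a) := by
        rw [ruNorm, ruNorm, Finset.mul_sum]
        refine Finset.sum_congr rfl fun q _ => ?_
        rw [Pi.smul_apply, smul_eq_mul, Zsqrtd.norm_mul]
        rfl
      rw [h4] at h
      exact mul_left_cancel₀ (by norm_num) h
  refine ⟨(⟨e, he⟩ : fourRu)⁻¹, ?_, fun v => ?_⟩
  · rw [inv_inv]
    funext p q
    show 4 * rho (w (four p) q) = _
    have h := congrFun (hwe (four p)) q
    rw [Pi.smul_apply, smul_eq_mul, show ((four p : ruLattice) : RuVec) = Pi.single p 4 from rfl,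
      Matrix.single_vecMul, Pi.smul_apply, smul_eq_mul] at h
    exact congrArg (fun t => 4 * rho t) (mul_left_cancel₀ c4 h).symm
  · rw [inv_inv]
    exact hwe v

theorem a_rows1 : rowsOKD aMat := by
  decide +kernel

theorem a_mem1 : rowMemOK aMat aRows = true := by
  decide +kernel

theorem a_img1 : imgMemOK aMat aImg = true := by
  decide +kernel

theorem a_rows2 : rowsOKD aStarMat := by
  decide +kernel

theorem a_mem2 : rowMemOK aStarMat aStarRows = true := by
  decide +kernel

theorem a_img2 : imgMemOK aStarMat aStarImg = true := by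
  decide +kernel

theorem a_conj : zOf aStarMat = (zOf aMat)ᴴ := by
  decide +kernel

theorem a_mc : zOf aMat * zOf aStarMat = (16 : GaussianInt) • 1 := by
  decide +kernel

theorem a_cm : zOf aStarMat * zOf aMat = (16 : GaussianInt) • 1 := by
  decide +kernel

theorem a_pair : GoodPair aMat aStarMat aRows aImg aStarRows aStarImg :=
  ⟨⟨a_rows1, a_mem1, a_img1⟩, ⟨a_rows2, a_mem2, a_img2⟩, a_conj, a_mc, a_cm⟩

theorem b_rows1 : rowsOKD bMat := by
  decide +kernel

theorem b_mem1 : rowMemOK bMat bRows = true := by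
  decide +kernel

theorem b_img1 : imgMemOK bMat bImg = true := by
  decide +kernel

theorem b_rows2 : rowsOKD bStarMat := by
  decide +kernel

theorem b_mem2 : rowMemOK bStarMat bStarRows = true := by
  decide +kernel

theorem b_img2 : imgMemOK bStarMat bStarImg = true := by
  decide +kernel

theorem b_conj : zOf bStarMat = (zOf bMat)ᴴ := by
  decide +kernel

theorem b_mc : zOf bMat * zOf bStarMat = (16 : GaussianInt) • 1 := by
  decide +kernel

theorem b_cm : zOf bStarMat * zOf bMat = (16 : GaussianInt) • 1 := by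
  decide +kernel

theorem b_pair : GoodPair bMat bStarMat bRows bImg bStarRows bStarImg :=
  ⟨⟨b_rows1, b_mem1, b_img1⟩, ⟨b_rows2, b_mem2, b_img2⟩, b_conj, b_mc, b_cm⟩

end CfsgLib.KnownB.Mult.Ru
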