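import Cfsg.Prelude.Def_Spor_Ru

/-! Data for the lattice of the Rudvalis group: rows modulo `4` as combinations of images of the listed vectors, and two monomial-free generators with their certificates. -/

set_option autoImplicit false
set_option maxRecDepth 100000

namespace CfsgLib.KnownB.Mult.Ru

/-- images used: listed vector, word in the five maps, flat coordinates modulo 4 in fields of two bits -/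
def imgList : List (ℕ × List ℕ × ℕ) := [
  (1, [], 1322244762995926162385821690237212),
  (1, [0], 1070237602967585784770667661509697),
  (1, [1], 1060711981984181899119825245974804),
  (1, [2], 1070235136758901147055920764686644),
  (1, [4], 347039527666405348802581172846592),
  (2, [], 3958957547243126288645551311303452),
  (2, [0], 583457257914231708824010406022209),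
  (2, [1], 573944052599004310894643796513556),
  (2, [2], 1060767361667042316646667333407004),
  (2, [4], 1036681687234755368316370537152512),
  (3, [], 1360284339265590508763199431520572),
  (3, [0], 1222395250390594849963710296933569),
  (3, [1], 411041665919372966826419022738204),
  (3, [2], 421871430137792721135269557842196),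
  (3, [4], 998612516621585586860765669752832),
  (5, [], 974823679103144487885414500208913),
  (5, [0], 3899294716412577951541658000835652),
  (5, [1], 61179011325333008887121667174724),
  (5, [2], 325801064393940503012504583017524),
  (5, [4], 346162716653713456017114622144513),
  (5, [4, 4], 973640171161669165656544288702513),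
  (6, [], 81387133797409701367806717595921),
  (6, [0], 61812837456287268642792469972036),
  (6, [1], 3909435921171878620195353105543492),
  (6, [2], 243630545967770139436634396103732),
  (6, [4], 346149083893927907085435581498416),
  (7, [], 61179001880303684957100218257681),
  (7, [4], 346148775542305636790995720864576),
  (8, [], 61801912751891219105521538708241),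
  (9, [], 243627547533983128528415755350801),
  (10, [], 3899308106721326465624295231009553),
  (11, [], 325845626668580235929049136640785),
  (12, [], 243641469821485400668488394879281),
  (13, [], 20658747232590781799378138116401),
  (14, [], 325787674331562449070864119902513),
  (15, [], 1313286350669009462681660520673585),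
  (16, [], 3909493875929261103548921899127601),
  (17, [], 328326462962551698281474632454961),
  (18, [], 61164470293581293462617366205233),
  (19, [], 243471934616816672953720190866225)]

/-- rows as combinations: coefficient, index of an image -/
def rowComb : List (List (ℕ × ℕ)) := [
  [(1, 15), (3, 1), (2, 19), (2, 0), (2, 10), (2, 20), (2, 18), (3, 16), (1, 5), (1, 11), (2, 6), (2, 31), (3, 26), (1, 25), (1, 28), (1, 30), (1, 32), (1, 34), (2, 35), (1, 27), (1, 36), (1, 29), (1, 4), (1, 2), (2, 37), (1, 38), (2, 3), (1, 7)],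
  [(3, 1), (2, 15), (3, 5), (2, 33), (2, 28), (2, 34), (2, 17), (3, 6), (2, 35)],
  [(2, 1), (1, 19), (1, 17), (1, 0), (2, 10), (2, 20), (1, 18), (1, 31), (2, 5), (2, 21), (2, 25), (1, 30), (3, 34), (3, 27), (1, 35), (1, 28), (3, 2), (2, 37), (2, 8), (1, 22), (1, 16), (3, 6), (3, 29), (2, 4), (1, 12), (3, 38), (3, 14), (1, 9), (3, 39), (1, 7)],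
  [(3, 19), (3, 15), (2, 1), (2, 17), (2, 0), (3, 10), (3, 5), (1, 11), (3, 6), (3, 21), (2, 26), (1, 28), (1, 25), (2, 18), (2, 33), (1, 30), (1, 35), (1, 34), (3, 27), (1, 2), (2, 8), (3, 37), (3, 3), (1, 38), (3, 14), (1, 23), (2, 4), (3, 22), (2, 29), (2, 9), (1, 24), (3, 36), (1, 13)],
  [(2, 17), (3, 0), (2, 1), (1, 15), (2, 20), (1, 19), (2, 16), (2, 11), (2, 21), (1, 31), (2, 26), (3, 25), (2, 18), (2, 33), (1, 30), (2, 34), (1, 35), (1, 4), (1, 2), (2, 8), (3, 37), (3, 9), (3, 39), (2, 38), (1, 23), (3, 22), (2, 29), (1, 24), (3, 36), (1, 14), (1, 13)],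
  [(3, 20), (1, 15), (3, 19), (2, 17), (3, 0), (2, 10), (1, 18), (3, 31), (1, 5), (1, 21), (2, 26), (3, 28), (1, 33), (1, 30), (1, 32), (3, 35), (1, 27), (1, 6), (3, 4), (3, 2), (1, 12), (1, 3), (2, 14), (3, 39), (1, 24), (1, 13), (2, 16), (2, 11)],
  [(2, 18), (2, 0), (3, 17), (1, 15), (2, 16), (2, 5), (2, 11), (2, 21), (3, 25), (1, 33), (1, 28), (2, 34), (3, 35), (1, 27), (1, 36), (2, 29), (2, 2), (1, 37), (2, 14), (3, 3), (1, 23), (3, 22), (3, 9)],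
  [(1, 16), (3, 0), (1, 15), (3, 11), (2, 31), (2, 26), (2, 25), (2, 19), (2, 17), (1, 18), (2, 33), (1, 30), (1, 34), (1, 35), (3, 4), (3, 3), (1, 38), (3, 39), (1, 24), (2, 2), (1, 37), (2, 8), (3, 7)],
  [(1, 21), (2, 33), (1, 10), (2, 0), (3, 26), (1, 5), (3, 34), (3, 8), (1, 2), (2, 37), (1, 22), (2, 19), (3, 16), (2, 11), (2, 6), (1, 31), (1, 29), (3, 30), (1, 12), (2, 14), (2, 38), (3, 3)],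
  [(1, 31), (3, 5), (1, 0), (3, 21), (3, 26), (2, 28), (1, 33), (2, 10), (1, 35), (2, 2), (2, 8), (3, 14), (3, 38), (2, 3), (1, 23), (2, 19), (3, 17), (3, 32), (2, 4), (3, 22), (3, 18), (1, 16), (2, 29), (2, 9), (1, 24), (3, 36), (3, 7), (1, 13)],
  [(3, 26), (3, 15), (1, 21), (1, 28), (3, 5), (2, 0), (2, 35), (1, 33), (1, 34), (2, 27), (2, 1), (3, 17), (2, 29), (1, 6), (2, 2), (1, 18), (1, 11), (1, 31), (3, 38), (3, 14), (3, 9), (3, 39), (1, 23), (3, 32), (1, 24), (1, 13)],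
  [(2, 15), (1, 0), (2, 33), (2, 10), (2, 34), (2, 27), (2, 19), (3, 1), (2, 35), (3, 29), (2, 2), (1, 8), (3, 37), (1, 22), (3, 18), (1, 16), (1, 6), (3, 31), (1, 12), (2, 38), (1, 3), (2, 14), (3, 39), (1, 24), (3, 7), (1, 13)],
  [(1, 25), (2, 1), (3, 15), (1, 19), (3, 17), (2, 18), (2, 5), (1, 26), (3, 28), (1, 33), (1, 35), (2, 6), (3, 30), (3, 4), (1, 2), (1, 37), (2, 8), (3, 38), (1, 3), (3, 9), (3, 39), (1, 23), (1, 24), (3, 7)],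
  [(1, 15), (3, 0), (2, 21), (2, 26), (3, 5), (1, 35), (2, 4), (1, 1), (2, 17), (3, 6), (2, 2), (3, 37), (2, 8), (1, 22), (1, 16), (1, 31), (3, 29), (1, 12), (2, 3), (2, 14), (1, 9), (3, 39), (1, 13)],
  [(1, 30), (2, 15), (1, 5), (1, 0), (3, 10), (3, 31), (1, 34), (2, 26), (1, 35), (1, 28), (1, 1), (2, 19), (1, 17), (1, 6), (2, 2), (2, 8), (2, 14), (1, 38), (3, 3), (3, 39), (1, 23), (3, 22), (1, 16), (1, 29)],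
  [(3, 0), (2, 31), (1, 5), (3, 34), (1, 26), (1, 27), (3, 19), (2, 28), (3, 6), (3, 30), (3, 2), (1, 18), (2, 16), (3, 11), (3, 29), (1, 8), (1, 3), (3, 38), (2, 14), (3, 9), (3, 39), (1, 23), (1, 24), (3, 36)],
  [(3, 34), (3, 15), (3, 0), (1, 21), (3, 26), (2, 14), (2, 38), (1, 5), (2, 3), (1, 9), (3, 39), (1, 30), (1, 35), (2, 28), (3, 33), (3, 11), (1, 1), (2, 18), (2, 2), (1, 8), (2, 29), (1, 13), (2, 16)],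
  [(2, 15), (3, 10), (2, 26), (1, 28), (2, 27), (2, 19), (1, 1), (1, 36), (3, 29), (1, 2), (3, 38), (3, 31), (2, 3), (2, 14), (1, 7), (3, 37), (1, 6), (3, 8), (2, 16), (2, 11)],
  [(3, 27), (3, 19), (3, 15), (2, 1), (1, 17), (3, 0), (1, 10), (1, 26), (3, 35), (2, 5), (1, 29), (2, 2), (3, 37), (1, 8), (1, 22), (3, 18), (1, 16), (1, 31), (3, 30), (1, 12), (3, 3), (1, 24), (3, 9)],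
  [(2, 15), (1, 10), (3, 0), (3, 5), (3, 21), (1, 26), (2, 28), (3, 33), (1, 34), (1, 4), (1, 38), (3, 31), (3, 3), (3, 39), (1, 30), (1, 1), (3, 2), (1, 24), (2, 17), (3, 18), (2, 19), (1, 6), (2, 8), (1, 14), (1, 13)],
  [(3, 5), (3, 0), (3, 21), (3, 26), (2, 37), (1, 10), (1, 33), (3, 2), (2, 1), (3, 8), (2, 3), (3, 31), (3, 14), (1, 23), (2, 19), (1, 17), (3, 6), (3, 32), (2, 35), (2, 4), (3, 22), (1, 18), (3, 16), (1, 11), (2, 9), (1, 24), (3, 36), (3, 7)],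
  [(2, 4), (3, 34), (3, 10), (1, 0), (2, 21), (1, 37), (2, 5), (1, 28), (2, 1), (3, 3), (1, 31), (1, 23), (1, 17), (3, 6), (3, 32), (3, 22), (2, 18), (1, 16), (3, 11), (1, 29), (3, 12), (3, 8), (3, 9), (1, 13)],
  [(2, 10), (2, 0), (2, 1), (2, 15), (1, 17), (1, 6), (1, 21), (1, 28), (3, 5), (3, 26), (2, 30), (2, 34), (1, 35), (3, 4), (2, 18), (1, 11), (1, 31), (2, 29), (3, 37), (1, 23), (3, 32), (3, 12), (3, 8), (3, 38), (3, 9), (1, 13)],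
  [(2, 14), (2, 10), (2, 0), (2, 21), (2, 26), (2, 38), (2, 31), (2, 29), (2, 28)],
  [(1, 2), (3, 0), (3, 1), (3, 15), (2, 10), (3, 5), (3, 37), (2, 21), (3, 33), (2, 26), (3, 28), (2, 34), (3, 8), (1, 12), (2, 14), (1, 7), (2, 29), (2, 17), (3, 6), (2, 35)],
  [(2, 37), (1, 15), (2, 10), (3, 0), (1, 5), (2, 21), (2, 33), (1, 26), (3, 28), (1, 34), (3, 2), (1, 1), (2, 8), (1, 22), (2, 19), (2, 17), (1, 16), (3, 6), (2, 31), (3, 29), (3, 35), (2, 4), (3, 14), (3, 38), (3, 3), (1, 9), (3, 39), (1, 7), (1, 13)],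
  [(2, 8), (1, 0), (2, 2), (1, 1), (1, 15), (1, 5), (2, 37), (1, 21), (1, 33), (3, 26), (3, 34), (1, 12), (2, 38), (2, 14), (2, 3), (1, 9), (3, 39), (1, 30), (1, 35), (3, 4), (1, 7), (2, 29), (3, 11), (2, 18), (2, 16)],
  [(1, 22), (2, 0), (2, 1), (3, 15), (2, 19), (2, 18), (2, 17), (2, 10), (1, 16), (3, 5), (3, 11), (1, 6), (3, 31), (1, 21), (1, 26), (1, 29), (3, 30), (3, 34), (3, 4), (3, 37), (3, 2), (1, 12), (2, 8), (2, 38), (3, 14), (1, 13)],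
  [(2, 2), (1, 1), (1, 15), (3, 10), (2, 21), (2, 33), (3, 34), (2, 8), (2, 38), (1, 31), (3, 3), (3, 14), (3, 9), (3, 39), (1, 30), (3, 35), (1, 4), (1, 23), (2, 19), (3, 17), (2, 6), (3, 32), (3, 22), (1, 18), (3, 16), (1, 11), (2, 29), (1, 24), (3, 36)],
  [(1, 38), (2, 15), (1, 10), (1, 0), (1, 5), (2, 21), (1, 34), (2, 26), (1, 7), (2, 1), (3, 2), (3, 37), (2, 33), (3, 28), (1, 23), (1, 17), (3, 6), (3, 32), (1, 4), (3, 22), (2, 18), (1, 16), (3, 11), (1, 29), (3, 12), (2, 3), (3, 9)],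
  [(3, 3), (2, 5), (2, 38), (2, 15), (2, 10), (3, 21), (3, 31), (1, 34), (2, 14), (3, 39), (1, 30), (3, 35), (2, 28), (2, 33), (1, 23), (2, 1), (1, 17), (3, 6), (3, 32), (2, 2), (3, 22), (2, 18), (1, 16), (3, 11), (3, 29), (3, 12), (3, 8), (1, 13)],
  [(3, 14), (2, 34), (1, 15), (1, 0), (1, 21), (2, 38), (2, 31), (3, 3), (1, 9), (3, 39), (1, 30), (3, 35), (2, 28), (1, 33), (3, 4), (1, 13), (3, 8), (2, 29)],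
  [(3, 9), (2, 15), (1, 10), (1, 0), (3, 26), (3, 39), (3, 5), (1, 30), (1, 35), (1, 28), (3, 33), (1, 4), (1, 23), (2, 1), (2, 19), (1, 17), (3, 6), (2, 31), (3, 32), (2, 2), (1, 37), (3, 22), (1, 18), (3, 16), (1, 11), (3, 12), (3, 8), (3, 3), (1, 38), (1, 24), (3, 36), (1, 14), (3, 7), (1, 13)],
  [(1, 7), (3, 0), (2, 1), (3, 15), (3, 2), (3, 5), (3, 37), (3, 33), (3, 26), (1, 28), (1, 34), (3, 38), (3, 31), (2, 16), (2, 11), (2, 6), (2, 35)],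
  [(1, 23), (1, 0), (1, 1), (3, 15), (2, 19), (3, 17), (2, 6), (3, 21), (2, 5), (2, 26), (1, 28), (3, 32), (1, 34), (2, 4), (2, 2), (1, 37), (3, 22), (1, 18), (3, 16), (1, 11), (2, 29), (3, 12), (3, 8), (3, 38), (2, 9), (1, 24), (3, 36), (1, 14), (3, 7)],
  [(1, 24), (3, 0), (2, 1), (2, 10), (3, 18), (3, 21), (1, 33), (2, 26), (1, 28), (3, 5), (2, 34), (2, 35), (3, 36), (3, 29), (1, 4), (2, 19), (2, 6), (1, 37), (1, 8), (3, 3), (2, 31), (1, 14), (3, 9), (3, 7), (1, 13), (2, 16), (2, 11)],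
  [(3, 3), (1, 0), (2, 15), (3, 10), (2, 34), (1, 11), (3, 6), (2, 18), (2, 17), (2, 35), (2, 33), (3, 8)],
  [(3, 3), (1, 0), (1, 5), (2, 31), (2, 34), (2, 28), (3, 11), (2, 1), (1, 6), (2, 18), (2, 17), (2, 2), (2, 8), (1, 13), (2, 16)],
  [(3, 11), (2, 1), (1, 10), (1, 0), (2, 5), (1, 6), (2, 18), (2, 17), (2, 28), (2, 34), (2, 2), (3, 8), (2, 31), (3, 3), (2, 16)],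
  [(2, 0), (2, 17), (1, 1), (2, 10), (1, 6), (2, 21), (2, 28), (2, 2), (3, 8), (2, 38), (1, 3), (2, 16), (2, 11), (2, 29)],
  [(1, 13), (3, 10), (1, 5), (2, 21), (2, 28), (2, 34), (3, 8), (2, 3), (2, 38), (2, 31), (2, 29)],
  [(2, 16), (2, 1), (2, 15), (2, 10), (2, 11), (2, 6), (2, 21), (2, 34), (2, 35), (2, 33), (2, 2), (2, 3), (2, 38), (2, 29)]]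

/-- a matrix times 4, real and imaginary parts by rows -/
def aMat : List (List ℤ) := [
  [0, 0, 0, 1, 0, 0, 1, 0, 0, 0, 0, -1, 0, -1, 0, 0, -1, 0, 0, 0, 0, 1, 0, 0, -1, 0, 0, 1, 0, -1, -1, 0, 1, 0, 0, 0, 0, 0, -1, 0, 0, 0, 0, 0, 0, -1, 1, 0, -1, 0, 0, -1, 0, 0, 0, 0],
  [0, -1, 0, 0, 0, -1, 0, 0, 0, -1, 0, 0, 0, 0, -1, 0, 0, 1, 0, 0, 1, 0, 0, 0, 0, -1, -1, 0, 0, 1, -1, 0, 0, 0, 0, -1, 1, 0, 0, 0, 1, 0, -1, 0, 0, 0, 0, 0, 1, 0, 0, -1, 0, 0, 0, 0],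
  [0, 0, -1, 0, 1, 0, 0, 0, -1, 0, 0, 0, 0, -1, 0, 0, 1, 0, 1, 0, -1, 0, -1, 0, 0, 0, 0, -1, -1, 0, 0, 0, 0, 0, 0, 0, 1, 0, 0, 1, 0, -1, -1, 0, 0, 0, 0, 0, -1, 0, 0, 0, 1, 0, 0, 0],
  [0, -1, 0, 0, 0, 0, -1, 0, 0, 0, 1, 0, 0, 0, 1, 0, 0, 1, 1, 0, -1, 0, 0, 1, 0, 0, -1, 0, 0, -1, 0, 0, 0, -1, 0, 1, 0, 0, 0, 0, 0, 0, 0, 0, -1, 0, 1, 0, 1, 0, 0, 0, -1, 0, 0, 0],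
  [0, -1, 0, -1, 0, 1, 1, 0, 0, 1, 1, 0, 1, 0, -1, 0, 0, 0, 0, 0, 0, 0, 0, 0, 0, 0, 0, 0, 0, 0, 0, 0, -1, 0, 1, 0, 0, -1, -1, 0, 0, 0, 0, 0, 0, 0, 0, 0, 0, 1, -1, 0, 0, -1, 0, 1],
  [1, 0, 0, 1, 0, -1, 1, 0, 0, -1, 0, 0, 0, 0, 0, 1, 1, 0, -1, 0, 0, 0, 0, 0, 0, 1, -1, 0, 0, 0, 0, 0, 0, 0, 0, 1, 0, 0, -1, 0, 0, 0, 0, -1, 0, 1, 0, 0, 0, 0, 0, 1, 0, 0, 0, 1],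
  [0, -1, 1, 0, 0, 0, 0, 0, 0, 0, 0, -1, 0, 0, -1, 0, 0, -1, 0, 0, 0, 0, -1, 0, 0, 0, 0, -1, 0, 0, 0, 1, 0, 1, 0, 1, -1, 0, 1, 0, 1, 0, 0, 0, 0, 0, 1, 0, 0, 0, 0, 0, 0, 1, -1, 0],
  [-1, 0, 1, 0, 0, 0, 0, 0, 0, 0, 0, 0, 0, -1, 0, -1, 0, 0, 0, 1, 0, 0, 1, 0, -1, 0, 0, 0, 0, 0, 0, -1, 0, 0, -1, 0, 0, 0, 1, 0, 0, -1, 0, -1, 0, 1, 0, 1, 0, 1, 0, 0, 0, 0, 0, 1],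
  [1, 0, -1, 0, 0, 0, 0, 0, 0, 1, -1, 0, 0, 0, 0, 0, 0, 0, 1, 0, 0, 0, 0, 1, 0, 0, 0, 1, 0, 1, 0, 0, 0, -1, 0, 0, -1, 0, 0, 0, 1, 0, 0, -1, 1, 0, 0, 1, 0, 0, -1, 0, 0, 1, 0, 0],
  [0, 0, 0, 0, 0, 0, 0, 0, 1, 0, 1, 0, 0, 1, -1, 0, 0, 0, 0, 0, 0, 0, 0, 0, 1, 0, 0, 1, -1, 0, 1, 0, 1, 0, -1, 0, 1, 0, 0, 1, 0, -1, 1, 0, 1, 0, 1, 0, 0, 0, 0, 0, 0, 0, 0, 0],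
  [0, 0, 0, 0, 0, 1, 0, -1, 0, 0, -1, 0, 0, 0, 0, -1, 1, 0, 0, 0, 0, 0, 0, 1, -1, 0, 0, 0, 0, 1, 0, 0, 0, 1, 0, 1, 1, 0, -1, 0, 0, 0, 1, 0, 0, -1, 0, 0, 1, 0, 1, 0, 0, 0, 0, 0],
  [1, 0, 1, 0, 0, 1, 0, -1, 0, 0, 1, 0, 0, -1, 0, 0, 0, 1, 0, -1, 0, 0, 0, 0, 0, 0, 0, 0, 0, 1, 0, -1, 1, 0, 0, 0, -1, 0, 0, 0, 0, 0, 0, 1, 0, 1, 0, 0, 0, -1, 0, 0, 1, 0, 0, 0],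
  [0, 0, 0, 1, 0, 0, -1, 0, 0, 0, 0, -1, 0, 1, 0, 0, 0, 1, 0, 0, 1, 0, 0, 0, -1, 0, 0, -1, 0, -1, 1, 0, 0, 0, 1, 0, 0, -1, 0, 0, 0, 0, 0, 0, 1, 0, 0, 1, 0, 0, 0, 0, 1, 0, 1, 0],
  [0, 0, 0, 1, 0, 1, 0, 0, 0, -1, 0, 0, -1, 0, 0, 0, -1, 0, 0, 1, -1, 0, 0, -1, 0, 0, -1, 0, 0, 1, 0, 0, -1, 0, 1, 0, 0, 0, 0, 0, 0, -1, 1, 0, 0, 0, 0, 0, 0, 0, -1, 0, 0, 0, 0, -1],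
  [-1, 0, 0, 0, 0, 0, -1, 0, 0, 0, 0, 0, 1, 0, 0, 1, 0, 0, 0, 0, 0, 1, 0, -1, 0, 1, 0, 0, 0, 1, 0, 0, 0, -1, 0, 0, 0, 0, -1, 0, 0, 0, 0, 1, 0, 0, 0, 1, 0, 1, 1, 0, 0, 1, -1, 0],
  [0, 1, 0, 0, -1, 0, 0, 0, -1, 0, 0, -1, 0, 1, -1, 0, 0, 0, 0, -1, -1, 0, 0, 0, 0, 0, 0, 0, 1, 0, 0, -1, 0, 0, 0, 0, 0, 1, 0, 1, 1, 0, 0, 0, -1, 0, 0, 0, 0, 1, 0, 0, 0, 0, 1, 0],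
  [0, 0, 0, 1, 0, 0, -1, 0, -1, 0, 0, 0, 0, 0, 0, 1, 0, 0, 1, 0, 0, 0, 1, 0, 1, 0, 1, 0, -1, 0, -1, 0, 0, 1, 0, 0, 0, 0, 0, -1, 1, 0, 1, 0, 0, 0, 0, 0, 0, 0, 0, 0, 0, -1, 0, 1],
  [0, 0, -1, 0, 0, 1, 0, 0, 0, 0, 0, 0, 0, 1, 1, 0, 0, 1, -1, 0, 0, 0, 0, 0, 0, 1, 0, 0, 0, 1, 0, 0, 0, 1, 0, 0, 0, 0, 1, 0, 0, 0, -1, 0, 0, 0, 1, 0, -1, 0, 0, -1, -1, 0, 0, 1],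
  [0, -1, 0, 0, 0, 1, 0, 0, 0, 0, -1, 0, -1, 0, 0, 0, 0, 0, 0, -1, 0, 0, 0, -1, 1, 0, -1, 0, 0, -1, 0, -1, 0, 0, -1, 0, 0, -1, 0, 0, 0, 0, 0, 0, 0, -1, -1, 0, 0, 0, 0, 0, 0, 1, 0, 1],
  [0, 1, 0, 0, 0, 0, 0, -1, 0, -1, 0, 1, 0, 0, 0, 0, 1, 0, 0, -1, 0, 0, 0, 0, 0, -1, 0, 0, 0, -1, 0, 0, 0, 0, 1, 0, -1, 0, 0, 0, 0, -1, 0, 0, 1, 0, 0, 0, 0, 1, 0, -1, -1, 0, -1, 0],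
  [0, 1, 0, 0, 0, 0, 0, -1, 0, 0, 0, 0, 1, 0, 0, -1, 0, 0, 0, 0, 0, 1, 0, -1, 0, 0, -1, 0, 0, 0, 0, 1, 0, -1, 0, 0, 0, 0, 1, 0, 1, 0, 0, 0, 0, -1, 0, 0, 0, -1, 0, 1, 0, -1, 0, 1],
  [0, 0, 1, 0, 1, 0, 0, 0, 0, -1, 0, 0, 1, 0, 0, 0, -1, 0, 0, -1, -1, 0, 0, 1, 0, 1, 0, 0, 0, 0, 0, 1, -1, 0, -1, 0, 0, 0, 0, 0, 0, 0, 0, 0, 1, 0, -1, 0, 0, 0, 0, -1, 0, 0, 1, 0],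
  [0, 1, 0, 0, 0, 0, -1, 0, 0, 0, 0, -1, 0, 0, 0, -1, -1, 0, -1, 0, 0, -1, 0, 1, 1, 0, 0, 0, 0, 0, -1, 0, 0, 0, 0, 0, 0, -1, -1, 0, 0, -1, -1, 0, 0, 0, 0, 0, 0, 0, 0, 1, 0, 0, -1, 0],
  [0, 0, 0, 1, 1, 0, 0, 0, 0, 1, 0, -1, 0, 0, 0, 0, 0, 0, 0, 0, 0, -1, 0, -1, 0, 0, 0, 1, 0, 0, 1, 0, 0, 0, 0, 1, 0, 1, 0, 0, 0, 0, -1, 0, 0, 0, -1, 0, 1, 0, 0, -1, 0, -1, -1, 0],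
  [0, 1, 1, 0, 1, 0, 0, -1, 0, 1, 0, 0, 0, 0, 0, 1, 0, 0, 0, 0, 0, -1, 1, 0, 0, -1, -1, 0, 0, 0, 0, 0, -1, 0, 0, 0, 1, 0, 0, 0, 0, 1, 0, 0, 0, 0, 1, 0, -1, 0, 0, 0, 0, 1, 0, 0],
  [0, 0, 0, 0, 0, 1, -1, 0, 0, -1, -1, 0, 0, 0, 0, 0, 0, -1, 0, 0, 0, 1, 0, 0, 0, -1, 0, 0, 0, 0, 1, 0, 0, 0, -1, 0, 0, 0, -1, 0, 0, 1, -1, 0, 0, 1, 1, 0, 0, 0, -1, 0, 0, -1, 0, 0],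
  [0, 0, 0, 0, 0, 1, 0, 1, 0, -1, 0, 0, 0, -1, 0, 0, 0, 0, 0, -1, 0, -1, 0, 0, 0, 0, 0, 1, 0, 0, 0, 1, 1, 0, 1, 0, 1, 0, 1, 0, 0, 1, 0, 0, 0, 0, 0, 1, 0, 1, 0, 1, 0, 0, 0, 0],
  [-1, 0, 0, 1, -1, 0, -1, 0, 0, 1, 0, 1, 0, -1, -1, 0, 0, 1, -1, 0, -1, 0, -1, 0, 0, 0, 0, 0, 0, 0, 0, 0, 0, 0, 0, 0, 0, 0, 0, 0, 0, 1, 0, -1, 1, 0, 0, -1, 0, 0, 0, 0, 0, 0, 0, 0]]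

/-- its rows in the lattice modulo 4 -/
def aRows : List (List ℕ) := [
  [0, 0, 0, 1, 2, 3, 0, 2, 0, 0, 0, 3, 1, 0, 3, 0, 1, 1, 0, 1, 1, 1, 0, 0, 1, 3, 2, 3, 2, 3, 1, 2, 1, 0, 1, 0, 0, 1, 0, 0, 0, 0],
  [0, 1, 1, 1, 3, 3, 2, 2, 0, 2, 3, 3, 1, 1, 3, 1, 2, 3, 0, 1, 3, 0, 1, 0, 3, 2, 2, 3, 1, 0, 0, 1, 0, 0, 0, 0, 3, 1, 0, 0, 0, 0],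
  [0, 0, 1, 1, 1, 2, 3, 3, 1, 2, 3, 2, 1, 2, 1, 2, 1, 2, 1, 1, 3, 1, 0, 0, 1, 1, 0, 0, 1, 0, 1, 1, 0, 1, 1, 0, 0, 0, 0, 0, 0, 0],
  [0, 1, 1, 1, 3, 0, 3, 3, 2, 2, 1, 3, 1, 1, 3, 3, 0, 3, 1, 1, 3, 1, 1, 0, 3, 2, 3, 1, 0, 0, 1, 1, 1, 0, 0, 0, 0, 1, 0, 0, 0, 0],
  [0, 1, 1, 0, 1, 2, 0, 2, 0, 2, 0, 3, 0, 1, 3, 2, 1, 1, 2, 1, 3, 0, 0, 0, 2, 2, 2, 3, 1, 0, 1, 1, 0, 0, 0, 0, 1, 0, 0, 0, 0, 0],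
  [3, 0, 3, 0, 1, 0, 1, 0, 2, 0, 3, 2, 3, 3, 2, 1, 0, 3, 0, 1, 1, 0, 0, 0, 1, 0, 1, 3, 1, 0, 0, 2, 0, 1, 1, 0, 0, 0, 0, 0, 0, 0],
  [0, 1, 0, 0, 3, 3, 0, 0, 3, 0, 1, 1, 1, 0, 1, 3, 3, 1, 3, 0, 2, 0, 1, 0, 2, 3, 1, 3, 2, 3, 1, 0, 1, 0, 0, 1, 0, 1, 0, 0, 0, 0],
  [1, 0, 0, 0, 1, 1, 1, 1, 1, 2, 0, 3, 0, 3, 3, 0, 1, 0, 1, 0, 1, 1, 0, 0, 1, 3, 1, 3, 1, 0, 0, 1, 1, 1, 0, 1, 3, 1, 0, 0, 0, 0],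
  [3, 0, 0, 0, 3, 3, 3, 3, 3, 3, 2, 0, 0, 2, 0, 3, 1, 1, 3, 1, 2, 0, 0, 0, 3, 2, 2, 3, 1, 0, 1, 1, 1, 1, 1, 0, 0, 0, 0, 0, 0, 0],
  [0, 0, 0, 0, 0, 0, 0, 0, 3, 0, 0, 2, 0, 0, 0, 2, 0, 0, 2, 0, 1, 0, 0, 0, 2, 0, 0, 0, 0, 0, 0, 0, 0, 1, 1, 0, 3, 1, 0, 0, 0, 0],
  [0, 0, 0, 0, 0, 1, 0, 2, 2, 2, 2, 0, 1, 1, 2, 3, 2, 0, 3, 0, 0, 1, 1, 0, 3, 0, 0, 0, 0, 0, 0, 1, 1, 1, 0, 1, 3, 1, 0, 0, 0, 0],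
  [3, 0, 2, 2, 3, 2, 3, 0, 3, 0, 3, 2, 3, 1, 1, 2, 1, 1, 2, 0, 3, 0, 0, 0, 1, 1, 0, 0, 0, 0, 0, 1, 1, 1, 1, 1, 1, 0, 0, 0, 0, 0],
  [0, 0, 0, 1, 2, 3, 2, 1, 0, 0, 3, 3, 1, 0, 1, 0, 1, 0, 1, 1, 1, 1, 1, 0, 1, 0, 1, 0, 1, 0, 1, 2, 1, 1, 0, 0, 1, 0, 0, 0, 0, 0],
  [0, 0, 0, 1, 2, 0, 1, 1, 2, 2, 3, 0, 1, 1, 0, 2, 2, 3, 2, 1, 2, 1, 0, 0, 1, 2, 3, 2, 3, 1, 0, 2, 0, 1, 1, 0, 0, 0, 0, 0, 0, 0],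
  [1, 0, 1, 1, 1, 2, 0, 2, 0, 0, 3, 2, 0, 1, 2, 2, 3, 0, 2, 1, 3, 1, 0, 0, 2, 1, 3, 2, 3, 1, 0, 0, 1, 0, 0, 0, 0, 0, 0, 0, 0, 0],
  [0, 3, 3, 3, 0, 3, 1, 1, 2, 2, 2, 3, 0, 3, 2, 2, 3, 0, 3, 0, 1, 1, 0, 0, 3, 0, 1, 3, 1, 0, 0, 3, 0, 0, 0, 1, 1, 0, 0, 0, 0, 0],
  [0, 0, 0, 1, 2, 3, 2, 3, 1, 0, 0, 0, 0, 3, 0, 3, 1, 1, 0, 1, 2, 1, 1, 0, 1, 3, 2, 3, 1, 0, 0, 1, 1, 0, 1, 1, 1, 0, 0, 0, 0, 0],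
  [0, 0, 1, 1, 0, 2, 2, 1, 1, 1, 0, 1, 1, 3, 2, 0, 0, 2, 1, 1, 0, 1, 0, 0, 2, 1, 0, 0, 0, 0, 1, 1, 1, 0, 1, 0, 3, 1, 0, 0, 0, 0],
  [0, 1, 1, 1, 3, 1, 2, 1, 0, 1, 2, 2, 2, 3, 2, 0, 2, 1, 2, 1, 1, 0, 1, 0, 3, 0, 1, 0, 0, 0, 0, 2, 1, 1, 1, 0, 0, 0, 0, 0, 0, 0],
  [0, 3, 3, 3, 1, 0, 2, 1, 2, 0, 3, 3, 3, 1, 0, 1, 1, 0, 3, 0, 1, 1, 0, 0, 3, 3, 2, 3, 2, 3, 1, 0, 1, 1, 0, 1, 1, 0, 0, 0, 0, 0],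
  [0, 3, 3, 3, 1, 0, 2, 1, 2, 1, 0, 0, 3, 0, 0, 1, 3, 3, 2, 1, 0, 1, 0, 0, 3, 0, 1, 3, 2, 3, 1, 1, 1, 0, 1, 0, 0, 0, 0, 0, 0, 0],
  [0, 0, 3, 3, 1, 0, 3, 2, 2, 1, 2, 2, 2, 2, 0, 3, 3, 3, 2, 0, 1, 1, 1, 0, 3, 0, 1, 0, 0, 1, 0, 1, 0, 0, 0, 0, 0, 1, 0, 0, 0, 0],
  [0, 3, 3, 3, 1, 0, 3, 0, 2, 2, 1, 1, 0, 0, 0, 2, 0, 0, 2, 0, 2, 1, 1, 0, 3, 3, 1, 0, 1, 0, 1, 1, 0, 0, 0, 1, 0, 0, 0, 0, 0, 0],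
  [0, 0, 0, 1, 3, 0, 2, 3, 1, 1, 1, 1, 1, 3, 0, 0, 2, 0, 0, 0, 0, 0, 1, 0, 2, 0, 1, 0, 0, 0, 1, 3, 0, 1, 1, 0, 1, 0, 0, 0, 0, 0],
  [0, 3, 2, 2, 2, 0, 1, 1, 0, 0, 2, 1, 3, 1, 0, 1, 1, 2, 2, 1, 2, 0, 1, 0, 0, 2, 2, 3, 1, 3, 1, 1, 1, 1, 1, 0, 3, 1, 0, 0, 0, 0],
  [0, 0, 0, 0, 0, 1, 1, 1, 2, 2, 2, 2, 0, 1, 0, 3, 0, 1, 1, 1, 3, 1, 1, 0, 3, 1, 3, 2, 2, 3, 1, 0, 1, 0, 1, 1, 1, 0, 0, 0, 0, 0],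
  [0, 0, 0, 0, 0, 1, 0, 3, 2, 3, 1, 0, 3, 0, 3, 0, 0, 1, 3, 0, 2, 0, 1, 0, 1, 2, 2, 3, 2, 3, 1, 2, 0, 0, 1, 0, 1, 0, 0, 0, 0, 0],
  [1, 0, 1, 2, 2, 0, 0, 2, 3, 1, 3, 1, 0, 3, 0, 2, 1, 1, 0, 0, 0, 0, 1, 0, 2, 1, 0, 0, 1, 0, 1, 0, 0, 1, 1, 1, 1, 0, 0, 0, 0, 0]]

/-- images of the rows in the lattice modulo 4 -/
def aImg : List (List ℕ) := [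
  [2, 0, 2, 0, 1, 2, 3, 2, 3, 2, 3, 2, 2, 3, 1, 3, 2, 1, 1, 1, 1, 1, 0, 0, 0, 0, 1, 3, 2, 3, 1, 2, 0, 1, 1, 1, 0, 1, 0, 0, 0, 0],
  [0, 0, 1, 3, 1, 1, 3, 1, 3, 3, 3, 3, 3, 3, 2, 1, 2, 1, 0, 0, 1, 1, 0, 0, 0, 3, 2, 3, 2, 3, 1, 1, 0, 1, 1, 0, 0, 0, 0, 0, 0, 0],
  [3, 0, 1, 3, 0, 0, 1, 0, 0, 3, 2, 0, 0, 1, 0, 3, 1, 0, 0, 0, 0, 0, 1, 0, 1, 1, 3, 2, 3, 1, 0, 0, 0, 1, 0, 0, 3, 1, 0, 0, 0, 0],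
  [0, 3, 2, 3, 0, 1, 1, 1, 3, 0, 2, 3, 1, 3, 3, 1, 2, 0, 0, 1, 3, 1, 0, 0, 0, 1, 0, 0, 0, 0, 0, 3, 0, 1, 0, 1, 0, 1, 0, 0, 0, 0],
  [1, 0, 0, 1, 3, 3, 0, 2, 1, 0, 3, 1, 0, 0, 3, 2, 1, 3, 2, 0, 2, 0, 1, 0, 2, 3, 1, 0, 0, 1, 0, 2, 0, 1, 0, 1, 0, 0, 0, 0, 0, 0],
  [3, 0, 2, 2, 0, 1, 2, 2, 3, 1, 0, 3, 2, 2, 1, 0, 2, 1, 1, 1, 3, 0, 1, 0, 1, 1, 0, 0, 1, 0, 1, 1, 0, 0, 1, 1, 0, 1, 0, 0, 0, 0],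
  [1, 0, 2, 2, 3, 0, 1, 0, 3, 2, 3, 0, 2, 3, 3, 0, 3, 2, 2, 0, 0, 1, 0, 0, 0, 1, 0, 1, 3, 1, 0, 0, 0, 0, 1, 1, 0, 1, 0, 0, 0, 0],
  [0, 0, 0, 3, 2, 2, 1, 0, 3, 3, 2, 2, 1, 2, 2, 3, 2, 3, 2, 0, 3, 0, 0, 0, 2, 1, 0, 0, 0, 0, 0, 0, 1, 0, 0, 1, 0, 1, 0, 0, 0, 0],
  [1, 1, 2, 0, 0, 1, 2, 3, 0, 1, 0, 1, 2, 2, 0, 3, 3, 2, 0, 1, 2, 0, 0, 0, 2, 2, 3, 1, 0, 1, 0, 3, 0, 1, 0, 1, 3, 1, 0, 0, 0, 0],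
  [3, 3, 1, 3, 3, 3, 3, 0, 1, 2, 2, 3, 3, 3, 2, 0, 3, 3, 0, 1, 3, 1, 0, 0, 3, 2, 3, 1, 0, 0, 1, 0, 0, 1, 1, 1, 0, 0, 0, 0, 0, 0],
  [0, 3, 3, 3, 0, 1, 1, 3, 0, 2, 2, 0, 2, 3, 1, 0, 3, 2, 1, 0, 0, 1, 1, 0, 0, 0, 0, 0, 0, 0, 1, 2, 1, 0, 0, 1, 0, 1, 0, 0, 0, 0],
  [1, 3, 2, 0, 0, 2, 3, 1, 0, 1, 1, 1, 0, 2, 3, 1, 0, 0, 1, 0, 0, 0, 0, 0, 3, 1, 3, 1, 0, 1, 0, 1, 0, 0, 0, 1, 1, 0, 0, 0, 0, 0],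
  [0, 1, 2, 2, 0, 2, 1, 2, 3, 2, 0, 0, 0, 2, 1, 1, 3, 0, 2, 0, 0, 1, 1, 0, 3, 1, 0, 1, 0, 0, 1, 2, 1, 1, 1, 0, 1, 0, 0, 0, 0, 0],
  [1, 2, 1, 3, 0, 3, 0, 0, 2, 2, 3, 2, 2, 3, 2, 3, 1, 1, 3, 1, 3, 1, 1, 0, 2, 2, 2, 2, 3, 1, 0, 3, 0, 1, 0, 0, 1, 0, 0, 0, 0, 0],
  [2, 3, 2, 1, 1, 1, 3, 0, 3, 2, 1, 2, 1, 2, 3, 3, 0, 0, 1, 1, 1, 1, 0, 0, 2, 0, 0, 0, 0, 0, 1, 1, 1, 1, 0, 0, 0, 1, 0, 0, 0, 0],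
  [3, 3, 3, 2, 2, 0, 1, 1, 0, 1, 0, 3, 3, 3, 3, 3, 2, 2, 1, 1, 1, 1, 1, 0, 0, 0, 0, 0, 1, 3, 1, 1, 0, 0, 1, 1, 0, 0, 0, 0, 0, 0],
  [0, 3, 2, 3, 2, 0, 2, 1, 1, 2, 1, 2, 2, 1, 0, 3, 1, 2, 0, 0, 1, 1, 0, 0, 3, 3, 1, 3, 1, 0, 0, 3, 0, 1, 0, 1, 0, 1, 0, 0, 0, 0],
  [2, 2, 1, 2, 1, 2, 0, 3, 1, 0, 3, 0, 2, 0, 2, 3, 0, 0, 3, 0, 0, 0, 0, 0, 2, 1, 0, 1, 0, 0, 0, 0, 1, 0, 0, 0, 0, 1, 0, 0, 0, 0],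
  [2, 3, 2, 0, 1, 3, 2, 0, 1, 1, 1, 0, 2, 3, 3, 2, 3, 1, 3, 0, 0, 1, 1, 0, 1, 1, 0, 0, 0, 0, 1, 1, 0, 1, 0, 1, 0, 0, 0, 0, 0, 0],
  [2, 3, 2, 3, 1, 3, 2, 3, 3, 1, 0, 3, 2, 1, 3, 0, 2, 2, 2, 0, 1, 1, 1, 0, 0, 3, 1, 3, 2, 3, 1, 1, 1, 0, 1, 0, 0, 0, 0, 0, 0, 0],
  [1, 3, 1, 3, 1, 3, 2, 1, 2, 1, 1, 3, 1, 3, 2, 3, 3, 1, 3, 0, 1, 0, 1, 0, 1, 0, 0, 0, 0, 1, 0, 3, 0, 1, 0, 0, 1, 0, 0, 0, 0, 0],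
  [2, 3, 2, 1, 0, 1, 0, 1, 1, 0, 2, 2, 2, 1, 1, 1, 1, 3, 2, 1, 3, 1, 1, 0, 0, 1, 0, 1, 3, 1, 0, 2, 1, 0, 0, 1, 0, 1, 0, 0, 0, 0],
  [1, 0, 3, 1, 2, 2, 3, 2, 2, 3, 3, 0, 3, 0, 2, 2, 1, 0, 0, 1, 0, 1, 0, 0, 2, 1, 0, 0, 0, 1, 0, 3, 1, 1, 0, 1, 1, 0, 0, 0, 0, 0],
  [1, 3, 1, 2, 0, 0, 0, 0, 1, 3, 3, 3, 0, 1, 0, 2, 2, 0, 3, 0, 1, 0, 0, 0, 3, 0, 1, 0, 1, 0, 0, 3, 0, 0, 1, 0, 0, 1, 0, 0, 0, 0],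
  [2, 0, 0, 1, 1, 3, 1, 0, 0, 1, 3, 2, 3, 2, 3, 3, 0, 2, 0, 1, 1, 1, 1, 0, 1, 3, 1, 0, 1, 0, 0, 2, 1, 0, 0, 1, 1, 0, 0, 0, 0, 0],
  [2, 0, 0, 1, 3, 3, 3, 1, 0, 2, 0, 2, 3, 0, 1, 3, 1, 1, 0, 1, 1, 1, 1, 0, 3, 3, 1, 3, 1, 0, 0, 3, 0, 0, 1, 1, 3, 1, 0, 0, 0, 0],
  [2, 0, 0, 2, 1, 1, 3, 0, 1, 3, 3, 2, 2, 3, 3, 3, 3, 3, 1, 1, 3, 1, 0, 0, 0, 2, 3, 2, 3, 1, 0, 0, 1, 0, 1, 1, 3, 1, 0, 0, 0, 0],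
  [3, 3, 2, 1, 2, 2, 0, 3, 1, 1, 3, 1, 3, 0, 2, 0, 2, 3, 3, 1, 2, 0, 1, 0, 0, 2, 3, 1, 0, 1, 0, 0, 0, 1, 0, 0, 1, 0, 0, 0, 0, 0],
  [2, 0, 3, 1, 1, 3, 3, 1, 0, 0, 2, 1, 0, 2, 3, 3, 1, 1, 3, 0, 0, 1, 1, 0, 1, 0, 1, 0, 1, 0, 0, 0, 1, 0, 0, 0, 0, 0, 0, 0, 0, 0],
  [2, 1, 1, 2, 1, 0, 3, 1, 0, 1, 1, 0, 1, 2, 3, 1, 0, 2, 0, 1, 2, 1, 0, 0, 1, 3, 1, 3, 1, 3, 1, 1, 1, 1, 0, 1, 1, 0, 0, 0, 0, 0],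
  [2, 3, 1, 3, 3, 1, 2, 0, 0, 0, 1, 1, 1, 1, 0, 2, 3, 3, 2, 0, 0, 0, 0, 0, 1, 1, 0, 0, 0, 1, 0, 0, 1, 0, 1, 0, 0, 1, 0, 0, 0, 0],
  [0, 0, 2, 3, 0, 1, 1, 0, 1, 0, 3, 1, 3, 3, 2, 3, 0, 0, 0, 0, 2, 0, 1, 0, 1, 3, 1, 3, 2, 3, 1, 2, 1, 0, 0, 1, 0, 1, 0, 0, 0, 0],
  [1, 3, 1, 2, 0, 1, 0, 2, 3, 1, 0, 2, 0, 3, 1, 2, 3, 1, 2, 1, 1, 0, 0, 0, 1, 0, 0, 1, 0, 0, 0, 2, 1, 0, 0, 0, 3, 1, 0, 0, 0, 0],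
  [0, 0, 0, 0, 3, 1, 3, 0, 3, 1, 2, 1, 3, 0, 0, 0, 0, 3, 0, 0, 0, 1, 0, 0, 2, 0, 0, 0, 1, 0, 0, 0, 0, 1, 0, 0, 0, 1, 0, 0, 0, 0],
  [2, 3, 1, 2, 0, 0, 0, 1, 1, 2, 3, 3, 2, 3, 2, 0, 1, 3, 3, 0, 1, 1, 1, 0, 2, 3, 1, 3, 1, 0, 1, 3, 0, 0, 1, 1, 0, 1, 0, 0, 0, 0],
  [1, 3, 0, 2, 2, 2, 0, 0, 1, 1, 0, 0, 2, 0, 1, 2, 1, 2, 3, 1, 0, 1, 0, 0, 1, 0, 0, 0, 1, 0, 1, 0, 0, 1, 0, 1, 0, 0, 0, 0, 0, 0],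
  [1, 0, 1, 2, 3, 1, 1, 0, 0, 3, 1, 0, 0, 2, 2, 3, 1, 0, 2, 1, 2, 0, 0, 0, 2, 3, 1, 3, 2, 3, 1, 2, 1, 0, 0, 1, 1, 0, 0, 0, 0, 0],
  [0, 3, 3, 3, 1, 0, 3, 1, 2, 0, 2, 0, 0, 2, 3, 0, 3, 0, 3, 0, 0, 0, 0, 0, 3, 0, 0, 1, 0, 0, 0, 2, 0, 1, 1, 0, 0, 0, 0, 0, 0, 0],
  [1, 0, 2, 3, 2, 2, 2, 1, 0, 1, 0, 2, 1, 1, 0, 3, 3, 2, 3, 0, 1, 0, 0, 0, 0, 3, 1, 0, 1, 3, 1, 0, 1, 1, 1, 0, 3, 1, 0, 0, 0, 0],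
  [1, 0, 1, 2, 3, 2, 0, 0, 2, 1, 1, 2, 2, 1, 0, 1, 3, 1, 2, 0, 3, 1, 1, 0, 1, 2, 2, 3, 1, 3, 1, 2, 1, 1, 1, 1, 1, 0, 0, 0, 0, 0],
  [1, 0, 2, 3, 3, 3, 3, 3, 2, 0, 2, 1, 3, 0, 2, 0, 2, 2, 1, 1, 2, 1, 1, 0, 0, 2, 2, 3, 1, 0, 0, 3, 1, 0, 1, 0, 0, 1, 0, 0, 0, 0],
  [1, 0, 1, 2, 2, 1, 0, 2, 1, 2, 2, 1, 1, 1, 2, 1, 3, 3, 1, 0, 0, 1, 1, 0, 1, 0, 1, 0, 0, 0, 1, 3, 0, 1, 1, 1, 1, 0, 0, 0, 0, 0]]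

/-- a matrix times 4, real and imaginary parts by rows -/
def aStarMat : List (List ℤ) := [
  [0, 0, 0, 1, 0, 0, 0, 1, 0, 1, 1, 0, 0, 1, -1, 0, 1, 0, 0, 0, 0, 0, 1, 0, 0, 0, 0, 0, -1, 0, 0, -1, 0, 0, 0, 0, 0, 1, 0, -1, 0, -1, 0, 0, 0, -1, 0, 0, 0, -1, 0, 0, 0, 0, -1, 0],
  [0, -1, 0, 0, -1, 0, 0, 0, 0, 1, 0, -1, 1, 0, 1, 0, -1, 0, 0, 0, 0, 0, 1, 0, 0, -1, 0, -1, 0, 0, 0, 0, 0, -1, -1, 0, 0, 0, 0, 0, 0, 0, 1, 0, 0, 0, 0, -1, 1, 0, 0, 0, 0, 0, 0, -1],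
  [0, 0, 0, 1, 1, 0, 0, 0, 0, -1, 0, 1, 0, 0, 0, 0, 0, 0, 0, 0, 0, -1, 0, -1, 0, 0, 0, -1, 0, 0, -1, 0, 0, 0, 0, -1, 0, -1, 0, 0, 0, 0, 1, 0, 0, 0, 1, 0, 1, 0, 0, -1, 0, -1, -1, 0],
  [1, 0, 0, 0, 0, 0, -1, 0, 1, 0, 1, 0, 0, 0, 0, 0, 0, 0, 0, 0, 0, 1, 0, 1, -1, 0, 0, 0, -1, 0, 0, 0, -1, 0, 0, 0, 0, 0, 0, 1, 0, 1, 0, 0, -1, 0, 0, 0, 0, 1, -1, 0, 0, -1, -1, 0],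
  [0, 0, 0, 1, -1, 0, 0, 0, 0, -1, 0, 1, 0, 0, 0, 0, 0, -1, 1, 0, 0, 0, 0, 0, 0, 0, 0, 1, 0, 0, -1, 0, -1, 0, 0, 0, 0, 0, 0, 1, 0, 0, 0, 1, 0, 0, 0, -1, 0, -1, 0, 1, 0, 1, 0, -1],
  [0, 1, 0, 0, 0, 0, 1, 0, 1, 0, 0, 0, 0, 1, 0, 0, -1, 0, 1, 0, -1, 0, 1, 0, 0, 1, 0, 0, 0, 0, 0, 1, 0, 0, 0, 0, -1, 0, 0, -1, 0, 0, 0, 0, 0, 1, 0, 1, 0, 0, -1, 0, 0, 0, 0, -1],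
  [0, 1, 0, 0, 0, 1, 0, 0, 1, 0, 0, 0, 0, 0, 0, 1, 0, 0, 0, -1, 0, 0, 0, 1, 0, -1, -1, 0, 1, 0, 0, -1, 0, 0, 0, -1, -1, 0, 0, 0, 1, 0, 1, 0, 0, 0, 0, 0, 0, 0, 0, 0, 0, 1, 0, 1],
  [0, 0, -1, 0, 0, 0, 1, 0, -1, 0, 0, -1, -1, 0, 0, 1, 0, 0, -1, 0, 0, 1, 0, 0, 0, 0, 0, 0, 0, -1, -1, 0, 0, -1, 1, 0, 0, 0, 0, 0, 0, 1, 0, 0, 0, 1, 0, 0, 0, -1, 0, 0, 0, 0, -1, 0],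
  [-1, 0, 0, -1, 1, 0, 0, -1, 0, 0, 1, 0, 0, 1, 0, 0, 0, 0, 0, 0, 1, 0, 0, -1, 0, -1, -1, 0, 0, 0, 0, 0, 0, 0, 0, -1, 0, 0, 1, 0, 0, 0, -1, 0, -1, 0, 0, 0, 0, 0, 0, 1, 0, 0, 0, -1],
  [0, 0, 0, 0, 1, 0, 1, 0, 0, 0, -1, 0, 0, 0, 0, -1, 1, 0, 0, 0, 0, 0, 0, 1, 0, 0, 0, -1, 0, 0, 0, 1, 1, 0, -1, 0, 0, 1, 0, 1, 0, 0, 0, 1, -1, 0, 0, 0, 0, 0, 0, 0, 0, 1, -1, 0],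
  [0, -1, 1, 0, -1, 0, -1, 0, 0, 0, 0, 0, 0, 0, 0, 0, 0, 0, 0, 0, 0, 0, 0, 0, 1, 0, -1, 0, 0, -1, -1, 0, 0, 0, 0, 0, 0, 0, 0, 0, 0, -1, -1, 0, 0, 1, 0, 1, 0, 1, 0, -1, 0, 1, -1, 0],
  [0, 0, 0, 0, -1, 0, 0, -1, 0, 0, 0, 0, -1, 0, 1, 0, 0, -1, 0, 0, 0, -1, 0, 0, 0, 0, 0, 1, 0, 1, 0, 0, 1, 0, 0, 0, 0, 1, 0, 0, 0, 1, 0, -1, 0, -1, 0, 1, 1, 0, 0, 0, 0, 0, -1, 0],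
  [-1, 0, 0, 1, 0, 0, 0, 0, 0, 0, 0, -1, 0, 0, -1, 0, 0, 0, 1, 0, -1, 0, 0, 0, -1, 0, 0, 0, 0, -1, 0, 0, 1, 0, 0, -1, 1, 0, 0, 1, 0, 0, 0, -1, 1, 0, 0, 0, 0, 1, 0, 1, 0, 0, 0, 0],
  [0, -1, -1, 0, 0, 1, -1, 0, 0, 0, -1, 0, 0, 1, 0, 0, 0, -1, 0, -1, 0, 0, 0, 0, 0, 1, -1, 0, 0, 0, 0, 0, 1, 0, 0, 0, -1, 0, 0, 0, -1, 0, 0, 0, 0, 0, 0, -1, -1, 0, 0, 0, 0, -1, 0, 0],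
  [0, 1, 0, -1, -1, 0, 0, 1, 0, 0, 0, 0, 0, 0, 0, 0, 0, -1, -1, 0, 0, -1, 0, -1, 0, 1, 0, -1, 0, -1, 1, 0, -1, 0, 0, -1, 0, 1, 0, 1, 0, 0, 0, 0, 0, 0, 0, 0, 0, 0, 0, 0, 0, 0, 0, 0],
  [-1, 0, -1, 0, 0, 0, 0, 0, 0, 0, 0, 0, 0, -1, 0, 1, 0, 0, 1, 0, 0, 0, 0, 1, 1, 0, 0, 0, 0, 0, 0, 1, -1, 0, 0, 0, 0, 1, 0, 0, 0, -1, 0, -1, -1, 0, 1, 0, 0, 0, 1, 0, 0, -1, 0, 0],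
  [1, 0, 0, 0, 0, 0, 0, 1, -1, 0, 0, 0, 0, -1, 0, 0, 0, 1, 1, 0, 0, -1, 1, 0, 0, 0, -1, 0, 0, 1, 0, 0, 0, -1, 0, -1, 0, 0, 0, 0, 0, 1, -1, 0, 0, 0, 0, 0, -1, 0, 0, 0, 1, 0, 0, 0],
  [0, 0, 0, 1, 0, 0, 0, -1, 1, 0, 0, -1, 0, -1, -1, 0, 0, 0, -1, 0, 0, -1, 0, 0, 1, 0, 1, 0, 0, 0, 0, 0, 0, 0, 0, 0, -1, 0, 1, 0, 0, 0, -1, 0, 0, 0, 0, -1, 0, 0, -1, 0, 1, 0, 0, 0],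
  [0, 0, 1, 0, 1, 0, 0, 0, 0, 1, 0, 0, -1, 0, 0, 0, -1, 0, 1, 0, 1, 0, -1, 0, 0, 1, 0, 0, 0, 0, 0, -1, 0, 0, 0, 0, 0, 1, -1, 0, 0, 0, 0, 0, 0, 1, 0, -1, 1, 0, 0, 0, 1, 0, 0, 0],
  [-1, 0, 0, 0, 0, -1, 0, 0, -1, 0, -1, 0, 1, 0, 1, 0, 0, 0, 0, -1, -1, 0, 0, 0, 0, 0, 0, 0, -1, 0, 0, -1, 0, 1, 1, 0, 0, 0, 0, 0, 1, 0, 0, 0, -1, 0, 0, 0, 0, 0, -1, 0, 1, 0, 0, 0],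
  [0, 0, 1, 0, 0, 1, 0, 0, 0, 0, 0, 0, 1, 0, 0, 1, 1, 0, 0, 1, 0, 0, 0, 0, 0, 0, 0, 1, 0, 0, 1, 0, 1, 0, 0, 0, 0, 0, 0, 1, 1, 0, 0, 0, 0, 1, 0, 0, 0, -1, 0, -1, 0, -1, 0, -1],
  [0, 0, -1, 0, -1, 0, 0, 0, 0, 0, 0, 1, 0, 0, 0, 1, 0, 1, 1, 0, 1, 0, 0, -1, 0, 0, 1, 0, 0, -1, 0, 0, 1, 0, -1, 0, 0, 0, 0, 0, 0, 0, 0, 0, -1, 0, -1, 0, 0, 0, -1, 0, 0, 0, 0, 1],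
  [0, 1, 0, 0, 0, 0, -1, 0, 0, 0, 0, -1, 0, 0, 0, -1, 1, 0, 1, 0, 0, 1, 0, -1, 1, 0, 0, 0, 0, 0, -1, 0, 0, 0, 0, 0, 0, 1, 1, 0, 0, 1, 1, 0, 0, 0, 0, 0, 0, 0, 0, -1, 0, 0, 1, 0],
  [1, 0, 0, 0, 0, 0, 1, 0, 0, 0, 0, 0, 1, 0, 0, -1, 0, -1, 1, 0, 0, 0, 0, 0, 0, -1, 0, 0, 0, -1, 0, 0, 0, 0, 1, 0, -1, 0, 0, 0, 0, 0, -1, 0, 0, 0, -1, 0, 1, 0, 1, 0, 0, -1, 0, 1],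
  [-1, 0, 1, 0, -1, 0, 1, 0, 0, -1, 0, 0, 0, 0, 0, -1, 0, 0, 0, 0, 1, 0, 0, 1, 0, 0, 0, 0, 0, -1, 0, -1, 0, 0, -1, 0, 0, 0, 0, -1, 0, 1, 0, 0, 0, 0, 1, 0, -1, 0, 0, 0, 0, -1, 0, 0],
  [0, 1, 0, 1, 0, 0, 0, 0, -1, 0, 0, -1, 0, 0, 0, 0, -1, 0, 0, 0, 1, 0, 0, 0, 0, 0, -1, 0, 1, 0, 0, 0, 0, 0, 0, 1, 0, 0, 0, 1, 0, -1, 0, 1, 0, -1, 0, 1, 0, 0, -1, 0, 0, -1, 0, 0],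
  [0, 0, 0, 0, 1, 0, -1, 0, 0, 1, 0, 0, 0, -1, 0, 0, 0, -1, 0, 0, 0, 0, 1, 0, 1, 0, 0, 0, 0, -1, 0, 0, 0, 1, -1, 0, 0, -1, -1, 0, 0, 1, 0, 0, 0, 0, 0, 1, 0, -1, 0, 1, 0, 0, 0, 0],
  [0, 0, 0, 0, 0, 0, 0, 0, 0, -1, 0, -1, -1, 0, 0, -1, 0, 0, 0, 0, 0, 0, 0, 0, 1, 0, 0, 1, -1, 0, 1, 0, 0, -1, 0, -1, 0, -1, -1, 0, 0, -1, 1, 0, -1, 0, -1, 0, 0, 0, 0, 0, 0, 0, 0, 0]]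

/-- its rows in the lattice modulo 4 -/
def aStarRows : List (List ℕ) := [
  [0, 0, 0, 1, 2, 3, 1, 3, 0, 2, 3, 1, 3, 0, 3, 2, 0, 3, 2, 1, 2, 0, 1, 0, 2, 3, 1, 3, 1, 3, 1, 1, 0, 0, 1, 1, 0, 0, 0, 0, 0, 0],
  [0, 1, 1, 1, 2, 3, 1, 2, 1, 3, 3, 1, 1, 1, 2, 2, 0, 1, 1, 0, 2, 1, 1, 0, 3, 3, 2, 3, 1, 0, 1, 3, 1, 1, 0, 0, 0, 1, 0, 0, 0, 0],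
  [0, 0, 0, 1, 3, 0, 2, 3, 1, 3, 3, 3, 3, 0, 2, 0, 2, 0, 0, 1, 1, 0, 0, 0, 3, 0, 0, 0, 1, 0, 0, 3, 1, 0, 1, 1, 0, 1, 0, 0, 0, 0],
  [3, 0, 3, 3, 3, 2, 2, 3, 3, 0, 2, 0, 3, 3, 0, 0, 1, 0, 1, 0, 0, 1, 1, 0, 0, 0, 0, 0, 0, 1, 0, 2, 0, 1, 1, 1, 1, 0, 0, 0, 0, 0],
  [0, 0, 0, 1, 1, 2, 0, 2, 3, 3, 0, 0, 3, 2, 0, 1, 1, 1, 2, 1, 0, 0, 1, 0, 3, 1, 0, 1, 0, 0, 0, 0, 1, 0, 0, 0, 0, 1, 0, 0, 0, 0],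
  [0, 3, 3, 3, 1, 0, 1, 1, 1, 2, 3, 3, 3, 3, 2, 2, 1, 2, 1, 0, 1, 0, 1, 0, 3, 0, 1, 3, 1, 0, 1, 1, 1, 1, 0, 1, 3, 1, 0, 0, 0, 0],
  [0, 3, 3, 3, 1, 1, 2, 2, 3, 1, 1, 1, 3, 2, 0, 2, 0, 3, 1, 1, 2, 1, 1, 0, 3, 2, 3, 1, 0, 0, 1, 2, 0, 1, 1, 1, 0, 0, 0, 0, 0, 0],
  [0, 0, 1, 1, 0, 1, 1, 0, 0, 2, 1, 3, 3, 2, 3, 3, 1, 0, 2, 0, 3, 1, 1, 0, 2, 1, 3, 1, 0, 1, 0, 2, 1, 0, 0, 1, 1, 0, 0, 0, 0, 0],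
  [1, 0, 1, 0, 0, 0, 3, 1, 1, 3, 0, 2, 2, 1, 1, 1, 0, 0, 2, 0, 1, 1, 1, 0, 0, 3, 1, 0, 1, 0, 0, 0, 1, 0, 0, 1, 0, 1, 0, 0, 0, 0],
  [0, 0, 0, 0, 1, 1, 0, 2, 1, 0, 2, 0, 0, 1, 3, 3, 0, 2, 3, 0, 0, 0, 0, 0, 0, 0, 1, 0, 1, 0, 1, 3, 1, 0, 0, 1, 0, 1, 0, 0, 0, 0],
  [0, 1, 0, 0, 2, 2, 0, 2, 2, 0, 0, 1, 0, 1, 3, 0, 0, 0, 0, 0, 2, 1, 0, 0, 1, 2, 3, 1, 0, 1, 0, 2, 0, 0, 0, 0, 3, 1, 0, 0, 0, 0],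
  [0, 0, 0, 0, 3, 3, 3, 3, 3, 3, 2, 0, 2, 1, 2, 2, 1, 0, 3, 0, 2, 0, 0, 0, 0, 3, 2, 2, 3, 1, 0, 1, 1, 0, 0, 1, 0, 1, 0, 0, 0, 0],
  [1, 0, 1, 2, 3, 1, 0, 2, 0, 0, 1, 3, 2, 0, 2, 1, 2, 1, 2, 1, 1, 0, 0, 0, 3, 3, 1, 3, 1, 3, 1, 1, 0, 0, 1, 1, 1, 0, 0, 0, 0, 0],
  [0, 1, 2, 2, 3, 2, 1, 2, 3, 3, 1, 3, 2, 1, 3, 1, 2, 2, 2, 1, 3, 0, 0, 0, 3, 2, 2, 2, 3, 1, 0, 1, 0, 0, 1, 1, 0, 1, 0, 0, 0, 0],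
  [0, 3, 3, 2, 2, 0, 0, 1, 1, 3, 3, 1, 2, 2, 3, 0, 3, 3, 2, 1, 2, 1, 0, 0, 3, 3, 1, 0, 1, 3, 1, 1, 0, 0, 1, 0, 1, 0, 0, 0, 0, 0],
  [1, 0, 2, 2, 1, 3, 1, 0, 3, 2, 3, 1, 2, 2, 3, 2, 0, 2, 0, 0, 2, 0, 1, 0, 2, 3, 1, 0, 0, 0, 1, 2, 0, 0, 0, 0, 3, 1, 0, 0, 0, 0],
  [3, 0, 3, 3, 3, 2, 1, 3, 1, 1, 3, 0, 2, 3, 1, 3, 3, 2, 2, 1, 0, 0, 0, 0, 3, 0, 1, 0, 1, 0, 1, 0, 0, 1, 0, 0, 0, 1, 0, 0, 0, 0],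
  [0, 0, 0, 1, 2, 3, 1, 2, 3, 3, 3, 3, 2, 0, 3, 0, 2, 0, 3, 1, 1, 1, 1, 0, 3, 3, 2, 3, 1, 3, 1, 3, 1, 0, 0, 1, 1, 0, 0, 0, 0, 0],
  [0, 0, 3, 3, 1, 0, 3, 0, 2, 3, 2, 1, 0, 1, 0, 1, 3, 3, 3, 0, 2, 0, 1, 0, 2, 3, 2, 2, 3, 1, 0, 1, 0, 1, 0, 1, 1, 0, 0, 0, 0, 0],
  [1, 0, 1, 1, 1, 1, 3, 3, 3, 1, 3, 2, 0, 2, 0, 0, 3, 3, 2, 0, 3, 1, 0, 0, 3, 1, 0, 0, 0, 1, 0, 3, 1, 1, 1, 0, 1, 0, 0, 0, 0, 0],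
  [0, 0, 3, 3, 0, 0, 2, 0, 3, 1, 3, 3, 2, 1, 0, 3, 1, 3, 1, 0, 3, 0, 1, 0, 3, 2, 3, 1, 0, 1, 0, 1, 0, 0, 0, 1, 0, 1, 0, 0, 0, 0],
  [0, 0, 1, 1, 3, 0, 1, 2, 2, 2, 1, 3, 0, 2, 0, 2, 1, 3, 1, 1, 3, 1, 0, 0, 0, 2, 3, 2, 3, 1, 0, 2, 0, 0, 1, 1, 3, 1, 0, 0, 0, 0],
  [0, 3, 3, 3, 1, 0, 3, 0, 2, 2, 1, 1, 0, 2, 2, 2, 2, 0, 2, 0, 2, 1, 0, 0, 3, 3, 1, 0, 0, 0, 1, 0, 0, 0, 0, 1, 1, 0, 0, 0, 0, 0],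
  [3, 0, 3, 3, 3, 2, 0, 0, 0, 0, 3, 0, 2, 0, 0, 1, 3, 3, 0, 1, 0, 1, 0, 0, 3, 1, 0, 0, 0, 1, 0, 1, 1, 0, 1, 1, 0, 1, 0, 0, 0, 0],
  [1, 0, 0, 0, 0, 0, 3, 2, 0, 1, 1, 3, 0, 1, 3, 3, 1, 1, 3, 0, 3, 0, 0, 0, 2, 1, 0, 1, 0, 1, 0, 0, 1, 0, 1, 0, 0, 0, 0, 0, 0, 0],
  [0, 3, 3, 0, 3, 3, 3, 0, 3, 2, 2, 1, 0, 2, 3, 0, 0, 1, 3, 1, 2, 0, 1, 0, 0, 3, 2, 2, 2, 3, 1, 0, 1, 1, 1, 1, 0, 1, 0, 0, 0, 0],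
  [0, 0, 0, 0, 1, 1, 2, 3, 1, 1, 3, 2, 0, 2, 0, 3, 0, 0, 0, 1, 3, 1, 0, 0, 1, 2, 3, 1, 3, 1, 0, 2, 0, 1, 0, 0, 1, 0, 0, 0, 0, 0],
  [0, 0, 0, 0, 0, 0, 0, 0, 0, 3, 3, 0, 2, 2, 2, 0, 1, 3, 0, 1, 2, 1, 1, 0, 2, 2, 3, 2, 3, 1, 0, 0, 1, 1, 0, 0, 3, 1, 0, 0, 0, 0]]

/-- images of the rows in the lattice modulo 4 -/
def aStarImg : List (List ℕ) := [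
  [0, 3, 0, 3, 0, 3, 0, 0, 2, 1, 1, 3, 0, 3, 3, 0, 3, 3, 1, 1, 1, 1, 1, 0, 1, 3, 2, 2, 3, 1, 0, 3, 1, 1, 1, 1, 3, 1, 0, 0, 0, 0],
  [2, 0, 2, 3, 0, 3, 2, 1, 0, 0, 1, 1, 3, 2, 2, 0, 2, 0, 2, 0, 0, 0, 1, 0, 0, 0, 0, 1, 0, 1, 0, 2, 1, 0, 0, 1, 0, 0, 0, 0, 0, 0],
  [0, 1, 1, 2, 3, 0, 3, 2, 3, 0, 2, 3, 3, 1, 3, 2, 2, 0, 0, 1, 3, 1, 1, 0, 0, 1, 3, 2, 3, 1, 0, 0, 0, 0, 1, 0, 3, 1, 0, 0, 0, 0],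
  [2, 0, 0, 0, 2, 2, 2, 1, 0, 1, 2, 3, 3, 3, 2, 1, 0, 2, 3, 1, 1, 1, 1, 0, 1, 3, 1, 3, 1, 0, 1, 2, 0, 0, 1, 0, 0, 1, 0, 0, 0, 0],
  [2, 2, 2, 2, 2, 0, 0, 2, 0, 2, 1, 1, 2, 1, 3, 2, 1, 3, 0, 0, 2, 0, 0, 0, 3, 3, 1, 0, 0, 1, 0, 0, 1, 0, 0, 1, 0, 1, 0, 0, 0, 0],
  [1, 3, 1, 0, 2, 2, 3, 3, 2, 3, 3, 3, 2, 2, 1, 2, 0, 0, 2, 1, 1, 0, 0, 0, 3, 0, 0, 1, 0, 0, 0, 3, 0, 0, 1, 0, 0, 1, 0, 0, 0, 0],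
  [0, 3, 2, 2, 3, 1, 2, 2, 1, 0, 1, 3, 0, 3, 0, 0, 3, 1, 1, 1, 1, 0, 0, 0, 3, 3, 1, 3, 1, 0, 0, 3, 0, 1, 0, 0, 1, 0, 0, 0, 0, 0],
  [2, 0, 2, 3, 3, 0, 1, 1, 0, 3, 3, 1, 1, 1, 0, 1, 2, 3, 3, 0, 2, 0, 0, 0, 1, 3, 1, 0, 1, 0, 1, 0, 0, 1, 1, 1, 0, 1, 0, 0, 0, 0],
  [0, 3, 3, 0, 1, 1, 0, 1, 0, 3, 0, 1, 0, 3, 2, 3, 2, 2, 0, 0, 0, 0, 0, 0, 2, 0, 0, 1, 0, 0, 1, 1, 0, 0, 1, 0, 0, 1, 0, 0, 0, 0],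
  [2, 0, 3, 2, 1, 0, 3, 0, 2, 1, 2, 2, 0, 0, 0, 0, 3, 1, 3, 0, 3, 0, 0, 0, 2, 2, 2, 3, 1, 0, 0, 2, 0, 1, 0, 0, 0, 1, 0, 0, 0, 0],
  [2, 0, 2, 3, 3, 3, 0, 2, 2, 2, 0, 1, 3, 3, 0, 0, 1, 0, 2, 1, 2, 0, 1, 0, 0, 3, 1, 0, 1, 0, 1, 3, 1, 0, 0, 1, 0, 1, 0, 0, 0, 0],
  [2, 3, 1, 2, 3, 2, 3, 0, 3, 3, 0, 0, 1, 0, 1, 1, 3, 3, 0, 1, 0, 0, 0, 0, 3, 0, 0, 0, 1, 3, 1, 1, 1, 1, 0, 0, 0, 0, 0, 0, 0, 0],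
  [1, 0, 3, 0, 2, 3, 2, 0, 3, 2, 0, 1, 1, 1, 1, 2, 3, 2, 3, 0, 2, 0, 0, 0, 0, 3, 2, 3, 1, 3, 1, 3, 1, 0, 1, 1, 0, 1, 0, 0, 0, 0],
  [2, 0, 0, 1, 2, 0, 2, 2, 0, 2, 1, 2, 0, 0, 3, 2, 3, 2, 0, 1, 1, 1, 0, 0, 2, 0, 1, 3, 2, 3, 1, 3, 0, 1, 0, 0, 1, 0, 0, 0, 0, 0],
  [2, 1, 1, 1, 0, 2, 3, 1, 3, 0, 2, 2, 0, 2, 3, 0, 0, 0, 3, 1, 1, 0, 0, 0, 2, 3, 1, 0, 1, 0, 0, 2, 1, 0, 0, 1, 1, 0, 0, 0, 0, 0],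
  [2, 2, 2, 3, 3, 1, 0, 1, 2, 3, 1, 1, 1, 2, 3, 3, 3, 0, 0, 0, 0, 1, 1, 0, 0, 1, 3, 1, 0, 0, 0, 1, 0, 1, 0, 0, 0, 1, 0, 0, 0, 0],
  [0, 3, 0, 1, 3, 3, 1, 0, 1, 2, 3, 2, 1, 1, 1, 3, 0, 3, 1, 0, 1, 0, 1, 0, 1, 3, 1, 0, 1, 0, 0, 0, 1, 0, 0, 0, 1, 0, 0, 0, 0, 0],
  [0, 1, 3, 1, 3, 1, 1, 0, 2, 0, 0, 3, 0, 0, 0, 0, 0, 0, 1, 0, 3, 0, 1, 0, 1, 2, 3, 1, 0, 1, 0, 1, 1, 1, 0, 1, 0, 0, 0, 0, 0, 0],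
  [1, 0, 1, 2, 1, 2, 1, 3, 1, 3, 2, 1, 0, 3, 1, 1, 2, 0, 0, 0, 2, 0, 1, 0, 0, 2, 2, 3, 1, 0, 1, 1, 0, 0, 1, 1, 0, 1, 0, 0, 0, 0],
  [0, 0, 3, 1, 0, 1, 0, 3, 2, 3, 2, 1, 1, 2, 1, 1, 3, 2, 0, 0, 2, 1, 0, 0, 3, 2, 3, 1, 0, 0, 1, 1, 0, 1, 0, 1, 1, 0, 0, 0, 0, 0],
  [0, 2, 1, 3, 1, 0, 0, 1, 0, 0, 3, 3, 1, 3, 2, 1, 0, 0, 0, 0, 3, 0, 0, 0, 0, 2, 3, 1, 0, 1, 0, 1, 0, 1, 1, 1, 1, 0, 0, 0, 0, 0],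
  [3, 0, 1, 0, 0, 0, 0, 3, 2, 3, 3, 0, 2, 2, 0, 0, 0, 1, 2, 0, 2, 1, 1, 0, 3, 2, 2, 3, 1, 0, 1, 2, 1, 0, 0, 1, 0, 1, 0, 0, 0, 0],
  [2, 3, 1, 3, 3, 1, 2, 3, 1, 2, 2, 3, 1, 2, 0, 1, 3, 1, 1, 0, 3, 0, 0, 0, 1, 1, 0, 0, 1, 0, 0, 0, 0, 0, 0, 1, 1, 0, 0, 0, 0, 0],
  [0, 3, 3, 0, 3, 3, 3, 2, 3, 2, 0, 3, 2, 1, 3, 1, 3, 2, 3, 1, 1, 0, 1, 0, 2, 0, 0, 0, 1, 0, 1, 1, 0, 1, 0, 1, 3, 1, 0, 0, 0, 0],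
  [3, 1, 0, 1, 1, 2, 2, 2, 0, 0, 0, 1, 2, 0, 2, 3, 2, 2, 0, 1, 0, 0, 1, 0, 3, 0, 0, 0, 1, 3, 1, 3, 1, 0, 0, 0, 0, 1, 0, 0, 0, 0],
  [1, 3, 0, 1, 0, 0, 3, 0, 0, 0, 0, 0, 0, 2, 3, 2, 1, 1, 3, 1, 2, 0, 1, 0, 0, 3, 1, 3, 1, 0, 1, 1, 1, 1, 1, 1, 0, 1, 0, 0, 0, 0],
  [1, 0, 0, 0, 0, 0, 1, 3, 3, 0, 2, 0, 2, 0, 2, 3, 3, 1, 0, 1, 2, 0, 1, 0, 0, 3, 2, 2, 2, 3, 1, 3, 0, 0, 1, 1, 3, 1, 0, 0, 0, 0],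
  [1, 3, 0, 1, 2, 2, 0, 0, 2, 2, 3, 0, 2, 2, 2, 0, 1, 1, 3, 0, 0, 0, 1, 0, 3, 1, 0, 0, 0, 0, 0, 1, 1, 1, 1, 0, 0, 1, 0, 0, 0, 0],
  [0, 0, 3, 2, 3, 1, 3, 0, 2, 2, 3, 3, 0, 1, 0, 0, 1, 0, 3, 0, 1, 0, 1, 0, 1, 3, 1, 3, 2, 3, 1, 2, 0, 0, 0, 0, 3, 1, 0, 0, 0, 0],
  [1, 0, 2, 0, 1, 1, 3, 3, 3, 0, 2, 3, 2, 2, 0, 2, 1, 1, 0, 1, 1, 0, 0, 0, 2, 0, 0, 1, 0, 0, 1, 2, 0, 1, 1, 0, 0, 1, 0, 0, 0, 0],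
  [1, 0, 1, 3, 0, 3, 3, 1, 0, 3, 0, 3, 1, 1, 1, 3, 3, 0, 2, 0, 1, 1, 1, 0, 1, 0, 1, 0, 0, 0, 0, 0, 1, 1, 1, 1, 0, 0, 0, 0, 0, 0],
  [0, 3, 3, 1, 2, 0, 2, 2, 2, 1, 1, 3, 0, 3, 0, 3, 1, 2, 0, 0, 1, 1, 0, 0, 0, 3, 1, 3, 1, 0, 1, 0, 1, 0, 0, 1, 0, 1, 0, 0, 0, 0],
  [2, 3, 0, 1, 1, 1, 3, 0, 1, 0, 1, 0, 0, 2, 2, 0, 0, 1, 0, 1, 0, 0, 0, 0, 1, 0, 1, 3, 1, 0, 1, 3, 1, 1, 1, 1, 1, 0, 0, 0, 0, 0],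
  [1, 0, 1, 3, 1, 0, 0, 0, 0, 0, 0, 1, 2, 3, 3, 2, 1, 1, 1, 1, 2, 1, 0, 0, 2, 2, 3, 2, 2, 3, 1, 3, 0, 0, 1, 1, 3, 1, 0, 0, 0, 0],
  [1, 0, 0, 2, 2, 0, 1, 3, 3, 2, 0, 2, 2, 1, 3, 3, 0, 0, 2, 1, 1, 1, 0, 0, 1, 3, 2, 2, 3, 1, 0, 3, 0, 0, 0, 1, 0, 1, 0, 0, 0, 0],
  [1, 3, 0, 1, 3, 1, 0, 1, 0, 3, 3, 2, 3, 1, 0, 2, 1, 3, 1, 1, 3, 0, 0, 0, 3, 1, 0, 0, 0, 1, 0, 2, 1, 0, 1, 0, 0, 1, 0, 0, 0, 0],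
  [0, 0, 0, 0, 0, 1, 0, 0, 2, 2, 2, 1, 0, 1, 0, 1, 3, 0, 1, 0, 0, 0, 0, 0, 0, 1, 3, 1, 0, 0, 0, 2, 1, 1, 0, 0, 0, 0, 0, 0, 0, 0],
  [1, 3, 0, 0, 1, 2, 0, 3, 3, 0, 1, 2, 3, 0, 3, 1, 3, 0, 2, 0, 1, 1, 1, 0, 3, 3, 1, 0, 1, 3, 1, 2, 1, 0, 1, 1, 1, 0, 0, 0, 0, 0],
  [0, 3, 3, 3, 1, 0, 3, 2, 2, 2, 3, 1, 0, 2, 0, 2, 0, 0, 3, 0, 0, 0, 1, 0, 3, 1, 3, 1, 0, 0, 0, 3, 1, 0, 1, 1, 0, 1, 0, 0, 0, 0],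
  [1, 0, 2, 2, 1, 2, 2, 0, 0, 3, 2, 1, 2, 3, 2, 3, 1, 3, 3, 1, 2, 0, 1, 0, 0, 2, 3, 1, 0, 1, 0, 0, 1, 0, 0, 1, 0, 0, 0, 0, 0, 0],
  [0, 3, 3, 0, 3, 3, 3, 0, 2, 2, 2, 3, 3, 1, 1, 1, 3, 3, 0, 0, 1, 1, 1, 0, 2, 3, 1, 0, 1, 0, 1, 0, 0, 1, 0, 0, 0, 0, 0, 0, 0, 0],
  [1, 0, 1, 2, 3, 1, 0, 0, 0, 3, 1, 0, 2, 0, 1, 1, 0, 3, 3, 0, 0, 1, 1, 0, 0, 1, 3, 1, 3, 1, 0, 2, 0, 1, 1, 1, 3, 1, 0, 0, 0, 0]]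

/-- a matrix times 4, real and imaginary parts by rows -/
def bMat : List (List ℤ) := [
  [0, 0, 0, 0, 0, 0, 0, 0, 0, 0, 0, 0, 0, 0, 0, 0, 0, 0, 0, 0, 0, 0, 0, 0, 0, 0, 0, 0, 0, 0, 0, 0, 0, 0, 0, 0, 0, 0, 0, 0, 0, 0, 0, 0, 0, 0, 0, 0, 4, 0, 0, 0, 0, 0, 0, 0],
  [0, 0, 0, 0, 0, 0, 0, 0, 0, 0, 0, 0, 0, 0, 0, 0, 0, 0, 0, 0, 0, 0, 0, 0, 0, 0, 0, 0, 0, 0, 0, 0, 0, 0, 0, 0, 0, 0, 0, 0, 0, 0, 0, 0, 0, 0, 0, 0, 0, 0, 4, 0, 0, 0, 0, 0],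
  [0, 0, 0, 0, 0, 0, 0, 0, 0, 0, 0, 0, 0, 0, 0, 0, 0, 0, 0, 0, 0, 0, 0, 0, 0, 0, 0, 0, 0, 0, 0, 0, 0, 0, 0, 0, 0, 0, 0, 0, 0, 0, 0, 0, 0, 0, 0, 0, 0, 0, 0, 0, 4, 0, 0, 0],
  [0, 0, 0, 0, 0, 0, 0, 0, 0, 0, 0, 0, 0, 0, 0, 0, 0, 0, 0, 0, 0, 0, 0, 0, 0, 0, 0, 0, 0, 0, 0, 0, 0, 0, 0, 0, 0, 0, 0, 0, 0, 0, 0, 0, 0, 0, 0, 0, 0, 0, 0, 0, 0, 0, 4, 0],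
  [4, 0, 0, 0, 0, 0, 0, 0, 0, 0, 0, 0, 0, 0, 0, 0, 0, 0, 0, 0, 0, 0, 0, 0, 0, 0, 0, 0, 0, 0, 0, 0, 0, 0, 0, 0, 0, 0, 0, 0, 0, 0, 0, 0, 0, 0, 0, 0, 0, 0, 0, 0, 0, 0, 0, 0],
  [0, 0, 4, 0, 0, 0, 0, 0, 0, 0, 0, 0, 0, 0, 0, 0, 0, 0, 0, 0, 0, 0, 0, 0, 0, 0, 0, 0, 0, 0, 0, 0, 0, 0, 0, 0, 0, 0, 0, 0, 0, 0, 0, 0, 0, 0, 0, 0, 0, 0, 0, 0, 0, 0, 0, 0],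
  [0, 0, 0, 0, 4, 0, 0, 0, 0, 0, 0, 0, 0, 0, 0, 0, 0, 0, 0, 0, 0, 0, 0, 0, 0, 0, 0, 0, 0, 0, 0, 0, 0, 0, 0, 0, 0, 0, 0, 0, 0, 0, 0, 0, 0, 0, 0, 0, 0, 0, 0, 0, 0, 0, 0, 0],
  [0, 0, 0, 0, 0, 0, 4, 0, 0, 0, 0, 0, 0, 0, 0, 0, 0, 0, 0, 0, 0, 0, 0, 0, 0, 0, 0, 0, 0, 0, 0, 0, 0, 0, 0, 0, 0, 0, 0, 0, 0, 0, 0, 0, 0, 0, 0, 0, 0, 0, 0, 0, 0, 0, 0, 0],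
  [0, 0, 0, 0, 0, 0, 0, 0, 4, 0, 0, 0, 0, 0, 0, 0, 0, 0, 0, 0, 0, 0, 0, 0, 0, 0, 0, 0, 0, 0, 0, 0, 0, 0, 0, 0, 0, 0, 0, 0, 0, 0, 0, 0, 0, 0, 0, 0, 0, 0, 0, 0, 0, 0, 0, 0],
  [0, 0, 0, 0, 0, 0, 0, 0, 0, 0, 4, 0, 0, 0, 0, 0, 0, 0, 0, 0, 0, 0, 0, 0, 0, 0, 0, 0, 0, 0, 0, 0, 0, 0, 0, 0, 0, 0, 0, 0, 0, 0, 0, 0, 0, 0, 0, 0, 0, 0, 0, 0, 0, 0, 0, 0],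
  [0, 0, 0, 0, 0, 0, 0, 0, 0, 0, 0, 0, 4, 0, 0, 0, 0, 0, 0, 0, 0, 0, 0, 0, 0, 0, 0, 0, 0, 0, 0, 0, 0, 0, 0, 0, 0, 0, 0, 0, 0, 0, 0, 0, 0, 0, 0, 0, 0, 0, 0, 0, 0, 0, 0, 0],
  [0, 0, 0, 0, 0, 0, 0, 0, 0, 0, 0, 0, 0, 0, 4, 0, 0, 0, 0, 0, 0, 0, 0, 0, 0, 0, 0, 0, 0, 0, 0, 0, 0, 0, 0, 0, 0, 0, 0, 0, 0, 0, 0, 0, 0, 0, 0, 0, 0, 0, 0, 0, 0, 0, 0, 0],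
  [0, 0, 0, 0, 0, 0, 0, 0, 0, 0, 0, 0, 0, 0, 0, 0, 4, 0, 0, 0, 0, 0, 0, 0, 0, 0, 0, 0, 0, 0, 0, 0, 0, 0, 0, 0, 0, 0, 0, 0, 0, 0, 0, 0, 0, 0, 0, 0, 0, 0, 0, 0, 0, 0, 0, 0],
  [0, 0, 0, 0, 0, 0, 0, 0, 0, 0, 0, 0, 0, 0, 0, 0, 0, 0, 4, 0, 0, 0, 0, 0, 0, 0, 0, 0, 0, 0, 0, 0, 0, 0, 0, 0, 0, 0, 0, 0, 0, 0, 0, 0, 0, 0, 0, 0, 0, 0, 0, 0, 0, 0, 0, 0],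
  [0, 0, 0, 0, 0, 0, 0, 0, 0, 0, 0, 0, 0, 0, 0, 0, 0, 0, 0, 0, 4, 0, 0, 0, 0, 0, 0, 0, 0, 0, 0, 0, 0, 0, 0, 0, 0, 0, 0, 0, 0, 0, 0, 0, 0, 0, 0, 0, 0, 0, 0, 0, 0, 0, 0, 0],
  [0, 0, 0, 0, 0, 0, 0, 0, 0, 0, 0, 0, 0, 0, 0, 0, 0, 0, 0, 0, 0, 0, 4, 0, 0, 0, 0, 0, 0, 0, 0, 0, 0, 0, 0, 0, 0, 0, 0, 0, 0, 0, 0, 0, 0, 0, 0, 0, 0, 0, 0, 0, 0, 0, 0, 0],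
  [0, 0, 0, 0, 0, 0, 0, 0, 0, 0, 0, 0, 0, 0, 0, 0, 0, 0, 0, 0, 0, 0, 0, 0, 4, 0, 0, 0, 0, 0, 0, 0, 0, 0, 0, 0, 0, 0, 0, 0, 0, 0, 0, 0, 0, 0, 0, 0, 0, 0, 0, 0, 0, 0, 0, 0],
  [0, 0, 0, 0, 0, 0, 0, 0, 0, 0, 0, 0, 0, 0, 0, 0, 0, 0, 0, 0, 0, 0, 0, 0, 0, 0, 4, 0, 0, 0, 0, 0, 0, 0, 0, 0, 0, 0, 0, 0, 0, 0, 0, 0, 0, 0, 0, 0, 0, 0, 0, 0, 0, 0, 0, 0],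
  [0, 0, 0, 0, 0, 0, 0, 0, 0, 0, 0, 0, 0, 0, 0, 0, 0, 0, 0, 0, 0, 0, 0, 0, 0, 0, 0, 0, 4, 0, 0, 0, 0, 0, 0, 0, 0, 0, 0, 0, 0, 0, 0, 0, 0, 0, 0, 0, 0, 0, 0, 0, 0, 0, 0, 0],
  [0, 0, 0, 0, 0, 0, 0, 0, 0, 0, 0, 0, 0, 0, 0, 0, 0, 0, 0, 0, 0, 0, 0, 0, 0, 0, 0, 0, 0, 0, 4, 0, 0, 0, 0, 0, 0, 0, 0, 0, 0, 0, 0, 0, 0, 0, 0, 0, 0, 0, 0, 0, 0, 0, 0, 0],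
  [0, 0, 0, 0, 0, 0, 0, 0, 0, 0, 0, 0, 0, 0, 0, 0, 0, 0, 0, 0, 0, 0, 0, 0, 0, 0, 0, 0, 0, 0, 0, 0, 4, 0, 0, 0, 0, 0, 0, 0, 0, 0, 0, 0, 0, 0, 0, 0, 0, 0, 0, 0, 0, 0, 0, 0],
  [0, 0, 0, 0, 0, 0, 0, 0, 0, 0, 0, 0, 0, 0, 0, 0, 0, 0, 0, 0, 0, 0, 0, 0, 0, 0, 0, 0, 0, 0, 0, 0, 0, 0, 4, 0, 0, 0, 0, 0, 0, 0, 0, 0, 0, 0, 0, 0, 0, 0, 0, 0, 0, 0, 0, 0],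
  [0, 0, 0, 0, 0, 0, 0, 0, 0, 0, 0, 0, 0, 0, 0, 0, 0, 0, 0, 0, 0, 0, 0, 0, 0, 0, 0, 0, 0, 0, 0, 0, 0, 0, 0, 0, 4, 0, 0, 0, 0, 0, 0, 0, 0, 0, 0, 0, 0, 0, 0, 0, 0, 0, 0, 0],
  [0, 0, 0, 0, 0, 0, 0, 0, 0, 0, 0, 0, 0, 0, 0, 0, 0, 0, 0, 0, 0, 0, 0, 0, 0, 0, 0, 0, 0, 0, 0, 0, 0, 0, 0, 0, 0, 0, 4, 0, 0, 0, 0, 0, 0, 0, 0, 0, 0, 0, 0, 0, 0, 0, 0, 0],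
  [0, 0, 0, 0, 0, 0, 0, 0, 0, 0, 0, 0, 0, 0, 0, 0, 0, 0, 0, 0, 0, 0, 0, 0, 0, 0, 0, 0, 0, 0, 0, 0, 0, 0, 0, 0, 0, 0, 0, 0, 4, 0, 0, 0, 0, 0, 0, 0, 0, 0, 0, 0, 0, 0, 0, 0],
  [0, 0, 0, 0, 0, 0, 0, 0, 0, 0, 0, 0, 0, 0, 0, 0, 0, 0, 0, 0, 0, 0, 0, 0, 0, 0, 0, 0, 0, 0, 0, 0, 0, 0, 0, 0, 0, 0, 0, 0, 0, 0, 4, 0, 0, 0, 0, 0, 0, 0, 0, 0, 0, 0, 0, 0],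
  [0, 0, 0, 0, 0, 0, 0, 0, 0, 0, 0, 0, 0, 0, 0, 0, 0, 0, 0, 0, 0, 0, 0, 0, 0, 0, 0, 0, 0, 0, 0, 0, 0, 0, 0, 0, 0, 0, 0, 0, 0, 0, 0, 0, 4, 0, 0, 0, 0, 0, 0, 0, 0, 0, 0, 0],
  [0, 0, 0, 0, 0, 0, 0, 0, 0, 0, 0, 0, 0, 0, 0, 0, 0, 0, 0, 0, 0, 0, 0, 0, 0, 0, 0, 0, 0, 0, 0, 0, 0, 0, 0, 0, 0, 0, 0, 0, 0, 0, 0, 0, 0, 0, 4, 0, 0, 0, 0, 0, 0, 0, 0, 0]]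

/-- its rows in the lattice modulo 4 -/
def bRows : List (List ℕ) := [
  [0, 0, 0, 0, 0, 0, 0, 0, 0, 0, 0, 0, 0, 0, 0, 0, 0, 0, 0, 0, 0, 0, 0, 0, 0, 0, 0, 0, 0, 0, 0, 0, 0, 0, 0, 0, 0, 0, 0, 0, 0, 0],
  [0, 0, 0, 0, 0, 0, 0, 0, 0, 0, 0, 0, 0, 0, 0, 0, 0, 0, 0, 0, 0, 0, 0, 0, 0, 0, 0, 0, 0, 0, 0, 0, 0, 0, 0, 0, 0, 0, 0, 0, 0, 0],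
  [0, 0, 0, 0, 0, 0, 0, 0, 0, 0, 0, 0, 0, 0, 0, 0, 0, 0, 0, 0, 0, 0, 0, 0, 0, 0, 0, 0, 0, 0, 0, 0, 0, 0, 0, 0, 0, 0, 0, 0, 0, 0],
  [0, 0, 0, 0, 0, 0, 0, 0, 0, 0, 0, 0, 0, 0, 0, 0, 0, 0, 0, 0, 0, 0, 0, 0, 0, 0, 0, 0, 0, 0, 0, 0, 0, 0, 0, 0, 0, 0, 0, 0, 0, 0],
  [0, 0, 0, 0, 0, 0, 0, 0, 0, 0, 0, 0, 0, 0, 0, 0, 0, 0, 0, 0, 0, 0, 0, 0, 0, 0, 0, 0, 0, 0, 0, 0, 0, 0, 0, 0, 0, 0, 0, 0, 0, 0],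
  [0, 0, 0, 0, 0, 0, 0, 0, 0, 0, 0, 0, 0, 0, 0, 0, 0, 0, 0, 0, 0, 0, 0, 0, 0, 0, 0, 0, 0, 0, 0, 0, 0, 0, 0, 0, 0, 0, 0, 0, 0, 0],
  [0, 0, 0, 0, 0, 0, 0, 0, 0, 0, 0, 0, 0, 0, 0, 0, 0, 0, 0, 0, 0, 0, 0, 0, 0, 0, 0, 0, 0, 0, 0, 0, 0, 0, 0, 0, 0, 0, 0, 0, 0, 0],
  [0, 0, 0, 0, 0, 0, 0, 0, 0, 0, 0, 0, 0, 0, 0, 0, 0, 0, 0, 0, 0, 0, 0, 0, 0, 0, 0, 0, 0, 0, 0, 0, 0, 0, 0, 0, 0, 0, 0, 0, 0, 0],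
  [0, 0, 0, 0, 0, 0, 0, 0, 0, 0, 0, 0, 0, 0, 0, 0, 0, 0, 0, 0, 0, 0, 0, 0, 0, 0, 0, 0, 0, 0, 0, 0, 0, 0, 0, 0, 0, 0, 0, 0, 0, 0],
  [0, 0, 0, 0, 0, 0, 0, 0, 0, 0, 0, 0, 0, 0, 0, 0, 0, 0, 0, 0, 0, 0, 0, 0, 0, 0, 0, 0, 0, 0, 0, 0, 0, 0, 0, 0, 0, 0, 0, 0, 0, 0],
  [0, 0, 0, 0, 0, 0, 0, 0, 0, 0, 0, 0, 0, 0, 0, 0, 0, 0, 0, 0, 0, 0, 0, 0, 0, 0, 0, 0, 0, 0, 0, 0, 0, 0, 0, 0, 0, 0, 0, 0, 0, 0],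
  [0, 0, 0, 0, 0, 0, 0, 0, 0, 0, 0, 0, 0, 0, 0, 0, 0, 0, 0, 0, 0, 0, 0, 0, 0, 0, 0, 0, 0, 0, 0, 0, 0, 0, 0, 0, 0, 0, 0, 0, 0, 0],
  [0, 0, 0, 0, 0, 0, 0, 0, 0, 0, 0, 0, 0, 0, 0, 0, 0, 0, 0, 0, 0, 0, 0, 0, 0, 0, 0, 0, 0, 0, 0, 0, 0, 0, 0, 0, 0, 0, 0, 0, 0, 0],
  [0, 0, 0, 0, 0, 0, 0, 0, 0, 0, 0, 0, 0, 0, 0, 0, 0, 0, 0, 0, 0, 0, 0, 0, 0, 0, 0, 0, 0, 0, 0, 0, 0, 0, 0, 0, 0, 0, 0, 0, 0, 0],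
  [0, 0, 0, 0, 0, 0, 0, 0, 0, 0, 0, 0, 0, 0, 0, 0, 0, 0, 0, 0, 0, 0, 0, 0, 0, 0, 0, 0, 0, 0, 0, 0, 0, 0, 0, 0, 0, 0, 0, 0, 0, 0],
  [0, 0, 0, 0, 0, 0, 0, 0, 0, 0, 0, 0, 0, 0, 0, 0, 0, 0, 0, 0, 0, 0, 0, 0, 0, 0, 0, 0, 0, 0, 0, 0, 0, 0, 0, 0, 0, 0, 0, 0, 0, 0],
  [0, 0, 0, 0, 0, 0, 0, 0, 0, 0, 0, 0, 0, 0, 0, 0, 0, 0, 0, 0, 0, 0, 0, 0, 0, 0, 0, 0, 0, 0, 0, 0, 0, 0, 0, 0, 0, 0, 0, 0, 0, 0],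
  [0, 0, 0, 0, 0, 0, 0, 0, 0, 0, 0, 0, 0, 0, 0, 0, 0, 0, 0, 0, 0, 0, 0, 0, 0, 0, 0, 0, 0, 0, 0, 0, 0, 0, 0, 0, 0, 0, 0, 0, 0, 0],
  [0, 0, 0, 0, 0, 0, 0, 0, 0, 0, 0, 0, 0, 0, 0, 0, 0, 0, 0, 0, 0, 0, 0, 0, 0, 0, 0, 0, 0, 0, 0, 0, 0, 0, 0, 0, 0, 0, 0, 0, 0, 0],
  [0, 0, 0, 0, 0, 0, 0, 0, 0, 0, 0, 0, 0, 0, 0, 0, 0, 0, 0, 0, 0, 0, 0, 0, 0, 0, 0, 0, 0, 0, 0, 0, 0, 0, 0, 0, 0, 0, 0, 0, 0, 0],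
  [0, 0, 0, 0, 0, 0, 0, 0, 0, 0, 0, 0, 0, 0, 0, 0, 0, 0, 0, 0, 0, 0, 0, 0, 0, 0, 0, 0, 0, 0, 0, 0, 0, 0, 0, 0, 0, 0, 0, 0, 0, 0],
  [0, 0, 0, 0, 0, 0, 0, 0, 0, 0, 0, 0, 0, 0, 0, 0, 0, 0, 0, 0, 0, 0, 0, 0, 0, 0, 0, 0, 0, 0, 0, 0, 0, 0, 0, 0, 0, 0, 0, 0, 0, 0],
  [0, 0, 0, 0, 0, 0, 0, 0, 0, 0, 0, 0, 0, 0, 0, 0, 0, 0, 0, 0, 0, 0, 0, 0, 0, 0, 0, 0, 0, 0, 0, 0, 0, 0, 0, 0, 0, 0, 0, 0, 0, 0],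
  [0, 0, 0, 0, 0, 0, 0, 0, 0, 0, 0, 0, 0, 0, 0, 0, 0, 0, 0, 0, 0, 0, 0, 0, 0, 0, 0, 0, 0, 0, 0, 0, 0, 0, 0, 0, 0, 0, 0, 0, 0, 0],
  [0, 0, 0, 0, 0, 0, 0, 0, 0, 0, 0, 0, 0, 0, 0, 0, 0, 0, 0, 0, 0, 0, 0, 0, 0, 0, 0, 0, 0, 0, 0, 0, 0, 0, 0, 0, 0, 0, 0, 0, 0, 0],
  [0, 0, 0, 0, 0, 0, 0, 0, 0, 0, 0, 0, 0, 0, 0, 0, 0, 0, 0, 0, 0, 0, 0, 0, 0, 0, 0, 0, 0, 0, 0, 0, 0, 0, 0, 0, 0, 0, 0, 0, 0, 0],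
  [0, 0, 0, 0, 0, 0, 0, 0, 0, 0, 0, 0, 0, 0, 0, 0, 0, 0, 0, 0, 0, 0, 0, 0, 0, 0, 0, 0, 0, 0, 0, 0, 0, 0, 0, 0, 0, 0, 0, 0, 0, 0],
  [0, 0, 0, 0, 0, 0, 0, 0, 0, 0, 0, 0, 0, 0, 0, 0, 0, 0, 0, 0, 0, 0, 0, 0, 0, 0, 0, 0, 0, 0, 0, 0, 0, 0, 0, 0, 0, 0, 0, 0, 0, 0]]

/-- images of the rows in the lattice modulo 4 -/
def bImg : List (List ℕ) := [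
  [0, 1, 0, 0, 0, 0, 0, 0, 0, 0, 0, 0, 0, 0, 0, 0, 0, 0, 0, 0, 0, 0, 0, 0, 0, 0, 0, 0, 0, 0, 0, 0, 0, 0, 0, 0, 0, 0, 0, 0, 0, 0],
  [0, 0, 0, 0, 0, 0, 0, 0, 0, 0, 0, 0, 0, 0, 0, 0, 3, 0, 0, 0, 0, 0, 0, 0, 0, 0, 0, 0, 0, 0, 0, 0, 0, 0, 0, 0, 0, 0, 0, 0, 0, 0],
  [3, 3, 0, 0, 0, 0, 0, 0, 0, 0, 0, 0, 0, 0, 0, 0, 0, 0, 0, 0, 0, 0, 0, 0, 0, 0, 0, 0, 0, 0, 0, 0, 0, 0, 0, 0, 0, 0, 0, 0, 0, 0],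
  [0, 2, 3, 2, 0, 3, 1, 2, 2, 1, 0, 2, 1, 0, 3, 2, 3, 0, 2, 1, 3, 0, 0, 0, 2, 1, 0, 1, 3, 1, 0, 2, 0, 1, 1, 0, 0, 0, 0, 0, 0, 0],
  [1, 2, 2, 2, 2, 0, 2, 0, 3, 3, 3, 1, 2, 1, 0, 0, 1, 2, 0, 1, 0, 0, 0, 0, 1, 0, 0, 0, 0, 0, 0, 3, 0, 1, 0, 0, 3, 1, 0, 0, 0, 0],
  [2, 2, 1, 1, 1, 1, 0, 2, 2, 3, 0, 1, 1, 1, 3, 2, 3, 1, 0, 0, 2, 1, 1, 0, 2, 2, 2, 3, 2, 3, 1, 1, 1, 1, 1, 0, 0, 0, 0, 0, 0, 0],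
  [0, 3, 0, 1, 3, 2, 2, 2, 1, 2, 1, 1, 2, 1, 2, 1, 0, 3, 1, 1, 2, 1, 0, 0, 3, 2, 2, 3, 2, 3, 1, 3, 0, 1, 1, 0, 0, 0, 0, 0, 0, 0],
  [0, 2, 3, 0, 1, 0, 0, 2, 2, 3, 0, 1, 2, 3, 0, 0, 3, 2, 0, 0, 0, 1, 1, 0, 2, 0, 0, 1, 0, 0, 0, 3, 0, 1, 0, 0, 0, 0, 0, 0, 0, 0],
  [1, 0, 2, 2, 1, 2, 0, 1, 1, 3, 3, 1, 2, 1, 1, 0, 1, 1, 2, 1, 0, 0, 1, 0, 0, 1, 0, 0, 0, 0, 0, 0, 0, 1, 0, 1, 0, 0, 0, 0, 0, 0],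
  [0, 3, 2, 2, 1, 2, 0, 0, 1, 1, 1, 0, 0, 0, 1, 0, 2, 2, 2, 1, 0, 1, 0, 0, 0, 1, 0, 1, 0, 0, 0, 3, 0, 0, 0, 1, 0, 0, 0, 0, 0, 0],
  [0, 0, 1, 2, 1, 2, 0, 1, 1, 3, 3, 1, 2, 1, 1, 0, 1, 1, 2, 1, 0, 0, 1, 0, 0, 1, 0, 0, 0, 0, 0, 0, 0, 1, 0, 1, 0, 0, 0, 0, 0, 0],
  [0, 0, 0, 2, 2, 0, 0, 2, 0, 0, 0, 2, 2, 1, 2, 0, 1, 3, 0, 0, 3, 0, 0, 0, 2, 2, 2, 3, 1, 0, 1, 0, 0, 0, 1, 1, 1, 0, 0, 0, 0, 0],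
  [0, 0, 0, 0, 3, 2, 0, 1, 2, 0, 0, 3, 0, 0, 0, 2, 3, 1, 3, 0, 1, 0, 0, 0, 1, 0, 0, 1, 3, 1, 0, 3, 1, 0, 0, 1, 0, 0, 0, 0, 0, 0],
  [0, 0, 0, 0, 0, 2, 2, 2, 0, 0, 0, 3, 0, 3, 0, 2, 1, 3, 0, 1, 1, 0, 1, 0, 0, 0, 1, 0, 0, 1, 0, 0, 0, 0, 1, 0, 3, 1, 0, 0, 0, 0],
  [0, 0, 0, 0, 0, 0, 2, 0, 0, 0, 2, 3, 0, 3, 2, 2, 1, 1, 2, 0, 1, 0, 0, 0, 2, 3, 1, 3, 2, 3, 1, 0, 1, 1, 0, 0, 0, 0, 0, 0, 0, 0],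
  [0, 0, 0, 0, 0, 0, 0, 3, 2, 2, 2, 0, 0, 1, 3, 3, 2, 2, 1, 0, 0, 0, 0, 0, 1, 0, 0, 0, 0, 0, 0, 2, 0, 1, 0, 1, 1, 0, 0, 0, 0, 0],
  [0, 0, 0, 0, 0, 0, 0, 0, 3, 0, 0, 0, 0, 0, 0, 0, 0, 0, 0, 0, 0, 0, 0, 0, 0, 0, 0, 0, 0, 0, 0, 0, 0, 0, 0, 0, 0, 0, 0, 0, 0, 0],
  [0, 0, 0, 0, 0, 0, 0, 0, 0, 3, 3, 1, 0, 1, 0, 0, 1, 1, 0, 0, 2, 1, 0, 0, 1, 3, 2, 3, 1, 0, 0, 0, 0, 0, 1, 1, 0, 1, 0, 0, 0, 0],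
  [0, 0, 0, 0, 0, 0, 0, 2, 0, 0, 3, 0, 3, 3, 0, 1, 1, 3, 2, 1, 2, 0, 0, 0, 0, 3, 1, 0, 1, 3, 1, 1, 1, 1, 0, 0, 0, 1, 0, 0, 0, 0],
  [0, 0, 0, 0, 0, 0, 0, 0, 0, 0, 0, 3, 0, 2, 2, 0, 2, 0, 0, 0, 1, 0, 0, 0, 0, 3, 2, 3, 1, 3, 1, 0, 0, 0, 1, 0, 0, 1, 0, 0, 0, 0],
  [0, 0, 0, 0, 0, 0, 0, 0, 0, 0, 0, 0, 2, 0, 0, 2, 2, 2, 2, 0, 0, 0, 0, 0, 2, 0, 1, 0, 1, 0, 0, 2, 0, 0, 1, 0, 3, 1, 0, 0, 0, 0],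
  [0, 0, 0, 0, 0, 0, 0, 0, 0, 0, 0, 2, 0, 1, 0, 0, 0, 0, 0, 1, 1, 0, 1, 0, 2, 3, 1, 0, 0, 0, 1, 0, 0, 0, 1, 1, 1, 0, 0, 0, 0, 0],
  [0, 0, 0, 0, 0, 0, 0, 0, 0, 0, 0, 2, 0, 2, 3, 2, 0, 2, 2, 0, 3, 1, 0, 0, 0, 1, 0, 1, 0, 0, 1, 2, 0, 1, 0, 0, 3, 1, 0, 0, 0, 0],
  [0, 0, 0, 0, 0, 0, 0, 0, 0, 0, 0, 0, 0, 0, 0, 0, 0, 0, 0, 0, 0, 0, 0, 0, 2, 0, 0, 0, 0, 0, 0, 0, 0, 0, 0, 0, 0, 0, 0, 0, 0, 0],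
  [0, 0, 0, 0, 0, 0, 0, 0, 0, 0, 0, 2, 0, 0, 0, 2, 3, 3, 0, 0, 3, 0, 1, 0, 1, 1, 3, 1, 0, 0, 1, 0, 0, 1, 0, 0, 1, 0, 0, 0, 0, 0],
  [0, 0, 0, 0, 0, 0, 0, 2, 0, 0, 2, 2, 0, 2, 0, 0, 2, 2, 0, 1, 1, 0, 0, 0, 0, 3, 1, 3, 1, 0, 0, 1, 0, 1, 1, 0, 3, 1, 0, 0, 0, 0],
  [0, 0, 0, 0, 0, 0, 0, 2, 0, 0, 2, 0, 0, 0, 2, 2, 2, 0, 0, 0, 2, 0, 0, 0, 0, 3, 1, 3, 1, 3, 1, 0, 1, 1, 0, 0, 0, 1, 0, 0, 0, 0],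
  [0, 0, 0, 0, 0, 0, 0, 2, 0, 0, 2, 2, 0, 2, 0, 2, 2, 0, 2, 1, 3, 1, 0, 0, 2, 1, 0, 1, 0, 0, 0, 3, 1, 1, 0, 0, 0, 0, 0, 0, 0, 0],
  [0, 0, 0, 0, 0, 0, 0, 2, 0, 0, 2, 2, 0, 0, 2, 0, 2, 0, 0, 0, 1, 0, 0, 0, 0, 0, 1, 0, 1, 0, 0, 2, 0, 1, 1, 0, 3, 1, 0, 0, 0, 0],
  [0, 0, 0, 0, 0, 0, 0, 2, 0, 0, 2, 2, 0, 2, 0, 2, 2, 0, 2, 0, 1, 1, 1, 0, 3, 0, 0, 0, 1, 0, 0, 3, 1, 1, 0, 0, 1, 0, 0, 0, 0, 0],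
  [0, 0, 0, 0, 0, 0, 0, 2, 0, 0, 2, 0, 0, 0, 2, 0, 2, 0, 0, 0, 2, 0, 1, 0, 3, 3, 2, 3, 1, 3, 1, 1, 1, 0, 0, 0, 3, 1, 0, 0, 0, 0],
  [0, 0, 0, 0, 0, 0, 0, 2, 0, 0, 2, 0, 0, 2, 0, 0, 2, 0, 0, 0, 2, 0, 0, 0, 1, 2, 3, 1, 0, 0, 1, 0, 1, 0, 1, 1, 1, 0, 0, 0, 0, 0],
  [0, 0, 0, 0, 0, 0, 0, 0, 0, 0, 0, 2, 0, 0, 0, 2, 0, 0, 2, 0, 1, 0, 0, 0, 0, 0, 0, 0, 1, 0, 0, 2, 0, 0, 1, 0, 3, 1, 0, 0, 0, 0],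
  [0, 0, 0, 0, 0, 0, 0, 2, 0, 0, 2, 2, 0, 2, 0, 2, 2, 0, 2, 0, 1, 0, 0, 0, 0, 3, 2, 3, 1, 3, 1, 0, 1, 0, 1, 0, 3, 1, 0, 0, 0, 0],
  [0, 0, 0, 0, 0, 0, 0, 0, 0, 0, 0, 0, 0, 0, 0, 0, 0, 0, 0, 0, 0, 0, 0, 0, 0, 0, 0, 0, 1, 0, 0, 0, 1, 0, 1, 0, 0, 1, 0, 0, 0, 0],
  [0, 0, 0, 0, 0, 0, 0, 0, 0, 0, 0, 2, 0, 0, 0, 2, 0, 0, 2, 0, 1, 0, 0, 0, 0, 3, 1, 3, 1, 0, 1, 2, 0, 1, 0, 1, 0, 1, 0, 0, 0, 0],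
  [0, 0, 0, 0, 0, 0, 0, 2, 0, 0, 2, 0, 0, 2, 0, 0, 2, 0, 0, 0, 0, 0, 0, 0, 0, 0, 0, 0, 0, 0, 0, 2, 1, 1, 1, 0, 0, 1, 0, 0, 0, 0],
  [0, 0, 0, 0, 0, 0, 0, 2, 0, 0, 2, 0, 0, 0, 2, 0, 2, 0, 0, 0, 0, 0, 0, 0, 0, 0, 0, 0, 0, 0, 0, 2, 1, 1, 0, 0, 0, 0, 0, 0, 0, 0],
  [0, 0, 0, 0, 0, 0, 0, 0, 0, 0, 0, 0, 0, 2, 2, 0, 0, 0, 0, 0, 0, 0, 0, 0, 0, 0, 0, 0, 0, 0, 0, 0, 1, 1, 1, 0, 0, 1, 0, 0, 0, 0],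
  [0, 0, 0, 0, 0, 0, 0, 0, 0, 0, 0, 0, 0, 2, 2, 0, 0, 0, 0, 0, 0, 0, 0, 0, 0, 0, 0, 0, 0, 0, 0, 0, 0, 1, 0, 0, 1, 0, 0, 0, 0, 0],
  [0, 0, 0, 0, 0, 0, 0, 2, 0, 0, 2, 0, 0, 0, 2, 0, 2, 0, 0, 0, 0, 0, 0, 0, 0, 0, 0, 0, 0, 0, 0, 0, 0, 0, 1, 0, 0, 1, 0, 0, 0, 0],
  [0, 0, 0, 0, 0, 0, 0, 2, 0, 0, 2, 0, 0, 2, 0, 0, 2, 0, 0, 0, 0, 0, 0, 0, 0, 0, 0, 0, 0, 0, 0, 0, 0, 0, 0, 0, 0, 0, 0, 0, 0, 0]]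

/-- a matrix times 4, real and imaginary parts by rows -/
def bStarMat : List (List ℤ) := [
  [0, 0, 0, 0, 0, 0, 0, 0, 4, 0, 0, 0, 0, 0, 0, 0, 0, 0, 0, 0, 0, 0, 0, 0, 0, 0, 0, 0, 0, 0, 0, 0, 0, 0, 0, 0, 0, 0, 0, 0, 0, 0, 0, 0, 0, 0, 0, 0, 0, 0, 0, 0, 0, 0, 0, 0],
  [0, 0, 0, 0, 0, 0, 0, 0, 0, 0, 4, 0, 0, 0, 0, 0, 0, 0, 0, 0, 0, 0, 0, 0, 0, 0, 0, 0, 0, 0, 0, 0, 0, 0, 0, 0, 0, 0, 0, 0, 0, 0, 0, 0, 0, 0, 0, 0, 0, 0, 0, 0, 0, 0, 0, 0],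
  [0, 0, 0, 0, 0, 0, 0, 0, 0, 0, 0, 0, 4, 0, 0, 0, 0, 0, 0, 0, 0, 0, 0, 0, 0, 0, 0, 0, 0, 0, 0, 0, 0, 0, 0, 0, 0, 0, 0, 0, 0, 0, 0, 0, 0, 0, 0, 0, 0, 0, 0, 0, 0, 0, 0, 0],
  [0, 0, 0, 0, 0, 0, 0, 0, 0, 0, 0, 0, 0, 0, 4, 0, 0, 0, 0, 0, 0, 0, 0, 0, 0, 0, 0, 0, 0, 0, 0, 0, 0, 0, 0, 0, 0, 0, 0, 0, 0, 0, 0, 0, 0, 0, 0, 0, 0, 0, 0, 0, 0, 0, 0, 0],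
  [0, 0, 0, 0, 0, 0, 0, 0, 0, 0, 0, 0, 0, 0, 0, 0, 4, 0, 0, 0, 0, 0, 0, 0, 0, 0, 0, 0, 0, 0, 0, 0, 0, 0, 0, 0, 0, 0, 0, 0, 0, 0, 0, 0, 0, 0, 0, 0, 0, 0, 0, 0, 0, 0, 0, 0],
  [0, 0, 0, 0, 0, 0, 0, 0, 0, 0, 0, 0, 0, 0, 0, 0, 0, 0, 4, 0, 0, 0, 0, 0, 0, 0, 0, 0, 0, 0, 0, 0, 0, 0, 0, 0, 0, 0, 0, 0, 0, 0, 0, 0, 0, 0, 0, 0, 0, 0, 0, 0, 0, 0, 0, 0],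
  [0, 0, 0, 0, 0, 0, 0, 0, 0, 0, 0, 0, 0, 0, 0, 0, 0, 0, 0, 0, 4, 0, 0, 0, 0, 0, 0, 0, 0, 0, 0, 0, 0, 0, 0, 0, 0, 0, 0, 0, 0, 0, 0, 0, 0, 0, 0, 0, 0, 0, 0, 0, 0, 0, 0, 0],
  [0, 0, 0, 0, 0, 0, 0, 0, 0, 0, 0, 0, 0, 0, 0, 0, 0, 0, 0, 0, 0, 0, 4, 0, 0, 0, 0, 0, 0, 0, 0, 0, 0, 0, 0, 0, 0, 0, 0, 0, 0, 0, 0, 0, 0, 0, 0, 0, 0, 0, 0, 0, 0, 0, 0, 0],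
  [0, 0, 0, 0, 0, 0, 0, 0, 0, 0, 0, 0, 0, 0, 0, 0, 0, 0, 0, 0, 0, 0, 0, 0, 4, 0, 0, 0, 0, 0, 0, 0, 0, 0, 0, 0, 0, 0, 0, 0, 0, 0, 0, 0, 0, 0, 0, 0, 0, 0, 0, 0, 0, 0, 0, 0],
  [0, 0, 0, 0, 0, 0, 0, 0, 0, 0, 0, 0, 0, 0, 0, 0, 0, 0, 0, 0, 0, 0, 0, 0, 0, 0, 4, 0, 0, 0, 0, 0, 0, 0, 0, 0, 0, 0, 0, 0, 0, 0, 0, 0, 0, 0, 0, 0, 0, 0, 0, 0, 0, 0, 0, 0],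
  [0, 0, 0, 0, 0, 0, 0, 0, 0, 0, 0, 0, 0, 0, 0, 0, 0, 0, 0, 0, 0, 0, 0, 0, 0, 0, 0, 0, 4, 0, 0, 0, 0, 0, 0, 0, 0, 0, 0, 0, 0, 0, 0, 0, 0, 0, 0, 0, 0, 0, 0, 0, 0, 0, 0, 0],
  [0, 0, 0, 0, 0, 0, 0, 0, 0, 0, 0, 0, 0, 0, 0, 0, 0, 0, 0, 0, 0, 0, 0, 0, 0, 0, 0, 0, 0, 0, 4, 0, 0, 0, 0, 0, 0, 0, 0, 0, 0, 0, 0, 0, 0, 0, 0, 0, 0, 0, 0, 0, 0, 0, 0, 0],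
  [0, 0, 0, 0, 0, 0, 0, 0, 0, 0, 0, 0, 0, 0, 0, 0, 0, 0, 0, 0, 0, 0, 0, 0, 0, 0, 0, 0, 0, 0, 0, 0, 4, 0, 0, 0, 0, 0, 0, 0, 0, 0, 0, 0, 0, 0, 0, 0, 0, 0, 0, 0, 0, 0, 0, 0],
  [0, 0, 0, 0, 0, 0, 0, 0, 0, 0, 0, 0, 0, 0, 0, 0, 0, 0, 0, 0, 0, 0, 0, 0, 0, 0, 0, 0, 0, 0, 0, 0, 0, 0, 4, 0, 0, 0, 0, 0, 0, 0, 0, 0, 0, 0, 0, 0, 0, 0, 0, 0, 0, 0, 0, 0],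
  [0, 0, 0, 0, 0, 0, 0, 0, 0, 0, 0, 0, 0, 0, 0, 0, 0, 0, 0, 0, 0, 0, 0, 0, 0, 0, 0, 0, 0, 0, 0, 0, 0, 0, 0, 0, 4, 0, 0, 0, 0, 0, 0, 0, 0, 0, 0, 0, 0, 0, 0, 0, 0, 0, 0, 0],
  [0, 0, 0, 0, 0, 0, 0, 0, 0, 0, 0, 0, 0, 0, 0, 0, 0, 0, 0, 0, 0, 0, 0, 0, 0, 0, 0, 0, 0, 0, 0, 0, 0, 0, 0, 0, 0, 0, 4, 0, 0, 0, 0, 0, 0, 0, 0, 0, 0, 0, 0, 0, 0, 0, 0, 0],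
  [0, 0, 0, 0, 0, 0, 0, 0, 0, 0, 0, 0, 0, 0, 0, 0, 0, 0, 0, 0, 0, 0, 0, 0, 0, 0, 0, 0, 0, 0, 0, 0, 0, 0, 0, 0, 0, 0, 0, 0, 4, 0, 0, 0, 0, 0, 0, 0, 0, 0, 0, 0, 0, 0, 0, 0],
  [0, 0, 0, 0, 0, 0, 0, 0, 0, 0, 0, 0, 0, 0, 0, 0, 0, 0, 0, 0, 0, 0, 0, 0, 0, 0, 0, 0, 0, 0, 0, 0, 0, 0, 0, 0, 0, 0, 0, 0, 0, 0, 4, 0, 0, 0, 0, 0, 0, 0, 0, 0, 0, 0, 0, 0],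
  [0, 0, 0, 0, 0, 0, 0, 0, 0, 0, 0, 0, 0, 0, 0, 0, 0, 0, 0, 0, 0, 0, 0, 0, 0, 0, 0, 0, 0, 0, 0, 0, 0, 0, 0, 0, 0, 0, 0, 0, 0, 0, 0, 0, 4, 0, 0, 0, 0, 0, 0, 0, 0, 0, 0, 0],
  [0, 0, 0, 0, 0, 0, 0, 0, 0, 0, 0, 0, 0, 0, 0, 0, 0, 0, 0, 0, 0, 0, 0, 0, 0, 0, 0, 0, 0, 0, 0, 0, 0, 0, 0, 0, 0, 0, 0, 0, 0, 0, 0, 0, 0, 0, 4, 0, 0, 0, 0, 0, 0, 0, 0, 0],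
  [0, 0, 0, 0, 0, 0, 0, 0, 0, 0, 0, 0, 0, 0, 0, 0, 0, 0, 0, 0, 0, 0, 0, 0, 0, 0, 0, 0, 0, 0, 0, 0, 0, 0, 0, 0, 0, 0, 0, 0, 0, 0, 0, 0, 0, 0, 0, 0, 4, 0, 0, 0, 0, 0, 0, 0],
  [0, 0, 0, 0, 0, 0, 0, 0, 0, 0, 0, 0, 0, 0, 0, 0, 0, 0, 0, 0, 0, 0, 0, 0, 0, 0, 0, 0, 0, 0, 0, 0, 0, 0, 0, 0, 0, 0, 0, 0, 0, 0, 0, 0, 0, 0, 0, 0, 0, 0, 4, 0, 0, 0, 0, 0],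
  [0, 0, 0, 0, 0, 0, 0, 0, 0, 0, 0, 0, 0, 0, 0, 0, 0, 0, 0, 0, 0, 0, 0, 0, 0, 0, 0, 0, 0, 0, 0, 0, 0, 0, 0, 0, 0, 0, 0, 0, 0, 0, 0, 0, 0, 0, 0, 0, 0, 0, 0, 0, 4, 0, 0, 0],
  [0, 0, 0, 0, 0, 0, 0, 0, 0, 0, 0, 0, 0, 0, 0, 0, 0, 0, 0, 0, 0, 0, 0, 0, 0, 0, 0, 0, 0, 0, 0, 0, 0, 0, 0, 0, 0, 0, 0, 0, 0, 0, 0, 0, 0, 0, 0, 0, 0, 0, 0, 0, 0, 0, 4, 0],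
  [4, 0, 0, 0, 0, 0, 0, 0, 0, 0, 0, 0, 0, 0, 0, 0, 0, 0, 0, 0, 0, 0, 0, 0, 0, 0, 0, 0, 0, 0, 0, 0, 0, 0, 0, 0, 0, 0, 0, 0, 0, 0, 0, 0, 0, 0, 0, 0, 0, 0, 0, 0, 0, 0, 0, 0],
  [0, 0, 4, 0, 0, 0, 0, 0, 0, 0, 0, 0, 0, 0, 0, 0, 0, 0, 0, 0, 0, 0, 0, 0, 0, 0, 0, 0, 0, 0, 0, 0, 0, 0, 0, 0, 0, 0, 0, 0, 0, 0, 0, 0, 0, 0, 0, 0, 0, 0, 0, 0, 0, 0, 0, 0],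
  [0, 0, 0, 0, 4, 0, 0, 0, 0, 0, 0, 0, 0, 0, 0, 0, 0, 0, 0, 0, 0, 0, 0, 0, 0, 0, 0, 0, 0, 0, 0, 0, 0, 0, 0, 0, 0, 0, 0, 0, 0, 0, 0, 0, 0, 0, 0, 0, 0, 0, 0, 0, 0, 0, 0, 0],
  [0, 0, 0, 0, 0, 0, 4, 0, 0, 0, 0, 0, 0, 0, 0, 0, 0, 0, 0, 0, 0, 0, 0, 0, 0, 0, 0, 0, 0, 0, 0, 0, 0, 0, 0, 0, 0, 0, 0, 0, 0, 0, 0, 0, 0, 0, 0, 0, 0, 0, 0, 0, 0, 0, 0, 0]]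

/-- its rows in the lattice modulo 4 -/
def bStarRows : List (List ℕ) := [
  [0, 0, 0, 0, 0, 0, 0, 0, 0, 0, 0, 0, 0, 0, 0, 0, 0, 0, 0, 0, 0, 0, 0, 0, 0, 0, 0, 0, 0, 0, 0, 0, 0, 0, 0, 0, 0, 0, 0, 0, 0, 0],
  [0, 0, 0, 0, 0, 0, 0, 0, 0, 0, 0, 0, 0, 0, 0, 0, 0, 0, 0, 0, 0, 0, 0, 0, 0, 0, 0, 0, 0, 0, 0, 0, 0, 0, 0, 0, 0, 0, 0, 0, 0, 0],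
  [0, 0, 0, 0, 0, 0, 0, 0, 0, 0, 0, 0, 0, 0, 0, 0, 0, 0, 0, 0, 0, 0, 0, 0, 0, 0, 0, 0, 0, 0, 0, 0, 0, 0, 0, 0, 0, 0, 0, 0, 0, 0],
  [0, 0, 0, 0, 0, 0, 0, 0, 0, 0, 0, 0, 0, 0, 0, 0, 0, 0, 0, 0, 0, 0, 0, 0, 0, 0, 0, 0, 0, 0, 0, 0, 0, 0, 0, 0, 0, 0, 0, 0, 0, 0],
  [0, 0, 0, 0, 0, 0, 0, 0, 0, 0, 0, 0, 0, 0, 0, 0, 0, 0, 0, 0, 0, 0, 0, 0, 0, 0, 0, 0, 0, 0, 0, 0, 0, 0, 0, 0, 0, 0, 0, 0, 0, 0],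
  [0, 0, 0, 0, 0, 0, 0, 0, 0, 0, 0, 0, 0, 0, 0, 0, 0, 0, 0, 0, 0, 0, 0, 0, 0, 0, 0, 0, 0, 0, 0, 0, 0, 0, 0, 0, 0, 0, 0, 0, 0, 0],
  [0, 0, 0, 0, 0, 0, 0, 0, 0, 0, 0, 0, 0, 0, 0, 0, 0, 0, 0, 0, 0, 0, 0, 0, 0, 0, 0, 0, 0, 0, 0, 0, 0, 0, 0, 0, 0, 0, 0, 0, 0, 0],
  [0, 0, 0, 0, 0, 0, 0, 0, 0, 0, 0, 0, 0, 0, 0, 0, 0, 0, 0, 0, 0, 0, 0, 0, 0, 0, 0, 0, 0, 0, 0, 0, 0, 0, 0, 0, 0, 0, 0, 0, 0, 0],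
  [0, 0, 0, 0, 0, 0, 0, 0, 0, 0, 0, 0, 0, 0, 0, 0, 0, 0, 0, 0, 0, 0, 0, 0, 0, 0, 0, 0, 0, 0, 0, 0, 0, 0, 0, 0, 0, 0, 0, 0, 0, 0],
  [0, 0, 0, 0, 0, 0, 0, 0, 0, 0, 0, 0, 0, 0, 0, 0, 0, 0, 0, 0, 0, 0, 0, 0, 0, 0, 0, 0, 0, 0, 0, 0, 0, 0, 0, 0, 0, 0, 0, 0, 0, 0],
  [0, 0, 0, 0, 0, 0, 0, 0, 0, 0, 0, 0, 0, 0, 0, 0, 0, 0, 0, 0, 0, 0, 0, 0, 0, 0, 0, 0, 0, 0, 0, 0, 0, 0, 0, 0, 0, 0, 0, 0, 0, 0],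
  [0, 0, 0, 0, 0, 0, 0, 0, 0, 0, 0, 0, 0, 0, 0, 0, 0, 0, 0, 0, 0, 0, 0, 0, 0, 0, 0, 0, 0, 0, 0, 0, 0, 0, 0, 0, 0, 0, 0, 0, 0, 0],
  [0, 0, 0, 0, 0, 0, 0, 0, 0, 0, 0, 0, 0, 0, 0, 0, 0, 0, 0, 0, 0, 0, 0, 0, 0, 0, 0, 0, 0, 0, 0, 0, 0, 0, 0, 0, 0, 0, 0, 0, 0, 0],
  [0, 0, 0, 0, 0, 0, 0, 0, 0, 0, 0, 0, 0, 0, 0, 0, 0, 0, 0, 0, 0, 0, 0, 0, 0, 0, 0, 0, 0, 0, 0, 0, 0, 0, 0, 0, 0, 0, 0, 0, 0, 0],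
  [0, 0, 0, 0, 0, 0, 0, 0, 0, 0, 0, 0, 0, 0, 0, 0, 0, 0, 0, 0, 0, 0, 0, 0, 0, 0, 0, 0, 0, 0, 0, 0, 0, 0, 0, 0, 0, 0, 0, 0, 0, 0],
  [0, 0, 0, 0, 0, 0, 0, 0, 0, 0, 0, 0, 0, 0, 0, 0, 0, 0, 0, 0, 0, 0, 0, 0, 0, 0, 0, 0, 0, 0, 0, 0, 0, 0, 0, 0, 0, 0, 0, 0, 0, 0],
  [0, 0, 0, 0, 0, 0, 0, 0, 0, 0, 0, 0, 0, 0, 0, 0, 0, 0, 0, 0, 0, 0, 0, 0, 0, 0, 0, 0, 0, 0, 0, 0, 0, 0, 0, 0, 0, 0, 0, 0, 0, 0],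
  [0, 0, 0, 0, 0, 0, 0, 0, 0, 0, 0, 0, 0, 0, 0, 0, 0, 0, 0, 0, 0, 0, 0, 0, 0, 0, 0, 0, 0, 0, 0, 0, 0, 0, 0, 0, 0, 0, 0, 0, 0, 0],
  [0, 0, 0, 0, 0, 0, 0, 0, 0, 0, 0, 0, 0, 0, 0, 0, 0, 0, 0, 0, 0, 0, 0, 0, 0, 0, 0, 0, 0, 0, 0, 0, 0, 0, 0, 0, 0, 0, 0, 0, 0, 0],
  [0, 0, 0, 0, 0, 0, 0, 0, 0, 0, 0, 0, 0, 0, 0, 0, 0, 0, 0, 0, 0, 0, 0, 0, 0, 0, 0, 0, 0, 0, 0, 0, 0, 0, 0, 0, 0, 0, 0, 0, 0, 0],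
  [0, 0, 0, 0, 0, 0, 0, 0, 0, 0, 0, 0, 0, 0, 0, 0, 0, 0, 0, 0, 0, 0, 0, 0, 0, 0, 0, 0, 0, 0, 0, 0, 0, 0, 0, 0, 0, 0, 0, 0, 0, 0],
  [0, 0, 0, 0, 0, 0, 0, 0, 0, 0, 0, 0, 0, 0, 0, 0, 0, 0, 0, 0, 0, 0, 0, 0, 0, 0, 0, 0, 0, 0, 0, 0, 0, 0, 0, 0, 0, 0, 0, 0, 0, 0],
  [0, 0, 0, 0, 0, 0, 0, 0, 0, 0, 0, 0, 0, 0, 0, 0, 0, 0, 0, 0, 0, 0, 0, 0, 0, 0, 0, 0, 0, 0, 0, 0, 0, 0, 0, 0, 0, 0, 0, 0, 0, 0],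
  [0, 0, 0, 0, 0, 0, 0, 0, 0, 0, 0, 0, 0, 0, 0, 0, 0, 0, 0, 0, 0, 0, 0, 0, 0, 0, 0, 0, 0, 0, 0, 0, 0, 0, 0, 0, 0, 0, 0, 0, 0, 0],
  [0, 0, 0, 0, 0, 0, 0, 0, 0, 0, 0, 0, 0, 0, 0, 0, 0, 0, 0, 0, 0, 0, 0, 0, 0, 0, 0, 0, 0, 0, 0, 0, 0, 0, 0, 0, 0, 0, 0, 0, 0, 0],
  [0, 0, 0, 0, 0, 0, 0, 0, 0, 0, 0, 0, 0, 0, 0, 0, 0, 0, 0, 0, 0, 0, 0, 0, 0, 0, 0, 0, 0, 0, 0, 0, 0, 0, 0, 0, 0, 0, 0, 0, 0, 0],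
  [0, 0, 0, 0, 0, 0, 0, 0, 0, 0, 0, 0, 0, 0, 0, 0, 0, 0, 0, 0, 0, 0, 0, 0, 0, 0, 0, 0, 0, 0, 0, 0, 0, 0, 0, 0, 0, 0, 0, 0, 0, 0],
  [0, 0, 0, 0, 0, 0, 0, 0, 0, 0, 0, 0, 0, 0, 0, 0, 0, 0, 0, 0, 0, 0, 0, 0, 0, 0, 0, 0, 0, 0, 0, 0, 0, 0, 0, 0, 0, 0, 0, 0, 0, 0]]

/-- images of the rows in the lattice modulo 4 -/
def bStarImg : List (List ℕ) := [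
  [3, 0, 3, 0, 0, 0, 0, 0, 0, 0, 0, 0, 0, 0, 0, 0, 0, 0, 0, 0, 0, 0, 0, 0, 0, 0, 0, 0, 0, 0, 0, 0, 0, 0, 0, 0, 0, 0, 0, 0, 0, 0],
  [1, 0, 0, 0, 0, 0, 0, 0, 0, 0, 0, 0, 0, 0, 0, 0, 0, 0, 0, 0, 0, 0, 0, 0, 0, 0, 0, 0, 0, 0, 0, 0, 0, 0, 0, 0, 0, 0, 0, 0, 0, 0],
  [1, 0, 1, 0, 0, 0, 0, 0, 1, 0, 3, 0, 0, 0, 0, 0, 0, 0, 0, 0, 0, 0, 0, 0, 0, 0, 0, 0, 0, 0, 0, 0, 0, 0, 0, 0, 0, 0, 0, 0, 0, 0],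
  [3, 3, 1, 0, 1, 2, 1, 3, 0, 1, 1, 2, 0, 2, 0, 1, 2, 2, 0, 0, 1, 1, 1, 0, 2, 3, 1, 0, 0, 0, 1, 2, 0, 1, 1, 0, 0, 0, 0, 0, 0, 0],
  [1, 0, 2, 2, 0, 2, 0, 0, 2, 3, 2, 0, 0, 1, 0, 2, 3, 3, 0, 0, 0, 0, 1, 0, 2, 1, 0, 1, 0, 0, 1, 2, 0, 0, 1, 0, 0, 1, 0, 0, 0, 0],
  [3, 2, 1, 0, 2, 1, 1, 1, 1, 1, 0, 3, 1, 2, 3, 0, 3, 2, 3, 0, 1, 1, 1, 0, 3, 0, 0, 1, 0, 0, 1, 0, 0, 0, 0, 1, 3, 1, 0, 0, 0, 0],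
  [0, 2, 1, 3, 3, 1, 1, 3, 0, 2, 3, 0, 2, 1, 2, 3, 3, 3, 0, 1, 0, 0, 0, 0, 1, 1, 0, 0, 0, 0, 1, 0, 0, 0, 0, 1, 3, 1, 0, 0, 0, 0],
  [3, 1, 0, 0, 1, 2, 2, 0, 3, 3, 0, 3, 2, 3, 2, 2, 3, 1, 2, 0, 1, 1, 0, 0, 0, 3, 1, 0, 0, 0, 1, 1, 1, 1, 0, 0, 3, 1, 0, 0, 0, 0],
  [0, 0, 0, 0, 0, 0, 0, 0, 0, 0, 0, 0, 0, 0, 0, 0, 3, 0, 0, 0, 0, 0, 0, 0, 0, 0, 0, 0, 0, 0, 0, 0, 0, 0, 0, 0, 0, 0, 0, 0, 0, 0],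
  [1, 0, 0, 0, 1, 2, 0, 1, 3, 1, 1, 3, 0, 2, 3, 0, 2, 0, 2, 1, 1, 0, 1, 0, 2, 3, 2, 3, 1, 0, 1, 0, 0, 1, 1, 0, 1, 0, 0, 0, 0, 0],
  [1, 0, 2, 2, 1, 2, 0, 1, 1, 3, 3, 1, 2, 1, 1, 0, 0, 1, 2, 1, 0, 0, 1, 0, 0, 1, 0, 0, 0, 0, 0, 0, 0, 1, 0, 1, 0, 0, 0, 0, 0, 0],
  [2, 0, 0, 0, 2, 0, 0, 2, 2, 2, 2, 2, 0, 0, 2, 0, 0, 2, 2, 1, 1, 0, 0, 0, 0, 3, 1, 3, 1, 3, 1, 2, 0, 1, 0, 0, 1, 0, 0, 0, 0, 0],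
  [2, 2, 2, 0, 3, 0, 2, 1, 3, 2, 1, 0, 3, 1, 0, 1, 3, 0, 3, 0, 2, 1, 1, 0, 3, 3, 2, 3, 2, 3, 1, 0, 1, 0, 1, 1, 3, 1, 0, 0, 0, 0],
  [0, 0, 2, 0, 2, 0, 0, 0, 0, 2, 0, 0, 2, 2, 2, 2, 0, 0, 0, 0, 2, 1, 0, 0, 0, 3, 1, 0, 0, 0, 1, 1, 0, 0, 1, 0, 0, 0, 0, 0, 0, 0],
  [3, 1, 1, 0, 1, 0, 2, 2, 0, 2, 0, 0, 0, 2, 1, 0, 3, 3, 2, 1, 0, 1, 1, 0, 0, 1, 3, 1, 0, 1, 0, 1, 1, 1, 0, 1, 3, 1, 0, 0, 0, 0],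
  [1, 0, 2, 2, 0, 2, 0, 0, 2, 3, 2, 2, 1, 2, 3, 1, 3, 1, 2, 1, 1, 1, 0, 0, 1, 3, 1, 3, 1, 3, 1, 2, 1, 1, 0, 1, 0, 1, 0, 0, 0, 0],
  [0, 3, 0, 0, 0, 0, 0, 0, 0, 0, 0, 0, 0, 0, 0, 0, 0, 0, 0, 0, 0, 0, 0, 0, 0, 0, 0, 0, 0, 0, 0, 0, 0, 0, 0, 0, 0, 0, 0, 0, 0, 0],
  [0, 1, 2, 2, 0, 2, 2, 2, 2, 0, 2, 0, 2, 0, 3, 0, 2, 2, 0, 1, 2, 1, 0, 0, 0, 3, 1, 0, 1, 0, 1, 3, 1, 0, 0, 0, 0, 0, 0, 0, 0, 0],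
  [2, 3, 0, 0, 3, 2, 2, 2, 1, 2, 0, 0, 3, 3, 0, 2, 0, 2, 2, 0, 0, 1, 1, 0, 1, 0, 1, 0, 1, 3, 1, 1, 1, 0, 0, 0, 1, 0, 0, 0, 0, 0],
  [0, 2, 0, 0, 2, 2, 0, 0, 2, 0, 2, 1, 0, 3, 3, 0, 2, 0, 0, 0, 0, 1, 0, 0, 1, 0, 0, 1, 0, 1, 0, 2, 1, 0, 1, 0, 3, 1, 0, 0, 0, 0],
  [2, 2, 0, 0, 2, 0, 0, 0, 2, 2, 0, 2, 0, 0, 0, 0, 2, 2, 2, 0, 1, 0, 0, 0, 0, 3, 1, 3, 1, 3, 1, 0, 1, 0, 1, 0, 1, 0, 0, 0, 0, 0],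
  [0, 2, 0, 0, 0, 0, 0, 0, 0, 0, 0, 2, 0, 2, 2, 2, 0, 0, 2, 0, 3, 0, 0, 0, 2, 2, 3, 2, 2, 3, 1, 0, 1, 0, 1, 0, 3, 1, 0, 0, 0, 0],
  [3, 1, 1, 0, 1, 0, 0, 0, 0, 0, 2, 1, 2, 0, 1, 0, 1, 1, 0, 1, 0, 0, 0, 0, 3, 0, 0, 1, 0, 0, 0, 3, 0, 0, 0, 1, 0, 1, 0, 0, 0, 0],
  [0, 0, 0, 0, 0, 0, 0, 0, 0, 0, 0, 0, 0, 2, 2, 0, 0, 0, 0, 0, 0, 0, 0, 0, 0, 0, 0, 0, 0, 0, 0, 0, 0, 0, 0, 0, 0, 0, 0, 0, 0, 0],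
  [0, 0, 0, 2, 0, 2, 0, 2, 0, 0, 2, 3, 0, 2, 1, 0, 2, 0, 0, 1, 1, 0, 0, 0, 2, 0, 0, 0, 1, 0, 0, 3, 0, 0, 0, 0, 3, 1, 0, 0, 0, 0],
  [2, 2, 2, 2, 2, 2, 0, 2, 0, 0, 2, 3, 0, 0, 3, 0, 0, 2, 0, 1, 1, 0, 0, 0, 0, 0, 0, 0, 1, 0, 0, 0, 1, 0, 0, 1, 1, 0, 0, 0, 0, 0],
  [2, 2, 0, 0, 0, 0, 0, 2, 0, 2, 2, 0, 2, 0, 2, 2, 0, 2, 0, 0, 2, 0, 0, 0, 2, 3, 1, 3, 1, 3, 1, 2, 0, 0, 1, 0, 1, 0, 0, 0, 0, 0],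
  [1, 1, 3, 0, 1, 2, 0, 0, 2, 0, 0, 2, 2, 1, 0, 2, 1, 3, 2, 1, 1, 1, 0, 0, 2, 3, 1, 0, 1, 3, 1, 2, 0, 0, 0, 0, 1, 0, 0, 0, 0, 0],
  [0, 0, 0, 0, 2, 0, 0, 2, 2, 0, 2, 0, 2, 2, 0, 0, 2, 0, 0, 0, 2, 0, 0, 0, 2, 3, 1, 3, 2, 3, 1, 0, 1, 0, 0, 0, 0, 0, 0, 0, 0, 0],
  [3, 3, 1, 0, 3, 0, 2, 0, 2, 2, 2, 2, 2, 0, 1, 2, 1, 3, 0, 1, 1, 1, 0, 0, 0, 3, 1, 3, 1, 0, 1, 3, 0, 1, 1, 1, 1, 0, 0, 0, 0, 0],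
  [2, 2, 2, 2, 0, 0, 2, 2, 2, 2, 0, 3, 2, 3, 0, 0, 2, 0, 2, 1, 1, 0, 0, 0, 2, 3, 1, 0, 1, 0, 1, 3, 1, 0, 0, 0, 0, 1, 0, 0, 0, 0],
  [3, 3, 1, 2, 1, 2, 0, 2, 0, 0, 0, 0, 2, 0, 2, 2, 3, 1, 2, 0, 0, 0, 0, 0, 3, 0, 1, 3, 1, 0, 1, 2, 0, 0, 1, 1, 3, 1, 0, 0, 0, 0],
  [2, 2, 2, 0, 0, 0, 0, 2, 2, 0, 2, 0, 2, 2, 0, 0, 0, 2, 0, 0, 2, 0, 0, 0, 0, 3, 1, 3, 2, 3, 1, 2, 1, 0, 1, 0, 3, 1, 0, 0, 0, 0],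
  [2, 2, 2, 0, 0, 0, 0, 0, 2, 0, 0, 0, 2, 0, 0, 0, 2, 2, 0, 0, 2, 0, 0, 0, 0, 3, 1, 3, 2, 3, 1, 2, 1, 0, 1, 0, 1, 0, 0, 0, 0, 0],
  [0, 2, 0, 0, 0, 0, 0, 0, 0, 0, 0, 0, 0, 2, 2, 0, 0, 0, 0, 0, 2, 0, 0, 0, 2, 3, 2, 3, 1, 3, 1, 0, 1, 1, 0, 0, 3, 1, 0, 0, 0, 0],
  [1, 3, 1, 0, 1, 0, 2, 0, 0, 0, 2, 0, 2, 2, 3, 2, 3, 1, 2, 1, 0, 1, 0, 0, 2, 1, 0, 1, 0, 0, 1, 1, 0, 1, 1, 0, 3, 1, 0, 0, 0, 0],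
  [0, 0, 0, 0, 2, 0, 0, 2, 2, 0, 2, 2, 2, 2, 0, 2, 2, 0, 2, 0, 1, 0, 0, 0, 2, 0, 0, 0, 1, 0, 0, 0, 1, 0, 1, 0, 0, 1, 0, 0, 0, 0],
  [2, 0, 2, 0, 2, 0, 0, 0, 0, 0, 0, 0, 0, 2, 2, 0, 2, 2, 0, 0, 2, 0, 0, 0, 0, 3, 2, 3, 1, 3, 1, 2, 1, 1, 0, 0, 0, 0, 0, 0, 0, 0],
  [0, 0, 0, 0, 2, 0, 0, 0, 2, 0, 0, 2, 2, 2, 2, 2, 0, 0, 2, 0, 1, 0, 0, 0, 2, 0, 0, 0, 1, 0, 0, 0, 1, 0, 1, 0, 0, 1, 0, 0, 0, 0],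
  [0, 2, 2, 0, 0, 0, 0, 0, 2, 2, 0, 0, 0, 0, 0, 2, 0, 0, 0, 0, 2, 0, 0, 0, 0, 3, 2, 3, 2, 3, 1, 0, 0, 0, 0, 0, 1, 0, 0, 0, 0, 0],
  [0, 2, 0, 0, 2, 0, 0, 0, 2, 0, 0, 2, 2, 0, 0, 2, 0, 0, 2, 0, 1, 0, 0, 0, 0, 3, 2, 3, 2, 3, 1, 0, 0, 1, 1, 0, 0, 1, 0, 0, 0, 0],
  [2, 2, 2, 0, 2, 0, 0, 2, 0, 0, 2, 0, 0, 0, 2, 0, 0, 2, 0, 0, 0, 0, 0, 0, 2, 0, 0, 0, 0, 0, 0, 2, 0, 0, 0, 0, 0, 0, 0, 0, 0, 0]]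

end CfsgLib.KnownB.Mult.Ru
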