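import Cfsg.Agent.Lib.LocalEven.RuRootless
import Cfsg.Agent.Lib.KnownB.Mult.Ru.LatData
import Mathlib

/-!
Membership in `Cfsg.Spor.ruLattice` is a condition modulo `4`, and reduction modulo `2 - i` is a
faithful representation of its automorphism group over five elements.
-/

set_option autoImplicit false
set_option maxRecDepth 100000

namespace CfsgLib.KnownB.Mult.Ru

open Cfsg Cfsg.Spor
open CfsgLib.LocalEven.RuRootless
open scoped Matrix

/-- one of the five maps -/
def opV : ℕ → RuVec → RuVec
  | 0 => fun v => gI • v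
  | 1 => ruRj
  | 2 => ruRk
  | 3 => ruSign
  | _ => ruShift

theorem flat_opV {k : ℕ} (hk : k < 5) (v : RuVec) : flat (opV k v) = opZ k (flat v) := by
  interval_cases k
  · exact flat_gI v
  · exact flat_ruRj v
  · exact flat_ruRk v
  · exact flat_ruSign v
  · exact flat_ruShift v

theorem mem_closed {v : RuVec} (hv : v ∈ ruLattice) :
    gI • v ∈ ruLattice ∧ ruRj v ∈ ruLattice ∧ ruRk v ∈ ruLattice ∧ ruSign v ∈ ruLattice ∧
      ruShift v ∈ ruLattice := by
  refine ⟨?_, ?_, ?_, ?_, ?_⟩ <;>
  · rw [ruLattice, AddSubgroup.mem_sInf] at hv ⊢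
    intro L hL
    first
      | exact (hL.2 v (hv L hL)).1
      | exact (hL.2 v (hv L hL)).2.1
      | exact (hL.2 v (hv L hL)).2.2.1
      | exact (hL.2 v (hv L hL)).2.2.2.1
      | exact (hL.2 v (hv L hL)).2.2.2.2

theorem opV_mem {k : ℕ} {v : RuVec} (hv : v ∈ ruLattice) : opV k v ∈ ruLattice := by
  obtain ⟨h0, h1, h2, h3, h4⟩ := mem_closed hv
  match k with
  | 0 => exact h0
  | 1 => exact h1
  | 2 => exact h2
  | 3 => exact h3
  | _ + 4 => exact h4

theorem table_mem (i : ℕ) : ruTable.getD i 0 ∈ ruLattice := by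
  rcases lt_or_ge i ruTable.length with h | h
  · rw [List.getD_eq_getElem _ _ h, ruLattice, AddSubgroup.mem_sInf]
    exact fun L hL => hL.1 _ (List.getElem_mem h)
  · rw [List.getD_eq_default _ _ h]
    exact zero_mem _

/-- an image of a listed vector -/
def imgV (i : ℕ) : List ℕ → RuVec
  | [] => ruTable.getD i 0
  | k :: w => opV k (imgV i w)

theorem imgV_mem (i : ℕ) : ∀ w, imgV i w ∈ ruLattice
  | [] => table_mem i
  | _ :: w => opV_mem (imgV_mem i w)

/-- the image with a given index -/
def imgAt (k : ℕ) : RuVec := let e := imgList.getD k (0, [], 0); imgV e.1 e.2.1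

/-- its coordinates modulo `4` -/
def imgD (k j : ℕ) : ℕ := (imgList.getD k (0, [], 0)).2.2 >>> (2 * j) % 4

/-- a combination of images -/
def combV : List (ℕ × ℕ) → RuVec
  | [] => 0
  | t :: l => t.1 • imgAt t.2 + combV l

/-- its coordinates modulo `4` -/
def combD (j : ℕ) : List (ℕ × ℕ) → ℕ
  | [] => 0
  | t :: l => t.1 * imgD t.2 j + combD j l

theorem combV_mem : ∀ l, combV l ∈ ruLattice
  | [] => zero_mem _
  | _ :: l => add_mem (nsmul_mem (imgV_mem _ _) _) (combV_mem l)

/-- a vector with given flat coordinates -/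
def unflat (x : Fin 56 → ℤ) : RuVec := fun p =>
  ⟨x ⟨8 * p.1.1 + 2 * p.2.1, by omega⟩, x ⟨8 * p.1.1 + 2 * p.2.1 + 1, by omega⟩⟩

theorem flat_unflat (x : Fin 56 → ℤ) : flat (unflat x) = x := by
  funext j
  rcases Nat.mod_two_eq_zero_or_one (j : ℕ) with h | h
  · rw [flat, if_pos h]
    show x _ = x j
    congr 1
    exact Fin.ext (by simp only; omega)
  · rw [flat, if_neg (by omega)]
    show x _ = x j
    congr 1
    exact Fin.ext (by simp only; omega)

theorem unflat_flat (v : RuVec) : unflat (flat v) = v := by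
  funext p
  obtain ⟨⟨n, hn⟩, ⟨t, ht⟩⟩ := p
  have e1 : (8 * n + 2 * t) % 2 = 0 := by omega
  have e2 : ¬ (8 * n + 2 * t + 1) % 2 = 0 := by omega
  show (⟨flat v _, flat v _⟩ : GaussianInt) = _
  simp only [flat, if_pos e1, if_neg e2]
  have a1 : (8 * n + 2 * t) / 8 = n := by omega
  have a2 : (8 * n + 2 * t) % 8 / 2 = t := by omega
  have a3 : (8 * n + 2 * t + 1) / 8 = n := by omega
  have a4 : (8 * n + 2 * t + 1) % 8 / 2 = t := by omega
  simp only [a1, a2, a3, a4]

theorem flat_injective : Function.Injective flat :=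
  Function.LeftInverse.injective unflat_flat

theorem flat_add (v w : RuVec) : flat (v + w) = flat v + flat w := flatHom.map_add v w

theorem unflat_add (x y : Fin 56 → ℤ) : unflat (x + y) = unflat x + unflat y :=
  flat_injective (by rw [flat_add, flat_unflat, flat_unflat, flat_unflat])

/-- `unflat` as a homomorphism -/
def unflatHom : (Fin 56 → ℤ) →+ RuVec := AddMonoidHom.mk' unflat unflat_add

/-- a coordinate vector with a single nonzero entry -/
def sgl (p : RuIdx) (c : GaussianInt) : RuVec := Pi.single p c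

theorem four_shift : ∀ n : Fin 7, ∀ t : Fin 4,
    imgV 0 (List.replicate (7 - n.1) 4 ++ [[], [1], [2], [1, 2]].getD t.1 []) =
      fun p => if p = (n, t) then 4 * [(1 : GaussianInt), gI, gI, -gI].getD t.1 0 else 0 := by
  decide +kernel

theorem four_one_mem (p : RuIdx) : sgl p (4 : GaussianInt) ∈ ruLattice := by
  have h := four_shift p.1 p.2
  have hm := imgV_mem 0 (List.replicate (7 - p.1.1) 4 ++ [[], [1], [2], [1, 2]].getD p.2.1 [])
  rw [h] at hm
  have hs : ∀ v ∈ ruLattice, gI • (gI • (gI • v)) ∈ ruLattice := fun v hv =>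
    gI_smul_mem_ruLattice (gI_smul_mem_ruLattice (gI_smul_mem_ruLattice hv))
  have key : ∀ c : GaussianInt, (c = 1 ∨ c = gI ∨ c = -gI) →
      (fun q => if q = p then 4 * c else 0 : RuVec) ∈ ruLattice →
      sgl p (4 : GaussianInt) ∈ ruLattice := by
    rintro c (rfl | rfl | rfl) hc
    · convert hc using 1
      funext q
      by_cases e : q = p <;> simp [sgl, Pi.single_apply, e]
    · have := hs _ hc
      convert this using 1
      funext q
      by_cases e : q = p
      · simp only [Pi.smul_apply, if_pos e, sgl, e, Pi.single_eq_same, smul_eq_mul]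
        decide +kernel
      · simp [sgl, e]
    · have := gI_smul_mem_ruLattice hc
      convert this using 1
      funext q
      by_cases e : q = p
      · simp only [Pi.smul_apply, if_pos e, sgl, e, Pi.single_eq_same, smul_eq_mul]
        decide +kernel
      · simp [sgl, e]
  obtain ⟨n, t⟩ := p
  fin_cases t
  · exact key 1 (Or.inl rfl) hm
  · exact key gI (Or.inr (Or.inl rfl)) hm
  · exact key gI (Or.inr (Or.inl rfl)) hm
  · exact key (-gI) (Or.inr (Or.inr rfl)) hm

theorem smul_mem (c : GaussianInt) {v : RuVec} (hv : v ∈ ruLattice) : c • v ∈ ruLattice := by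
  have e : c • v = c.re • v + c.im • (gI • v) := by
    funext p
    apply Zsqrtd.ext <;> simp [gI] <;> ring
  rw [e]
  exact add_mem (zsmul_mem hv _) (zsmul_mem (gI_smul_mem_ruLattice hv) _)

theorem four_mem (v : RuVec) : (4 : GaussianInt) • v ∈ ruLattice := by
  have e : (4 : GaussianInt) • v = ∑ p, v p • sgl p (4 : GaussianInt) := by
    funext q
    rw [Finset.sum_apply, Finset.sum_eq_single q]
    · simp [sgl, mul_comm]
    · intro r _ hr
      simp [sgl, Ne.symm hr]
    · simp
  rw [e]
  exact sum_mem fun p _ => smul_mem _ (four_one_mem p)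

theorem img_len : imgList.length = 40 := rfl

theorem img_ok : ∀ k : Fin 40, ∀ j : Fin 56, flat (imgAt k.1) j % 4 = ((imgD k.1 j.1 : ℕ) : ℤ) := by
  decide +kernel

theorem row_ok : (rowComb.all fun l => l.all fun t => Nat.blt t.2 40) = true ∧
    ∀ k : Fin 42, ∀ j : Fin 56,
      (combD j.1 (rowComb.getD k.1 [])) % 4 = (rows.getD k.1 []).getD j.1 0 % 4 := by
  decide +kernel

theorem flat_nsmul (n : ℕ) (v : RuVec) : flat (n • v) = n • flat v := flatHom.map_nsmul n v

theorem combD_spec (j : Fin 56) : ∀ l : List (ℕ × ℕ), (l.all fun t => Nat.blt t.2 40) = true →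
    flat (combV l) j ≡ ((combD j.1 l : ℕ) : ℤ) [ZMOD 4]
  | [], _ => by
    have : flat (combV []) j = 0 := by
      rw [combV, show flat (0 : RuVec) = 0 from flatHom.map_zero]; rfl
    rw [this]; rfl
  | t :: l, h => by
    simp only [List.all_cons, Bool.and_eq_true, Nat.blt_eq] at h
    rw [combV, combD, flat_add, flat_nsmul, Pi.add_apply, Pi.smul_apply, nsmul_eq_mul, Nat.cast_add,
      Nat.cast_mul]
    refine Int.ModEq.add (Int.ModEq.mul_left _ ?_) (combD_spec j l h.2)
    have := img_ok ⟨t.2, h.1⟩ j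
    exact Int.ModEq.trans (Int.mod_modEq _ 4).symm (by rw [this])

theorem rows_length : rows.length = 42 := by decide +kernel

theorem of_flat_mem {v : RuVec} (h : flat v ∈ lat) : v ∈ ruLattice := by
  suffices hl : lat ≤ ruLattice.comap unflatHom by
    have := hl h
    rwa [AddSubgroup.mem_comap, show unflatHom (flat v) = unflat (flat v) from rfl, unflat_flat] at this
  refine (AddSubgroup.closure_le _).2 ?_
  rintro x (⟨R, hR, rfl⟩ | ⟨y, rfl⟩)
  · obtain ⟨k, hk, hk2⟩ := List.getElem_of_mem hR
    have hk' : k < 42 := rows_length ▸ hk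
    have hget : rows.getD k [] = R := by rw [List.getD_eq_getElem _ _ hk, hk2]
    show unflat _ ∈ ruLattice
    set c := combV (rowComb.getD k []) with hc
    have hd : ∀ j, 4 ∣ toZ R j - flat c j := fun j => by
      have h1 := row_ok.2 ⟨k, hk'⟩ j
      rw [hget] at h1
      have hl : ((rowComb.getD k []).all fun t => Nat.blt t.2 40) = true := by
        rcases lt_or_ge k rowComb.length with e | e
        · rw [List.getD_eq_getElem _ _ e]
          exact List.all_eq_true.1 row_ok.1 _ (List.getElem_mem e)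
        · rw [List.getD_eq_default _ _ e]; rfl
      refine Int.ModEq.dvd ((combD_spec j _ hl).trans ?_)
      exact Int.natCast_modEq_iff.2 h1
    have e : unflat (toZ R) =
        c + (4 : GaussianInt) • unflat fun j => (toZ R j - flat c j) / 4 := by
      refine flat_injective ?_
      rw [flat_add, flat_unflat]
      funext j
      have h4 : flat ((4 : GaussianInt) • unflat fun j => (toZ R j - flat c j) / 4) j =
          4 * ((toZ R j - flat c j) / 4) := by
        conv_rhs => rw [show (toZ R j - flat c j) / 4 =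
          flat (unflat fun j => (toZ R j - flat c j) / 4) j by rw [flat_unflat]]
        by_cases hj : (j : ℕ) % 2 = 0 <;> simp [flat, hj]
      rw [Pi.add_apply, h4, Int.mul_ediv_cancel' (hd j)]
      ring
    rw [e]
    exact add_mem (combV_mem _) (four_mem _)
  · show unflat _ ∈ ruLattice
    have e : unflat (4 • y) = (4 : GaussianInt) • unflat y := by
      funext p
      apply Zsqrtd.ext <;> simp [unflat]
    rw [e]
    exact four_mem _

theorem mem_iff {v : RuVec} : v ∈ ruLattice ↔ flat v ∈ lat := ⟨mem_lat_of_mem, of_flat_mem⟩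

theorem norm_eight {v : RuVec} (hv : v ∈ ruLattice) : 8 ∣ ruNorm v ∧ ruNorm v ≠ 8 := by
  rw [ruNorm_eq]
  exact ⟨norm_dvd (mem_lat_of_mem hv), sum_ne_eight (mem_lat_of_mem hv)⟩

end CfsgLib.KnownB.Mult.Ru
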