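import Cfsg.Agent.Lib.KnownB.Mult.Ru.P2Data

/-! Rows, part 0, of the certificate at 2 for the double cover of the Rudvalis group. -/

set_option autoImplicit false
set_option maxRecDepth 100000
set_option Elab.async false

namespace CfsgLib.KnownB.Mult.Ru.P2

open CfsgLib.KnownB.Mult

theorem row0 : (piece cert.rows 2 0).all (cert.rowF K 2) = true := by decide +kernel

theorem row1 : (piece cert.rows 2 1).all (cert.rowF K 2) = true := by decide +kernel

theorem row2 : (piece cert.rows 2 2).all (cert.rowF K 2) = true := by decide +kernel

theorem row3 : (piece cert.rows 2 3).all (cert.rowF K 2) = true := by decide +kernel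

theorem row4 : (piece cert.rows 2 4).all (cert.rowF K 2) = true := by decide +kernel

theorem row5 : (piece cert.rows 2 5).all (cert.rowF K 2) = true := by decide +kernel

theorem row6 : (piece cert.rows 2 6).all (cert.rowF K 2) = true := by decide +kernel

theorem row7 : (piece cert.rows 2 7).all (cert.rowF K 2) = true := by decide +kernel

end CfsgLib.KnownB.Mult.Ru.P2
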