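import Cfsg.Agent.Lib.KnownB.Mult.Ru.P2Data

/-! Rows, part 1, of the certificate at 2 for the double cover of the Rudvalis group. -/

set_option autoImplicit false
set_option maxRecDepth 100000
set_option Elab.async false

namespace CfsgLib.KnownB.Mult.Ru.P2

open CfsgLib.KnownB.Mult

theorem row8 : (piece cert.rows 2 8).all (cert.rowF K 2) = true := by decide +kernel

theorem row9 : (piece cert.rows 2 9).all (cert.rowF K 2) = true := by decide +kernel

theorem row10 : (piece cert.rows 2 10).all (cert.rowF K 2) = true := by decide +kernel

theorem row11 : (piece cert.rows 2 11).all (cert.rowF K 2) = true := by decide +kernel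

theorem row12 : (piece cert.rows 2 12).all (cert.rowF K 2) = true := by decide +kernel

theorem row13 : (piece cert.rows 2 13).all (cert.rowF K 2) = true := by decide +kernel

theorem row14 : (piece cert.rows 2 14).all (cert.rowF K 2) = true := by decide +kernel

theorem row15 : (piece cert.rows 2 15).all (cert.rowF K 2) = true := by decide +kernel

theorem row16 : (piece cert.rows 2 16).all (cert.rowF K 2) = true := by decide +kernel

theorem row17 : (piece cert.rows 2 17).all (cert.rowF K 2) = true := by decide +kernel

theorem row18 : (piece cert.rows 2 18).all (cert.rowF K 2) = true := by decide +kernel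

end CfsgLib.KnownB.Mult.Ru.P2
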