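import Cfsg.Agent.Lib.KnownB.Mult.Ru.P2Data

/-! Rows, part 3, of the certificate at 2 for the double cover of the Rudvalis group. -/

set_option autoImplicit false
set_option maxRecDepth 100000
set_option Elab.async false

namespace CfsgLib.KnownB.Mult.Ru.P2

open CfsgLib.KnownB.Mult

theorem row20 : (piece cert.rows 2 20).all (cert.rowF K 2) = true := by decide +kernel

theorem row21 : (piece cert.rows 2 21).all (cert.rowF K 2) = true := by decide +kernel

theorem row22 : (piece cert.rows 2 22).all (cert.rowF K 2) = true := by decide +kernel

theorem row23 : (piece cert.rows 2 23).all (cert.rowF K 2) = true := by decide +kernel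

theorem row24 : (piece cert.rows 2 24).all (cert.rowF K 2) = true := by decide +kernel

theorem row25 : (piece cert.rows 2 25).all (cert.rowF K 2) = true := by decide +kernel

theorem row26 : (piece cert.rows 2 26).all (cert.rowF K 2) = true := by decide +kernel

theorem row27 : (piece cert.rows 2 27).all (cert.rowF K 2) = true := by decide +kernel

theorem row28 : (piece cert.rows 2 28).all (cert.rowF K 2) = true := by decide +kernel

theorem row29 : (piece cert.rows 2 29).all (cert.rowF K 2) = true := by decide +kernel

theorem row30 : (piece cert.rows 2 30).all (cert.rowF K 2) = true := by decide +kernel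

end CfsgLib.KnownB.Mult.Ru.P2
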