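import Cfsg.Agent.Lib.KnownB.Mult.Ru.P2Data

/-! Rows, part 4, of the certificate at 2 for the double cover of the Rudvalis group. -/

set_option autoImplicit false
set_option maxRecDepth 100000
set_option Elab.async false

namespace CfsgLib.KnownB.Mult.Ru.P2

open CfsgLib.KnownB.Mult

theorem row31 : (piece cert.rows 2 31).all (cert.rowF K 2) = true := by decide +kernel

theorem row32 : (piece cert.rows 2 32).all (cert.rowF K 2) = true := by decide +kernel

theorem row33 : (piece cert.rows 2 33).all (cert.rowF K 2) = true := by decide +kernel

theorem row34 : (piece cert.rows 2 34).all (cert.rowF K 2) = true := by decide +kernel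

theorem row35 : (piece cert.rows 2 35).all (cert.rowF K 2) = true := by decide +kernel

theorem row36 : (piece cert.rows 2 36).all (cert.rowF K 2) = true := by decide +kernel

theorem row37 : (piece cert.rows 2 37).all (cert.rowF K 2) = true := by decide +kernel

theorem row38 : (piece cert.rows 2 38).all (cert.rowF K 2) = true := by decide +kernel

theorem row39 : (piece cert.rows 2 39).all (cert.rowF K 2) = true := by decide +kernel

theorem row40 : (piece cert.rows 2 40).all (cert.rowF K 2) = true := by decide +kernel

theorem row41 : (piece cert.rows 2 41).all (cert.rowF K 2) = true := by decide +kernel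

theorem row42 : (piece cert.rows 2 42).all (cert.rowF K 2) = true := by decide +kernel

theorem row43 : (piece cert.rows 2 43).all (cert.rowF K 2) = true := by decide +kernel

end CfsgLib.KnownB.Mult.Ru.P2
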