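import Cfsg.Agent.Lib.KnownB.Mult.Ru.P2Data

/-! Rows, part 5, of the certificate at 2 for the double cover of the Rudvalis group. -/

set_option autoImplicit false
set_option maxRecDepth 100000
set_option Elab.async false

namespace CfsgLib.KnownB.Mult.Ru.P2

open CfsgLib.KnownB.Mult

theorem row44 : (piece cert.rows 2 44).all (cert.rowF K 2) = true := by decide +kernel

theorem row45 : (piece cert.rows 2 45).all (cert.rowF K 2) = true := by decide +kernel

theorem row46 : (piece cert.rows 2 46).all (cert.rowF K 2) = true := by decide +kernel

end CfsgLib.KnownB.Mult.Ru.P2
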