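import Cfsg.Agent.Lib.KnownB.Mult.Ru.P2Data

/-! Rows, part 6, of the certificate at 2 for the double cover of the Rudvalis group. -/

set_option autoImplicit false
set_option maxRecDepth 100000
set_option Elab.async false

namespace CfsgLib.KnownB.Mult.Ru.P2

open CfsgLib.KnownB.Mult

theorem row47 : (piece cert.rows 2 47).all (cert.rowF K 2) = true := by decide +kernel

theorem row48 : (piece cert.rows 2 48).all (cert.rowF K 2) = true := by decide +kernel

theorem row49 : (piece cert.rows 2 49).all (cert.rowF K 2) = true := by decide +kernel

theorem row50 : (piece cert.rows 2 50).all (cert.rowF K 2) = true := by decide +kernel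

theorem row51 : (piece cert.rows 2 51).all (cert.rowF K 2) = true := by decide +kernel

theorem row52 : (piece cert.rows 2 52).all (cert.rowF K 2) = true := by decide +kernel

theorem row53 : (piece cert.rows 2 53).all (cert.rowF K 2) = true := by decide +kernel

theorem row54 : (piece cert.rows 2 54).all (cert.rowF K 2) = true := by decide +kernel

theorem row55 : (piece cert.rows 2 55).all (cert.rowF K 2) = true := by decide +kernel

theorem row56 : (piece cert.rows 2 56).all (cert.rowF K 2) = true := by decide +kernel

end CfsgLib.KnownB.Mult.Ru.P2
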