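import Cfsg.Agent.Lib.KnownB.Mult.Ru.P2Rel
import Cfsg.Agent.Lib.KnownB.Mult.Ru.P2Rows0
import Cfsg.Agent.Lib.KnownB.Mult.Ru.P2Rows1
import Cfsg.Agent.Lib.KnownB.Mult.Ru.P2Rows2
import Cfsg.Agent.Lib.KnownB.Mult.Ru.P2Rows3
import Cfsg.Agent.Lib.KnownB.Mult.Ru.P2Rows4
import Cfsg.Agent.Lib.KnownB.Mult.Ru.P2Rows5
import Cfsg.Agent.Lib.KnownB.Mult.Ru.P2Rows6
import Cfsg.Agent.Lib.KnownB.Mult.Ru.P2Rows7

/-! Certificate at 2 for the double cover of the Rudvalis group. -/

set_option autoImplicit false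
set_option maxRecDepth 100000
set_option Elab.async false

namespace CfsgLib.KnownB.Mult.Ru.P2

open CfsgLib.KnownB.Mult

theorem gen : cert.genOK K = true := by decide +kernel

theorem rel : cert.relOK K = true := by
  refine Cert.relOK_of K cert (all_of_pieces _ 12 10 _ (fun i hi => ?_) (by decide +kernel)) rel_conj
  interval_cases i
  · exact rel0
  · exact rel1
  · exact rel2
  · exact rel3
  · exact rel4
  · exact rel5
  · exact rel6
  · exact rel7
  · exact rel8
  · exact rel9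

theorem pcs : cert.pcOK 2 = true := by decide +kernel

theorem rows : cert.rowsOK K 2 = true := by
  refine Cert.rowsOK_of K cert 2 (all_of_pieces _ 2 58 _ (fun i hi => ?_) (by decide +kernel))
  interval_cases i
  · exact row0
  · exact row1
  · exact row2
  · exact row3
  · exact row4
  · exact row5
  · exact row6
  · exact row7
  · exact row8
  · exact row9
  · exact row10
  · exact row11
  · exact row12
  · exact row13
  · exact row14
  · exact row15
  · exact row16
  · exact row17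
  · exact row18
  · exact row19
  · exact row20
  · exact row21
  · exact row22
  · exact row23
  · exact row24
  · exact row25
  · exact row26
  · exact row27
  · exact row28
  · exact row29
  · exact row30
  · exact row31
  · exact row32
  · exact row33
  · exact row34
  · exact row35
  · exact row36
  · exact row37
  · exact row38
  · exact row39
  · exact row40
  · exact row41
  · exact row42
  · exact row43
  · exact row44
  · exact row45
  · exact row46
  · exact row47
  · exact row48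
  · exact row49
  · exact row50
  · exact row51
  · exact row52
  · exact row53
  · exact row54
  · exact row55
  · exact row56
  · exact row57


theorem target : cert.targetOK 2 = true := by decide +kernel

theorem core : cert.Core K 2 := ⟨gen, rel, pcs, rows, target⟩

/-- transversal levels of the Sylow subgroup -/
def levels : List (ℕ × List (List ℕ)) := [
  (5691418199717046579547531837715953675564962931399694802468002601570767105905659906, [[], [0], [1], [3], [4], [6], [8], [10], [1, 0], [2, 0], [4, 0], [5, 0], [6, 0], [7, 0], [10, 0], [0, 1], [1, 1], [4, 1], [6, 1], [7, 1], [8, 1], [12, 1], [0, 3], [1, 3], [4, 3], [8, 3], [10, 3], [0, 4], [1, 4], [3, 4], [6, 4], [8, 4], [10, 4], [0, 8], [1, 8], [4, 8], [2, 1, 0], [5, 1, 0], [1, 2, 0], [3, 2, 0], [4, 2, 0], [6, 2, 0], [8, 2, 0], [9, 2, 0], [11, 2, 0], [2, 4, 0], [5, 4, 0], [6, 4, 0], [2, 5, 0], [6, 5, 0], [1, 6, 0], [2, 6, 0], [4, 0, 1], [6, 4, 1], [7, 4, 1], [8, 4, 1], [9, 4, 1], [10, 4, 1], [5, 6, 1], [4,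 8, 1], [1, 0, 3], [4, 8, 3], [8, 2, 1, 0], [9, 1, 2, 0]]),
  (1267650600228229401496703205376, [[], [5], [9], [14], [9, 5], [14, 5], [6, 6], [11, 6], [12, 6], [13, 6], [14, 9], [12, 11], [13, 11], [13, 12], [0, 11, 0], [0, 12, 0], [7, 1, 1], [7, 2, 1], [7, 1, 2], [7, 2, 2], [6, 7, 3], [12, 7, 3], [13, 7, 3], [8, 10, 3], [4, 6, 4], [6, 6, 5], [11, 6, 5], [12, 6, 5], [13, 6, 5], [3, 7, 5], [13, 12, 5], [7, 3, 6], [6, 5, 6], [12, 5, 6], [9, 6, 6], [6, 9, 6], [12, 9, 6], [13, 9, 6], [14, 12, 6], [14, 13, 6], [3, 6, 7], [8, 10, 7], [2, 1, 8], [10, 3, 8], [7, 10, 8], [13, 12, 9], [0, 8, 6, 0], [6, 0, 7, 0], [11, 0, 7, 0], [12, 0, 7, 0], [13, 0, 7, 0], [7, 0, 8, 0], [0, 6, 8, 0], [5, 0, 11, 0], [9, 0, 12, 0], [13, 3, 1, 1], [9, 7, 1, 1], [1, 10, 8, 1], [6, 3, 1, 2], [9, 7, 1, 2], [7, 1, 9, 2], [1, 1, 6, 3], [9, 8, 10, 3], [13, 9, 6, 5]]),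
  (1, [[], [9, 3, 7], [1, 2, 8, 6], [8, 6, 10, 1, 1], [9, 6, 3, 2, 1], [13, 6, 7, 2, 1], [2, 3, 2, 7, 6], [1, 3, 2, 8, 6]])]

theorem levels_ok : Cert.levelsOK K cert appP Nat.beq levels [] = true := by decide +kernel

end CfsgLib.KnownB.Mult.Ru.P2
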