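import Cfsg.Agent.Lib.KnownB.Mult.Ru.P2Table

/-! Data of the certificate at 2 for the double cover of the Rudvalis group. -/

set_option autoImplicit false
set_option maxRecDepth 100000
set_option Elab.async false

namespace CfsgLib.KnownB.Mult.Ru.P2

open CfsgLib.KnownB.Mult

/-- the certificate -/
def cert : Cert (List ℕ) where
  n := 15
  σ := [tab.getD 94 [],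
    tab.getD 357 [],
    tab.getD 370 [],
    tab.getD 322 [],
    tab.getD 380 [],
    tab.getD 46 [],
    tab.getD 389 [],
    tab.getD 391 [],
    tab.getD 381 [],
    tab.getD 378 [],
    tab.getD 397 [],
    tab.getD 384 [],
    tab.getD 376 [],
    tab.getD 35 [],
    tab.getD 28 []]
  rules := [([0, 0], []),
    ([1, 1], [5, 7, 11]),
    ([2, 2], [6, 7, 12]),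
    ([3, 3], []),
    ([4, 4], [13]),
    ([5, 5], []),
    ([6, 6], [11, 12, 14]),
    ([7, 7], [12]),
    ([8, 8], [11, 14]),
    ([9, 9], []),
    ([10, 10], []),
    ([11, 11], []),
    ([12, 12], []),
    ([13, 13], []),
    ([14, 14], []),
    ([1, 0], [0, 1, 2, 4, 5, 9, 11, 12, 14]),
    ([2, 0], [0, 2, 6, 7, 10, 11, 12, 13]),
    ([3, 0], [0, 3, 4, 7, 8, 9, 10, 12, 13, 14]),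
    ([4, 0], [0, 4, 8, 9, 10, 12, 14]),
    ([5, 0], [0, 5, 6, 7, 8, 9, 11]),
    ([6, 0], [0, 6, 8, 9, 10, 12, 14]),
    ([7, 0], [0, 7, 8, 9, 10, 12, 13]),
    ([8, 0], [0, 8, 10, 11, 12, 13, 14]),
    ([9, 0], [0, 9, 10, 13, 14]),
    ([10, 0], [0, 10]),
    ([11, 0], [0, 11, 13, 14]),
    ([12, 0], [0, 12, 13, 14]),
    ([13, 0], [0, 13]),
    ([14, 0], [0, 14]),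
    ([2, 1], [1, 2, 5, 6, 13]),
    ([3, 1], [1, 3, 7, 9]),
    ([4, 1], [1, 4, 5, 7, 11, 13]),
    ([5, 1], [1, 5, 14]),
    ([6, 1], [1, 6, 10, 11, 12]),
    ([7, 1], [1, 7, 12]),
    ([8, 1], [1, 8, 9, 11]),
    ([9, 1], [1, 9, 11, 12]),
    ([10, 1], [1, 10, 12, 13]),
    ([11, 1], [1, 11, 12, 14]),
    ([12, 1], [1, 12]),
    ([13, 1], [1, 13]),
    ([14, 1], [1, 14]),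
    ([3, 2], [2, 3, 5, 6, 8, 9, 10, 11, 13]),
    ([4, 2], [2, 4, 6, 7, 9, 10]),
    ([5, 2], [2, 5, 9, 14]),
    ([6, 2], [2, 6, 9, 10, 11, 12, 14]),
    ([7, 2], [2, 7, 9, 10, 11, 12, 14]),
    ([8, 2], [2, 8, 10]),
    ([9, 2], [2, 9, 11, 13]),
    ([10, 2], [2, 10]),
    ([11, 2], [2, 11, 13, 14]),
    ([12, 2], [2, 12]),
    ([13, 2], [2, 13]),
    ([14, 2], [2, 14]),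
    ([4, 3], [3, 4, 11, 12, 13]),
    ([5, 3], [3, 5, 14]),
    ([6, 3], [3, 6, 11, 12, 13, 14]),
    ([7, 3], [3, 7, 11]),
    ([8, 3], [3, 8, 11, 12, 13, 14]),
    ([9, 3], [3, 9, 11, 14]),
    ([10, 3], [3, 10, 11, 12, 13, 14]),
    ([11, 3], [3, 11]),
    ([12, 3], [3, 12]),
    ([13, 3], [3, 13]),
    ([14, 3], [3, 14]),
    ([5, 4], [4, 5, 14]),
    ([6, 4], [4, 6, 11, 12]),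
    ([7, 4], [4, 7, 12, 14]),
    ([8, 4], [4, 8, 12, 14]),
    ([9, 4], [4, 9, 11, 12]),
    ([10, 4], [4, 10, 12, 13]),
    ([11, 4], [4, 11]),
    ([12, 4], [4, 12]),
    ([13, 4], [4, 13]),
    ([14, 4], [4, 14]),
    ([6, 5], [5, 6, 11, 13]),
    ([7, 5], [5, 7]),
    ([8, 5], [5, 8, 12, 14]),
    ([9, 5], [5, 9]),
    ([10, 5], [5, 10, 12, 14]),
    ([11, 5], [5, 11]),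
    ([12, 5], [5, 12]),
    ([13, 5], [5, 13]),
    ([14, 5], [5, 14]),
    ([7, 6], [6, 7, 11, 14]),
    ([8, 6], [6, 8, 11, 12]),
    ([9, 6], [6, 9, 12, 13]),
    ([10, 6], [6, 10, 12, 14]),
    ([11, 6], [6, 11]),
    ([12, 6], [6, 12]),
    ([13, 6], [6, 13]),
    ([14, 6], [6, 14]),
    ([8, 7], [7, 8, 11, 12]),
    ([9, 7], [7, 9, 12, 14]),
    ([10, 7], [7, 10, 12, 14]),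
    ([11, 7], [7, 11]),
    ([12, 7], [7, 12]),
    ([13, 7], [7, 13]),
    ([14, 7], [7, 14]),
    ([9, 8], [8, 9, 12, 14]),
    ([10, 8], [8, 10, 13, 14]),
    ([11, 8], [8, 11]),
    ([12, 8], [8, 12]),
    ([13, 8], [8, 13]),
    ([14, 8], [8, 14]),
    ([10, 9], [9, 10]),
    ([11, 9], [9, 11]),
    ([12, 9], [9, 12]),
    ([13, 9], [9, 13]),
    ([14, 9], [9, 14]),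
    ([11, 10], [10, 11]),
    ([12, 10], [10, 12]),
    ([13, 10], [10, 13]),
    ([14, 10], [10, 14]),
    ([12, 11], [11, 12]),
    ([13, 11], [11, 13]),
    ([14, 11], [11, 14]),
    ([13, 12], [12, 13]),
    ([14, 12], [12, 14]),
    ([14, 13], [13, 14])]
  conjs := [(tab.getD 398 [], [13], [13]),
    (tab.getD 398 [], [14], [14]),
    (tab.getD 398 [], [11], [10, 14]),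
    (tab.getD 398 [], [2], [0, 4, 7, 9]),
    (tab.getD 398 [], [10], [6, 7, 11, 14]),
    (tab.getD 398 [], [10, 12], [11, 12, 13]),
    (tab.getD 398 [], [2, 9], [8, 11, 13, 14]),
    (tab.getD 398 [], [0, 5, 6, 13], [2, 8, 9]),
    (tab.getD 398 [], [0, 2], [2, 5, 6, 10, 12, 13]),
    (tab.getD 398 [], [0, 2, 4, 5, 9, 13], [0, 12]),
    (tab.getD 398 [], [2, 8, 10], [2, 5, 6, 8, 9]),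
    (tab.getD 396 [], [11], [11]),
    (tab.getD 396 [], [13], [13]),
    (tab.getD 396 [], [14], [14]),
    (tab.getD 396 [], [3], [3, 11]),
    (tab.getD 396 [], [6, 7], [10]),
    (tab.getD 396 [], [10], [6, 7]),
    (tab.getD 396 [], [9], [4, 7, 10, 12]),
    (tab.getD 396 [], [2], [0, 4, 6, 8, 13]),
    (tab.getD 396 [], [3, 5], [7, 9, 12, 14]),
    (tab.getD 396 [], [3, 7], [4, 5, 7, 10]),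
    (tab.getD 396 [], [4, 5, 8], [8, 10, 11]),
    (tab.getD 396 [], [0, 4], [2, 3, 6, 8, 12]),
    (tab.getD 473 [], [13], [13]),
    (tab.getD 473 [], [5], [5, 14]),
    (tab.getD 473 [], [11], [5, 13]),
    (tab.getD 473 [], [14], [5, 9]),
    (tab.getD 473 [], [5, 12], [9, 12]),
    (tab.getD 473 [], [9, 11], [9, 11]),
    (tab.getD 473 [], [7, 12], [1, 3, 7, 14]),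
    (tab.getD 473 [], [1, 4, 8, 14], [1, 4, 8, 14]),
    (tab.getD 473 [], [1, 3, 8, 13], [5, 7, 10, 12, 14]),
    (tab.getD 473 [], [3, 4, 8, 10, 12, 13], [3, 4, 7])]
  rows := [(.ovl [2] 0 [], [0, 0, 0, 0, 0, 0, 1, 1, 1, 1, 0, 1, 1, 1, 1, 0, 0, 0, 0, 0, 1, 1, 0, 0, 1, 1, 1, 1, 0, 0, 0, 0, 0, 0, 0, 0, 0, 0, 0, 0, 0, 0, 0, 0, 0, 0, 0, 0, 0, 0, 0, 0, 0, 0, 0, 0, 0, 0, 0, 0, 0, 0, 0, 0, 0, 0, 0, 0, 0, 0, 0, 0, 0, 0, 0, 0, 0, 0, 0, 0, 0, 0, 0, 0, 1, 0, 0, 1, 1, 1, 1, 0, 1, 1, 0, 0, 1, 0, 0, 1, 1, 1, 1, 1, 1, 1, 0, 1, 0, 1, 1, 1, 1, 0, 0, 0, 0, 1, 0, 1]),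
    (.ovl [3] 0 [], [0, 0, 0, 0, 1, 0, 0, 1, 0, 0, 1, 0, 0, 1, 1, 0, 0, 0, 1, 0, 0, 1, 1, 1, 1, 0, 1, 1, 1, 0, 0, 0, 0, 0, 0, 0, 0, 0, 0, 0, 0, 0, 0, 0, 0, 0, 0, 0, 0, 0, 0, 0, 0, 0, 0, 0, 0, 0, 0, 0, 0, 0, 0, 0, 0, 0, 0, 1, 1, 1, 1, 0, 1, 1, 1, 0, 0, 0, 0, 0, 0, 0, 0, 0, 0, 0, 0, 0, 0, 0, 0, 0, 0, 0, 0, 0, 1, 1, 1, 0, 0, 1, 1, 1, 0, 1, 0, 1, 0, 0, 0, 1, 0, 0, 1, 0, 1, 0, 0, 1]),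
    (.ovl [4] 0 [], [0, 0, 0, 0, 0, 0, 0, 0, 1, 1, 0, 1, 0, 0, 0, 0, 0, 0, 0, 0, 0, 0, 1, 1, 1, 0, 1, 0, 1, 0, 0, 0, 0, 0, 0, 0, 0, 0, 0, 0, 0, 0, 0, 0, 0, 0, 0, 0, 0, 0, 0, 0, 0, 0, 0, 0, 0, 0, 0, 0, 0, 0, 0, 0, 0, 0, 0, 0, 0, 0, 0, 0, 0, 0, 0, 0, 0, 0, 0, 0, 0, 0, 0, 0, 0, 0, 0, 0, 0, 0, 0, 0, 0, 0, 0, 0, 0, 0, 0, 1, 1, 0, 1, 0, 1, 0, 1, 1, 0, 0, 0, 1, 0, 1, 0, 1, 0, 1, 0, 1]),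
    (.ovl [8] 0 [], [0, 0, 0, 0, 0, 0, 0, 0, 0, 0, 1, 1, 1, 0, 0, 0, 0, 0, 0, 0, 0, 0, 0, 0, 1, 1, 1, 1, 1, 0, 0, 0, 0, 0, 0, 0, 0, 0, 0, 0, 0, 0, 0, 0, 0, 0, 0, 0, 0, 0, 0, 0, 0, 0, 0, 0, 0, 0, 0, 0, 0, 0, 0, 0, 0, 0, 0, 0, 0, 0, 0, 0, 0, 0, 0, 0, 0, 0, 0, 0, 0, 0, 0, 0, 0, 0, 0, 0, 0, 0, 0, 0, 0, 0, 0, 0, 0, 0, 0, 0, 0, 0, 0, 0, 0, 0, 0, 0, 0, 0, 1, 1, 1, 1, 1, 1, 1, 0, 0, 0]),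
    (.ovl [9] 0 [], [0, 0, 0, 0, 0, 0, 0, 0, 0, 0, 1, 0, 0, 1, 1, 0, 0, 0, 0, 0, 0, 0, 0, 0, 1, 0, 0, 1, 1, 0, 0, 0, 0, 0, 0, 0, 0, 0, 0, 0, 0, 0, 0, 0, 0, 0, 0, 0, 0, 0, 0, 0, 0, 0, 0, 0, 0, 0, 0, 0, 0, 0, 0, 0, 0, 0, 0, 0, 0, 0, 0, 0, 0, 0, 0, 0, 0, 0, 0, 0, 0, 0, 0, 0, 0, 0, 0, 0, 0, 0, 0, 0, 0, 0, 0, 0, 0, 0, 0, 0, 0, 0, 0, 0, 0, 0, 0, 0, 0, 0, 0, 0, 1, 1, 0, 0, 0, 0, 0, 1]),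
    (.ovl [11] 0 [], [0, 0, 0, 0, 0, 0, 0, 0, 0, 0, 0, 0, 0, 1, 1, 0, 0, 0, 0, 0, 0, 0, 0, 0, 0, 0, 0, 1, 1, 0, 0, 0, 0, 0, 0, 0, 0, 0, 0, 0, 0, 0, 0, 0, 0, 0, 0, 0, 0, 0, 0, 0, 0, 0, 0, 0, 0, 0, 0, 0, 0, 0, 0, 0, 0, 0, 0, 0, 0, 0, 0, 0, 0, 0, 0, 0, 0, 0, 0, 0, 0, 0, 0, 0, 0, 0, 0, 0, 0, 0, 0, 0, 0, 0, 0, 0, 0, 0, 0, 0, 0, 0, 0, 0, 0, 0, 0, 0, 0, 0, 0, 0, 0, 0, 0, 0, 0, 0, 0, 1]),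
    (.ovl [1] 1 [], [0, 0, 0, 0, 0, 0, 0, 0, 0, 0, 0, 0, 1, 0, 1, 0, 0, 0, 0, 0, 0, 0, 0, 0, 0, 0, 0, 0, 0, 0, 0, 0, 1, 0, 1, 0, 0, 0, 1, 0, 0, 0, 0, 0, 0, 0, 0, 0, 0, 0, 0, 0, 0, 0, 0, 0, 0, 0, 0, 0, 0, 0, 0, 0, 0, 0, 0, 0, 0, 0, 0, 0, 0, 0, 0, 0, 0, 0, 0, 0, 0, 0, 0, 0, 0, 0, 0, 0, 0, 0, 0, 0, 0, 0, 0, 0, 0, 0, 1, 0, 0, 0, 0, 0, 0, 0, 0, 0, 0, 0, 0, 0, 0, 0, 1, 0, 1, 0, 0]),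
    (.ovl [2] 1 [], [0, 0, 0, 0, 0, 1, 1, 0, 0, 1, 1, 1, 0, 0, 0, 0, 0, 0, 0, 0, 0, 0, 0, 0, 0, 0, 0, 0, 0, 0, 0, 0, 1, 1, 0, 0, 0, 0, 0, 0, 1, 0, 0, 0, 1, 0, 1, 0, 0, 0, 1, 0, 0, 0, 0, 0, 0, 0, 0, 0, 0, 0, 0, 0, 0, 0, 0, 0, 0, 0, 0, 0, 0, 0, 0, 1, 0, 0, 0, 0, 1, 0, 1, 1, 0, 0, 0, 0, 0, 0, 0, 0, 0, 1, 0, 0, 1, 1, 0, 0, 0, 0, 0, 0, 0, 0, 0, 1, 0, 0, 0, 1, 0, 1, 0, 0, 1, 0, 0, 0]),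
    (.ovl [5] 1 [], [0, 0, 0, 0, 0, 0, 0, 0, 0, 0, 0, 0, 0, 0, 1, 0, 0, 0, 0, 0, 0, 0, 0, 0, 0, 0, 0, 0, 0, 0, 0, 0, 0, 0, 0, 0, 0, 0, 0, 0, 0, 1, 0, 0, 0, 0, 0, 0, 0, 0, 0, 0, 0, 0, 0, 0, 0, 0, 0, 0, 0, 0, 0, 0, 0, 0, 0, 0, 0, 0, 0, 0, 0, 0, 0, 0, 1, 0, 0, 0, 1]),
    (.ovl [6] 1 [], [0, 0, 0, 0, 0, 0, 0, 0, 0, 0, 1, 1, 0, 0, 1, 0, 0, 0, 0, 0, 0, 0, 0, 0, 0, 0, 0, 0, 0, 0, 0, 0, 0, 0, 0, 0, 0, 1, 1, 1, 0, 0, 0, 0, 0, 0, 0, 0, 0, 0, 0, 0, 0, 0, 0, 0, 0, 0, 0, 0, 0, 0, 0, 0, 0, 0, 0, 0, 0, 0, 0, 0, 0, 0, 0, 1, 0, 0, 0, 0, 0, 0, 0, 0, 1, 0, 0, 0, 1, 0, 0, 0, 0, 0, 0, 1, 0, 1, 0, 0, 0, 0, 0, 0, 0, 0, 0, 0, 0, 0, 1, 1, 0, 0, 0, 0, 1, 0, 1, 1]),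
    (.ovl [7] 1 [], [0, 0, 0, 0, 0, 0, 0, 0, 0, 0, 0, 0, 1, 0, 0, 0, 0, 0, 0, 0, 0, 0, 0, 0, 0, 0, 0, 0, 0, 0, 0, 0, 0, 0, 0, 0, 0, 0, 0, 1, 0, 0, 0, 0, 0, 0, 0, 0, 0, 0, 0, 0, 0, 0, 0, 0, 0, 0, 0, 0, 0, 0, 0, 0, 0, 0, 0, 0, 0, 0, 0, 0, 0, 0, 0, 0, 1, 0, 0, 0, 0, 0, 0, 0, 0, 0, 0, 0, 0, 0, 0, 0, 0, 0, 0, 1, 0, 0, 0, 0, 0, 0, 0, 0, 0, 0, 0, 0, 0, 0, 0, 0, 0, 0, 0]),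
    (.ovl [8] 1 [], [0, 0, 0, 0, 0, 0, 0, 0, 0, 1, 0, 1, 0, 0, 0, 0, 0, 0, 0, 0, 0, 0, 0, 0, 0, 0, 0, 0, 0, 0, 0, 0, 0, 0, 0, 0, 1, 0, 1, 0, 0, 0, 0, 0, 0, 0, 0, 0, 0, 0, 0, 0, 0, 0, 0, 0, 0, 0, 0, 0, 0, 0, 0, 0, 0, 0, 0, 0, 0, 0, 0, 0, 0, 0, 0, 0, 0, 1, 0, 0, 0, 0, 0, 0, 0, 0, 0, 0, 0, 0, 0, 0, 1, 0, 0, 0, 1, 0, 1, 0, 0, 1, 0, 0, 0, 0, 1, 0, 0, 0, 0, 0, 0, 0, 1, 0, 1]),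
    (.ovl [9] 1 [], [0, 0, 0, 0, 0, 0, 0, 0, 0, 0, 0, 1, 1, 0, 0, 0, 0, 0, 0, 0, 0, 0, 0, 0, 0, 0, 0, 0, 0, 0, 0, 0, 0, 0, 0, 0, 0, 0, 1, 1, 0, 0, 0, 0, 0, 0, 0, 0, 0, 0, 0, 0, 0, 0, 0, 0, 0, 0, 0, 0, 0, 0, 0, 0, 0, 0, 0, 0, 0, 0, 0, 0, 0, 0, 0, 0, 0, 0, 1, 0, 0, 0, 0, 0, 0, 0, 0, 0, 0, 0, 0, 0, 0, 1, 0, 0, 0, 0, 0, 0, 0, 0, 0, 0, 0, 0, 1, 0, 0, 0, 0, 0, 0, 0, 0, 0, 1, 0, 1]),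
    (.ovl [10] 1 [], [0, 0, 0, 0, 0, 0, 0, 0, 0, 0, 0, 0, 0, 1, 1, 0, 0, 0, 0, 0, 0, 0, 0, 0, 0, 0, 0, 0, 0, 0, 0, 0, 0, 0, 0, 0, 0, 0, 0, 1, 1, 0, 0, 0, 0, 0, 0, 0, 0, 0, 0, 0, 0, 0, 0, 0, 0, 0, 0, 0, 0, 0, 0, 0, 0, 0, 0, 0, 0, 0, 0, 0, 0, 0, 0, 0, 0, 0, 0, 1, 0, 0, 0, 0, 0, 0, 0, 0, 0, 0, 0, 0, 0, 0, 1, 0, 1, 0, 1, 0, 0, 0, 0, 0, 0, 0, 0, 0, 0, 0, 1, 0, 0, 0, 0, 0, 0, 1, 1]),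
    (.ovl [13] 1 [], [0, 0, 0, 0, 0, 0, 0, 0, 0, 0, 0, 0, 0, 0, 0, 0, 0, 0, 0, 0, 0, 0, 0, 0, 0, 0, 0, 0, 0, 0, 0, 0, 0, 0, 0, 0, 0, 0, 0, 0, 0, 0, 0, 0, 0, 0, 0, 0, 0, 0, 0, 0, 0, 0, 0, 0, 0, 0, 0, 0, 0, 0, 0, 0, 0, 0, 0, 0, 0, 0, 0, 0, 0, 0, 0, 0, 0, 0, 0, 0, 0, 0, 1, 0, 0, 0, 0, 0, 0, 0, 0, 0, 0, 0, 0, 0, 0, 1, 0, 0, 0, 0, 0, 0, 0, 0, 0, 0, 0, 0, 0, 0, 0, 0, 0, 1]),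
    (.ovl [14] 1 [], [0, 0, 0, 0, 0, 0, 0, 0, 0, 0, 0, 0, 0, 0, 0, 0, 0, 0, 0, 0, 0, 0, 0, 0, 0, 0, 0, 0, 0, 0, 0, 0, 0, 0, 0, 0, 0, 0, 0, 0, 0, 0, 0, 0, 0, 0, 0, 0, 0, 0, 0, 0, 0, 0, 0, 0, 0, 0, 0, 0, 0, 0, 0, 0, 0, 0, 0, 0, 0, 0, 0, 0, 0, 0, 0, 0, 0, 0, 0, 0, 0, 0, 0, 1, 0, 0, 0, 0, 0, 0, 0, 0, 0, 0, 0, 0, 0, 0, 1, 0, 0, 0, 0, 0, 0, 0, 0, 0, 0, 0, 0, 0, 0, 0, 0, 0, 1]),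
    (.ovl [2] 2 [], [0, 0, 0, 0, 0, 0, 0, 0, 0, 1, 1, 1, 0, 0, 0, 0, 0, 0, 0, 0, 0, 0, 0, 0, 0, 0, 0, 0, 0, 0, 0, 0, 0, 0, 0, 0, 0, 0, 0, 0, 0, 0, 0, 0, 0, 1, 1, 0, 0, 0, 0, 1, 0, 0, 0, 0, 0, 0, 0, 0, 0, 0, 0, 0, 0, 0, 0, 0, 0, 0, 0, 0, 0, 0, 0, 0, 0, 0, 0, 0, 0, 0, 0, 0, 0, 0, 0, 0, 0, 0, 0, 0, 0, 1, 1, 1, 1, 0, 1, 0, 0, 0, 0, 0, 0, 1, 1, 1, 0, 1, 1, 0, 0, 0, 1, 0, 1, 0, 0]),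
    (.ovl [3] 2 [], [0, 0, 0, 0, 0, 1, 1, 0, 1, 0, 0, 0, 0, 1, 0, 0, 0, 0, 0, 0, 0, 0, 0, 0, 0, 0, 0, 0, 0, 0, 0, 0, 0, 0, 0, 0, 0, 0, 0, 0, 0, 0, 0, 0, 1, 1, 0, 1, 1, 1, 1, 0, 1, 0, 0, 0, 1, 1, 0, 0, 0, 0, 1, 0, 0, 0, 0, 0, 0, 0, 0, 0, 0, 0, 0, 1, 0, 1, 1, 1, 0, 1, 0, 0, 0, 1, 0, 1, 1, 1, 1, 1, 0, 0, 0, 1, 0, 0, 0, 1, 0, 1, 1, 1, 1, 1, 0, 1, 1, 1, 0, 0, 0, 1, 0, 1, 0, 0, 1, 1]),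
    (.ovl [5] 2 [], [0, 0, 0, 0, 0, 0, 0, 0, 0, 1, 0, 1, 0, 1, 1, 0, 0, 0, 0, 0, 0, 0, 0, 0, 0, 0, 0, 0, 0, 0, 0, 0, 0, 0, 0, 0, 0, 0, 0, 0, 0, 0, 0, 0, 0, 0, 0, 0, 1, 0, 0, 0, 0, 1, 0, 0, 0, 0, 0, 0, 0, 0, 0, 0, 0, 0, 0, 0, 0, 0, 0, 0, 0, 0, 0, 1, 1, 0, 0, 0, 0, 1, 0, 0, 0, 0, 0, 0, 0, 0, 0, 0, 0, 0, 0, 1, 0, 1, 0, 0, 0, 0, 0, 0, 0, 0, 0, 0, 0, 1, 0, 0, 0, 0, 1, 1, 1, 1, 0, 1]),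
    (.ovl [7] 2 [], [0, 0, 0, 0, 0, 0, 0, 0, 0, 1, 1, 1, 1, 1, 1, 0, 0, 0, 0, 0, 0, 0, 0, 0, 0, 0, 0, 0, 0, 0, 0, 0, 0, 0, 0, 0, 0, 0, 0, 0, 0, 0, 0, 0, 0, 0, 0, 0, 1, 1, 1, 1, 0, 1, 0, 0, 0, 0, 0, 0, 0, 0, 0, 0, 0, 0, 0, 0, 0, 0, 0, 0, 0, 0, 0, 0, 0, 0, 0, 0, 0, 0, 0, 0, 1, 0, 0, 0, 0, 0, 0, 0, 0, 0, 0, 1, 1, 0, 1, 0, 0, 0, 0, 0, 0, 1, 1, 1, 0, 1, 0, 1, 1, 1, 1, 1, 0, 0, 1, 0]),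
    (.ovl [8] 2 [], [0, 0, 0, 0, 0, 0, 0, 0, 0, 0, 1, 1, 1, 0, 0, 0, 0, 0, 0, 0, 0, 0, 0, 0, 0, 0, 0, 0, 0, 0, 0, 0, 0, 0, 0, 0, 0, 0, 0, 0, 0, 0, 0, 0, 0, 0, 0, 0, 0, 1, 0, 0, 0, 0, 0, 0, 0, 0, 0, 0, 0, 0, 0, 0, 0, 0, 0, 0, 0, 0, 0, 0, 0, 0, 0, 0, 0, 0, 0, 0, 0, 0, 0, 0, 0, 1, 0, 0, 0, 0, 0, 0, 1, 0, 0, 1, 1, 0, 0, 0, 0, 0, 1, 0, 0, 0, 0, 0, 0, 0, 0, 0, 0, 0, 1]),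
    (.ovl [9] 2 [], [0, 0, 0, 0, 0, 0, 0, 0, 0, 0, 0, 1, 1, 1, 0, 0, 0, 0, 0, 0, 0, 0, 0, 0, 0, 0, 0, 0, 0, 0, 0, 0, 0, 0, 0, 0, 0, 0, 0, 0, 0, 0, 0, 0, 0, 0, 0, 0, 0, 0, 1, 0, 1, 0, 0, 0, 0, 0, 0, 0, 0, 0, 0, 0, 0, 0, 0, 0, 0, 0, 0, 0, 0, 0, 0, 0, 0, 0, 0, 0, 0, 0, 0, 0, 0, 0, 1, 0, 0, 0, 0, 0, 0, 1, 0, 0, 1, 1, 0, 0, 0, 0, 0, 0, 0, 0, 0, 1, 0, 0, 0, 0, 0, 0, 0, 1, 0, 1, 0, 0]),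
    (.ovl [10] 2 [], [0, 0, 0, 0, 0, 0, 0, 0, 0, 0, 0, 0, 1, 0, 1, 0, 0, 0, 0, 0, 0, 0, 0, 0, 0, 0, 0, 0, 0, 0, 0, 0, 0, 0, 0, 0, 0, 0, 0, 0, 0, 0, 0, 0, 0, 0, 0, 0, 0, 0, 0, 0, 0, 0, 0, 0, 0, 0, 0, 0, 0, 0, 0, 0, 0, 0, 0, 0, 0, 0, 0, 0, 0, 0, 0, 0, 0, 0, 0, 0, 0, 0, 0, 0, 0, 0, 0, 1, 0, 0, 0, 0, 0, 0, 1, 0, 1, 0, 1, 0, 0, 0, 0, 0, 0, 0, 0, 0, 0, 0, 0, 1, 0, 0, 0, 0, 0, 0, 1]),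
    (.ovl [12] 2 [], [0, 0, 0, 0, 0, 0, 0, 0, 0, 0, 0, 0, 0, 0, 0, 0, 0, 0, 0, 0, 0, 0, 0, 0, 0, 0, 0, 0, 0, 0, 0, 0, 0, 0, 0, 0, 0, 0, 0, 0, 0, 0, 0, 0, 0, 0, 0, 0, 0, 0, 0, 0, 0, 0, 0, 0, 0, 0, 0, 0, 0, 0, 0, 0, 0, 0, 0, 0, 0, 0, 0, 0, 0, 0, 0, 0, 0, 0, 0, 0, 0, 0, 0, 0, 0, 0, 0, 0, 0, 1, 0, 0, 0, 0, 0, 0, 1]),
    (.ovl [5] 3 [], [0, 0, 0, 0, 0, 0, 0, 0, 0, 0, 0, 0, 0, 0, 1, 0, 0, 0, 0, 0, 0, 0, 0, 0, 0, 0, 0, 0, 0, 0, 0, 0, 0, 0, 0, 0, 0, 0, 0, 0, 0, 0, 0, 0, 0, 0, 0, 0, 0, 0, 0, 0, 0, 0, 0, 0, 0, 0, 0, 0, 0, 0, 0, 0, 1]),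
    (.ovl [4] 4 [], [0, 0, 0, 0, 0, 0, 0, 0, 0, 0, 0, 0, 0, 0, 0, 0, 0, 0, 0, 0, 0, 0, 0, 0, 0, 0, 0, 0, 0, 0, 0, 0, 0, 0, 0, 0, 0, 0, 0, 0, 0, 0, 0, 0, 0, 0, 0, 0, 0, 0, 0, 0, 0, 0, 0, 0, 0, 0, 0, 0, 0, 0, 0, 0, 0, 0, 0, 0, 0, 0, 0, 0, 0, 1]),
    (.ovl [5] 4 [], [0, 0, 0, 0, 0, 0, 0, 0, 0, 0, 0, 0, 0, 0, 1, 0, 0, 0, 0, 0, 0, 0, 0, 0, 0, 0, 0, 0, 0, 0, 0, 0, 0, 0, 0, 0, 0, 0, 0, 0, 0, 0, 0, 0, 0, 0, 0, 0, 0, 0, 0, 0, 0, 0, 0, 0, 0, 0, 0, 0, 0, 0, 0, 0, 0, 0, 0, 0, 0, 0, 0, 0, 0, 0, 1, 0, 0, 0, 0, 0, 0, 0, 1]),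
    (.ovl [8] 4 [], [0, 0, 0, 0, 0, 0, 0, 0, 0, 0, 0, 0, 1, 0, 1, 0, 0, 0, 0, 0, 0, 0, 0, 0, 0, 0, 0, 0, 0, 0, 0, 0, 0, 0, 0, 0, 0, 0, 0, 0, 0, 0, 0, 0, 0, 0, 0, 0, 0, 0, 0, 0, 0, 0, 0, 0, 0, 0, 0, 0, 0, 0, 0, 0, 0, 0, 0, 0, 0, 0, 0, 0, 1, 0, 1, 0, 0, 0, 0, 0, 0, 0, 0, 0, 0, 0, 0, 0, 0, 0, 0, 0, 0, 0, 0, 0, 0, 0, 0, 0, 0, 0, 0, 1, 0, 0, 0, 0, 0, 0, 0, 0, 0, 0, 0, 0, 0, 0, 1]),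
    (.ovl [11] 4 [], [0, 0, 0, 0, 0, 0, 0, 0, 0, 0, 0, 0, 0, 0, 0, 0, 0, 0, 0, 0, 0, 0, 0, 0, 0, 0, 0, 0, 0, 0, 0, 0, 0, 0, 0, 0, 0, 0, 0, 0, 0, 0, 0, 0, 0, 0, 0, 0, 0, 0, 0, 0, 0, 0, 0, 0, 0, 0, 0, 0, 0, 0, 0, 0, 0, 0, 0, 0, 0, 0, 0, 0, 0, 0, 0, 0, 0, 0, 0, 0, 0, 0, 0, 0, 0, 0, 0, 0, 0, 0, 0, 0, 0, 0, 0, 0, 0, 0, 0, 0, 0, 0, 0, 0, 0, 0, 0, 0, 0, 0, 0, 0, 0, 0, 0, 1]),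
    (.ovl [12] 4 [], [0, 0, 0, 0, 0, 0, 0, 0, 0, 0, 0, 0, 0, 0, 0, 0, 0, 0, 0, 0, 0, 0, 0, 0, 0, 0, 0, 0, 0, 0, 0, 0, 0, 0, 0, 0, 0, 0, 0, 0, 0, 0, 0, 0, 0, 0, 0, 0, 0, 0, 0, 0, 0, 0, 0, 0, 0, 0, 0, 0, 0, 0, 0, 0, 0, 0, 0, 0, 0, 0, 0, 0, 0, 0, 0, 0, 0, 0, 0, 0, 0, 0, 0, 0, 0, 0, 0, 0, 0, 0, 0, 0, 0, 0, 0, 0, 0, 0, 0, 0, 0, 0, 0, 0, 0, 0, 0, 0, 0, 0, 0, 0, 0, 0, 0, 0, 0, 1]),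
    (.ovl [14] 4 [], [0, 0, 0, 0, 0, 0, 0, 0, 0, 0, 0, 0, 0, 0, 0, 0, 0, 0, 0, 0, 0, 0, 0, 0, 0, 0, 0, 0, 0, 0, 0, 0, 0, 0, 0, 0, 0, 0, 0, 0, 0, 0, 0, 0, 0, 0, 0, 0, 0, 0, 0, 0, 0, 0, 0, 0, 0, 0, 0, 0, 0, 0, 0, 0, 0, 0, 0, 0, 0, 0, 0, 0, 0, 0, 0, 0, 0, 0, 0, 0, 0, 0, 0, 0, 0, 0, 0, 0, 0, 0, 0, 0, 0, 0, 0, 0, 0, 0, 0, 0, 0, 0, 0, 0, 0, 0, 0, 0, 0, 0, 0, 0, 0, 0, 0, 0, 0, 0, 0, 1]),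
    (.ovl [6] 6 [], [0, 0, 0, 0, 0, 0, 0, 0, 0, 0, 0, 0, 0, 0, 0, 0, 0, 0, 0, 0, 0, 0, 0, 0, 0, 0, 0, 0, 0, 0, 0, 0, 0, 0, 0, 0, 0, 0, 0, 0, 0, 0, 0, 0, 0, 0, 0, 0, 0, 0, 0, 0, 0, 0, 0, 0, 0, 0, 0, 0, 0, 0, 0, 0, 0, 0, 0, 0, 0, 0, 0, 0, 0, 0, 0, 0, 0, 0, 0, 0, 0, 0, 0, 0, 0, 0, 0, 0, 1, 1, 0, 1]),
    (.ovl [7] 7 [], [0, 0, 0, 0, 0, 0, 0, 0, 0, 0, 0, 0, 0, 0, 0, 0, 0, 0, 0, 0, 0, 0, 0, 0, 0, 0, 0, 0, 0, 0, 0, 0, 0, 0, 0, 0, 0, 0, 0, 0, 0, 0, 0, 0, 0, 0, 0, 0, 0, 0, 0, 0, 0, 0, 0, 0, 0, 0, 0, 0, 0, 0, 0, 0, 0, 0, 0, 0, 0, 0, 0, 0, 0, 0, 0, 0, 0, 0, 0, 0, 0, 0, 0, 0, 0, 0, 0, 0, 0, 0, 0, 0, 0, 0, 0, 0, 1]),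
    (.ovl [8] 7 [], [0, 0, 0, 0, 0, 0, 0, 0, 0, 0, 0, 1, 1, 0, 0, 0, 0, 0, 0, 0, 0, 0, 0, 0, 0, 0, 0, 0, 0, 0, 0, 0, 0, 0, 0, 0, 0, 0, 0, 0, 0, 0, 0, 0, 0, 0, 0, 0, 0, 0, 0, 0, 0, 0, 0, 0, 0, 0, 0, 0, 0, 0, 0, 0, 0, 0, 0, 0, 0, 0, 0, 0, 0, 0, 0, 0, 0, 0, 0, 0, 0, 0, 0, 0, 0, 0, 0, 0, 0, 0, 0, 0, 0, 0, 0, 1, 1, 0, 0, 0, 0, 0, 1, 0, 0, 0, 0, 0, 0, 0, 0, 0, 0, 0, 1]),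
    (.ovl [11] 7 [], [0, 0, 0, 0, 0, 0, 0, 0, 0, 0, 0, 0, 0, 0, 0, 0, 0, 0, 0, 0, 0, 0, 0, 0, 0, 0, 0, 0, 0, 0, 0, 0, 0, 0, 0, 0, 0, 0, 0, 0, 0, 0, 0, 0, 0, 0, 0, 0, 0, 0, 0, 0, 0, 0, 0, 0, 0, 0, 0, 0, 0, 0, 0, 0, 0, 0, 0, 0, 0, 0, 0, 0, 0, 0, 0, 0, 0, 0, 0, 0, 0, 0, 0, 0, 0, 0, 0, 0, 0, 0, 0, 0, 0, 0, 0, 0, 0, 0, 0, 0, 0, 0, 0, 0, 0, 0, 0, 0, 0, 0, 0, 0, 0, 0, 1]),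
    (.ovl [14] 7 [], [0, 0, 0, 0, 0, 0, 0, 0, 0, 0, 0, 0, 0, 0, 0, 0, 0, 0, 0, 0, 0, 0, 0, 0, 0, 0, 0, 0, 0, 0, 0, 0, 0, 0, 0, 0, 0, 0, 0, 0, 0, 0, 0, 0, 0, 0, 0, 0, 0, 0, 0, 0, 0, 0, 0, 0, 0, 0, 0, 0, 0, 0, 0, 0, 0, 0, 0, 0, 0, 0, 0, 0, 0, 0, 0, 0, 0, 0, 0, 0, 0, 0, 0, 0, 0, 0, 0, 0, 0, 0, 0, 0, 0, 0, 0, 0, 0, 0, 0, 0, 0, 0, 0, 0, 0, 0, 0, 0, 0, 0, 0, 0, 0, 0, 0, 0, 0, 0, 1]),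
    (.ovl [8] 8 [], [0, 0, 0, 0, 0, 0, 0, 0, 0, 0, 0, 0, 0, 0, 0, 0, 0, 0, 0, 0, 0, 0, 0, 0, 0, 0, 0, 0, 0, 0, 0, 0, 0, 0, 0, 0, 0, 0, 0, 0, 0, 0, 0, 0, 0, 0, 0, 0, 0, 0, 0, 0, 0, 0, 0, 0, 0, 0, 0, 0, 0, 0, 0, 0, 0, 0, 0, 0, 0, 0, 0, 0, 0, 0, 0, 0, 0, 0, 0, 0, 0, 0, 0, 0, 0, 0, 0, 0, 0, 0, 0, 0, 0, 0, 0, 0, 0, 0, 0, 0, 0, 1, 0, 0, 1]),
    (.ovl [11] 8 [], [0, 0, 0, 0, 0, 0, 0, 0, 0, 0, 0, 0, 0, 0, 0, 0, 0, 0, 0, 0, 0, 0, 0, 0, 0, 0, 0, 0, 0, 0, 0, 0, 0, 0, 0, 0, 0, 0, 0, 0, 0, 0, 0, 0, 0, 0, 0, 0, 0, 0, 0, 0, 0, 0, 0, 0, 0, 0, 0, 0, 0, 0, 0, 0, 0, 0, 0, 0, 0, 0, 0, 0, 0, 0, 0, 0, 0, 0, 0, 0, 0, 0, 0, 0, 0, 0, 0, 0, 0, 0, 0, 0, 0, 0, 0, 0, 0, 0, 0, 0, 0, 0, 0, 0, 0, 0, 0, 0, 0, 0, 0, 0, 0, 0, 0, 0, 1]),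
    (.ovl [1] 15 [], [0, 0, 1, 0, 1, 0, 1, 1, 1, 0, 1, 1, 1, 1, 1, 0, 0, 0, 0, 1, 0, 1, 0, 0, 0, 1, 0, 0, 0, 1, 0, 1, 1, 0, 0, 0, 1, 0, 1, 1, 0, 1, 0, 1, 1, 1, 1, 0, 1, 1, 0, 0, 0, 0, 0, 0, 0, 0, 0, 0, 0, 0, 0, 0, 0, 0, 1, 0, 0, 1, 0, 1, 1, 1, 1, 1, 0, 0, 1, 0, 0, 0, 0, 0, 0, 0, 1, 0, 0, 1, 0, 1, 1, 0, 1, 1, 1, 1, 0, 1, 0, 0, 0, 0, 1, 1, 1, 1, 0, 1, 1, 1, 0, 1, 1, 1, 0, 1, 0, 1]),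
    (.ovl [3] 15 [], [0, 0, 0, 0, 0, 1, 1, 1, 0, 0, 1, 1, 0, 0, 0, 0, 0, 0, 0, 0, 0, 1, 0, 1, 0, 0, 0, 0, 0, 0, 0, 1, 0, 0, 1, 1, 1, 1, 0, 1, 1, 1, 1, 1, 1, 0, 1, 1, 1, 1, 0, 0, 1, 1, 1, 1, 0, 0, 0, 1, 0, 1, 1, 0, 1, 0, 1, 1, 1, 0, 0, 0, 0, 0, 0, 0, 0, 1, 0, 1, 1, 0, 1, 0, 0, 1, 1, 1, 1, 0, 0, 1, 1, 1, 0, 0, 1, 0, 0, 0, 0, 1, 1, 1, 0, 1, 0, 1, 1, 0, 1, 1, 1, 1, 1, 1, 1, 0, 0, 1]),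
    (.ovl [7] 15 [], [0, 0, 0, 0, 0, 0, 0, 0, 0, 1, 1, 0, 0, 1, 0, 0, 0, 0, 0, 0, 0, 0, 0, 0, 0, 0, 1, 0, 0, 0, 0, 0, 0, 0, 0, 1, 1, 1, 0, 1, 1, 0, 0, 0, 0, 0, 1, 1, 0, 1, 0, 0, 0, 0, 0, 0, 0, 0, 0, 0, 0, 0, 0, 0, 0, 0, 0, 1, 1, 1, 1, 1, 0, 1, 1, 0, 1, 1, 1, 1, 0, 0, 0, 1, 0, 0, 0, 0, 0, 0, 0, 0, 0, 1, 0, 1, 1, 0, 1, 0, 1, 0, 1, 0, 0, 1, 0, 0, 0, 1, 0, 0, 0, 1, 1, 0, 1, 1, 0, 1]),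
    (.ovl [8] 15 [], [0, 0, 0, 0, 0, 0, 0, 0, 0, 0, 0, 1, 0, 0, 0, 0, 0, 0, 0, 0, 0, 0, 0, 1, 0, 1, 0, 0, 0, 0, 0, 0, 0, 0, 0, 0, 0, 1, 1, 1, 1, 1, 0, 0, 0, 0, 0, 1, 1, 1, 0, 1, 0, 0, 0, 0, 0, 0, 0, 0, 0, 0, 0, 0, 0, 0, 0, 0, 1, 1, 0, 1, 1, 1, 0, 0, 0, 1, 1, 0, 0, 1, 1, 1, 0, 0, 0, 0, 0, 0, 0, 0, 0, 0, 0, 0, 0, 0, 0, 1, 0, 1, 1, 0, 1, 0, 0, 1, 0, 1, 1, 1, 0, 1, 0, 0, 1, 0, 1, 0]),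
    (.ovl [7] 21 [], [0, 0, 0, 0, 0, 0, 0, 0, 1, 1, 1, 1, 1, 1, 0, 0, 0, 0, 0, 0, 0, 0, 0, 0, 0, 0, 1, 0, 0, 0, 0, 0, 0, 0, 0, 0, 0, 0, 0, 0, 0, 0, 0, 0, 0, 0, 0, 0, 0, 0, 0, 0, 0, 0, 0, 0, 0, 0, 0, 0, 0, 0, 0, 0, 0, 0, 0, 0, 0, 0, 0, 0, 0, 0, 0, 0, 0, 0, 0, 0, 0, 0, 0, 0, 0, 0, 0, 0, 0, 0, 0, 0, 1, 1, 1, 0, 1, 1, 0, 1, 1, 1, 0, 1, 0, 1, 0, 0, 0, 0, 0, 0, 0, 0, 0, 1, 1, 1, 0, 0]),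
    (.ovl [9] 23 [], [0, 0, 0, 0, 0, 0, 0, 0, 0, 0, 1, 0, 0, 1, 1, 0, 0, 0, 0, 0, 0, 0, 0, 0, 0, 0, 0, 0, 0, 0, 0, 0, 0, 0, 0, 0, 0, 0, 0, 0, 0, 0, 0, 0, 0, 0, 0, 0, 0, 0, 0, 0, 0, 0, 0, 0, 0, 0, 0, 0, 0, 0, 0, 0, 0, 0, 0, 0, 0, 0, 0, 0, 0, 0, 0, 0, 0, 0, 0, 0, 0, 0, 0, 0, 0, 0, 0, 0, 0, 0, 0, 0, 0, 0, 0, 0, 0, 0, 0, 0, 0, 0, 0, 0, 0, 1, 0, 0, 1, 1, 0, 0, 1, 1, 0, 0, 0, 0, 0, 1]),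
    (.ovl [11] 25 [], [0, 0, 0, 0, 0, 0, 0, 0, 0, 0, 0, 0, 0, 1, 1, 0, 0, 0, 0, 0, 0, 0, 0, 0, 0, 0, 0, 0, 0, 0, 0, 0, 0, 0, 0, 0, 0, 0, 0, 0, 0, 0, 0, 0, 0, 0, 0, 0, 0, 0, 0, 0, 0, 0, 0, 0, 0, 0, 0, 0, 0, 0, 0, 0, 0, 0, 0, 0, 0, 0, 0, 0, 0, 0, 0, 0, 0, 0, 0, 0, 0, 0, 0, 0, 0, 0, 0, 0, 0, 0, 0, 0, 0, 0, 0, 0, 0, 0, 0, 0, 0, 0, 0, 0, 0, 0, 0, 0, 0, 0, 0, 0, 0, 0, 0, 1, 1, 0, 0, 1]),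
    (.ovl [5] 29 [], [0, 0, 0, 0, 0, 0, 0, 0, 0, 0, 0, 1, 0, 0, 0, 0, 0, 0, 0, 0, 0, 0, 0, 0, 0, 0, 0, 0, 0, 0, 0, 0, 0, 0, 0, 0, 1, 0, 0, 0, 0, 1, 0, 0, 0, 0, 0, 0, 0, 0, 0, 0, 0, 1, 0, 0, 0, 0, 0, 0, 0, 0, 0, 0, 0, 0, 0, 0, 0, 0, 0, 0, 0, 0, 0, 1, 0, 0, 1, 0, 0, 0, 1, 0, 0, 0, 1, 0, 0, 0, 0, 0, 0, 0, 0, 0, 0, 0, 0, 0, 0, 0, 0, 0, 0, 0, 1, 0, 0, 1, 0, 0, 0, 0, 0, 0, 1, 0, 1]),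
    (.ovl [3] 30 [], [0, 0, 0, 0, 0, 0, 0, 1, 0, 1, 0, 1, 1, 0, 1, 0, 0, 0, 0, 0, 0, 0, 0, 0, 0, 0, 0, 0, 0, 0, 0, 0, 0, 0, 0, 0, 0, 0, 0, 0, 0, 0, 0, 0, 0, 0, 0, 0, 0, 0, 0, 0, 0, 0, 0, 0, 0, 1, 0, 1, 0, 0, 0, 0, 0, 0, 0, 0, 0, 0, 0, 0, 0, 0, 0, 0, 0, 0, 0, 0, 0, 0, 0, 0, 0, 0, 0, 0, 0, 0, 0, 0, 0, 1, 0, 0, 0, 0, 1, 0, 0, 0, 0, 0, 0, 0, 1, 1]),
    (.ovl [4] 31 [], [0, 0, 0, 0, 0, 1, 0, 1, 0, 0, 0, 1, 1, 1, 1, 0, 0, 0, 0, 0, 0, 0, 0, 0, 0, 0, 0, 0, 0, 0, 0, 0, 0, 0, 0, 0, 0, 0, 0, 0, 1, 0, 0, 0, 0, 0, 0, 0, 0, 0, 0, 0, 0, 0, 0, 0, 0, 0, 0, 0, 0, 0, 0, 0, 0, 1, 0, 1, 0, 0, 0, 1, 0, 1, 0, 0, 1, 0, 0, 0, 1, 1, 1, 0, 0, 0, 0, 0, 0, 0, 0, 0, 0, 0, 0, 1, 1, 1, 1, 0, 0, 0, 0, 0, 0, 0, 0, 0, 0, 0, 0, 0, 0, 0,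 0, 1, 0, 1, 1]),
    (.ovl [6] 33 [], [0, 0, 0, 0, 0, 0, 0, 0, 0, 0, 1, 1, 1, 0, 0, 0, 0, 0, 0, 0, 0, 0, 0, 0, 0, 0, 0, 0, 0, 0, 0, 0, 0, 0, 0, 0, 0, 0, 1, 1, 0, 1, 0, 0, 0, 0, 0, 0, 0, 0, 0, 0, 0, 0, 0, 0, 0, 0, 0, 0, 0, 0, 0, 0, 0, 0, 0, 0, 0, 0, 0, 0, 0, 0, 0, 0, 0, 0, 0, 0, 0, 0, 0, 0, 0, 0, 0, 1, 1, 1, 0, 0, 0, 0, 0, 0, 0, 0, 0, 0, 0, 0, 0, 0, 0, 0, 0, 0, 0, 0, 1, 0, 0, 1, 1, 0, 0, 0, 0]),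
    (.ovl [7] 34 [], [0, 0, 0, 0, 0, 0, 0, 0, 0, 0, 0, 0, 1, 0, 0, 0, 0, 0, 0, 0, 0, 0, 0, 0, 0, 0, 0, 0, 0, 0, 0, 0, 0, 0, 0, 0, 0, 0, 0, 1, 0, 0, 0, 0, 0, 0, 0, 0, 0, 0, 0, 0, 0, 0, 0, 0, 0, 0, 0, 0, 0, 0, 0, 0, 0, 0, 0, 0, 0, 0, 0, 0, 0, 0, 0, 0, 0, 0, 0, 0, 0, 0, 0, 0, 0, 0, 0, 0, 0, 0, 0, 0, 0, 0, 0, 0, 1]),
    (.ovl [8] 35 [], [0, 0, 0, 0, 0, 0, 0, 0, 0, 1, 0, 1, 0, 0, 0, 0, 0, 0, 0, 0, 0, 0, 0, 0, 0, 0, 0, 0, 0, 0, 0, 0, 0, 0, 0, 0, 0, 0, 1, 0, 0, 1, 0, 0, 0, 0, 0, 0, 0, 0, 0, 0, 0, 0, 0, 0, 0, 0, 0, 0, 0, 0, 0, 0, 0, 0, 0, 0, 0, 0, 0, 0, 0, 0, 0, 0, 0, 0, 0, 0, 0, 0, 0, 0, 0, 0, 0, 0, 0, 0, 0, 0, 0, 0, 0, 0, 0, 0, 0, 1, 0, 1, 0, 0, 0, 0, 1, 1, 0, 1, 0, 0, 0, 0, 0, 0, 0, 0, 1]),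
    (.ovl [9] 36 [], [0, 0, 0, 0, 0, 0, 0, 0, 0, 0, 0, 1, 1, 0, 0, 0, 0, 0, 0, 0, 0, 0, 0, 0, 0, 0, 0, 0, 0, 0, 0, 0, 0, 0, 0, 0, 0, 0, 0, 0, 0, 0, 0, 0, 0, 0, 0, 0, 0, 0, 0, 0, 0, 0, 0, 0, 0, 0, 0, 0, 0, 0, 0, 0, 0, 0, 0, 0, 0, 0, 0, 0, 0, 0, 0, 0, 0, 0, 0, 0, 0, 0, 0, 0, 0, 0, 0, 0, 0, 0, 0, 0, 0, 0, 0, 0, 0, 0, 0, 0, 0, 0, 0, 0, 0, 0, 1, 1, 0, 0, 0, 0, 0, 0, 1]),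
    (.ovl [10] 37 [], [0, 0, 0, 0, 0, 0, 0, 0, 0, 0, 0, 0, 1, 1, 0, 0, 0, 0, 0, 0, 0, 0, 0, 0, 0, 0, 0, 0, 0, 0, 0, 0, 0, 0, 0, 0, 0, 0, 0, 0, 0, 0, 0, 0, 0, 0, 0, 0, 0, 0, 0, 0, 0, 0, 0, 0, 0, 0, 0, 0, 0, 0, 0, 0, 0, 0, 0, 0, 0, 0, 0, 0, 0, 0, 0, 0, 0, 0, 0, 0, 0, 0, 0, 0, 0, 0, 0, 0, 0, 0, 0, 0, 0, 0, 0, 0, 0, 0, 0, 0, 0, 0, 0, 0, 0, 0, 0, 0, 0, 0, 0, 1, 1, 0, 0, 0, 0, 1]),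
    (.ovl [5] 44 [], [0, 0, 0, 0, 0, 0, 0, 0, 0, 1, 0, 0, 0, 0, 1, 0, 0, 0, 0, 0, 0, 0, 0, 0, 0, 0, 0, 0, 0, 0, 0, 0, 0, 0, 0, 0, 0, 0, 0, 0, 0, 0, 0, 0, 0, 0, 0, 0, 0, 0, 0, 0, 0, 0, 0, 0, 0, 0, 0, 0, 0, 0, 0, 0, 0, 0, 0, 0, 0, 0, 0, 0, 0, 0, 0, 0, 0, 0, 1, 0, 0, 0, 0, 1, 0, 0, 0, 0, 0, 0, 0, 0, 0, 0, 0, 0, 0, 0, 0, 0, 0, 0, 0, 0, 0, 0, 0, 0, 0, 1]),
    (.ovl [10] 44 [], [0, 0, 0, 0, 0, 0, 0, 0, 0, 0, 0, 0, 0, 0, 0, 0, 0, 0, 0, 0, 0, 0, 0, 0, 0, 0, 0, 0, 0, 0, 0, 0, 0, 0, 0, 0, 0, 0, 0, 0, 0, 0, 0, 0, 0, 0, 0, 0, 0, 0, 0, 1, 0, 1, 0, 0, 0, 0, 0, 0, 0, 0, 0, 0, 0, 0, 0, 0, 0, 0, 0, 0, 0, 0, 0, 0, 0, 0, 0, 0, 0, 0, 0, 0, 0, 0, 0, 0, 0, 0, 0, 0, 0, 0, 0, 0, 0, 0, 0, 0, 0, 0, 0, 0, 0, 1, 0, 1, 0, 1, 0, 0,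 0, 1, 0, 0, 0, 0, 1]),
    (.ovl [8] 47 [], [0, 0, 0, 0, 0, 0, 0, 0, 0, 0, 1, 0, 0, 0, 0, 0, 0, 0, 0, 0, 0, 0, 0, 0, 0, 0, 0, 0, 0, 0, 0, 0, 0, 0, 0, 0, 0, 0, 0, 0, 0, 0, 0, 0, 0, 0, 0, 0, 0, 0, 1, 0, 0, 1, 0, 0, 0, 0, 0, 0, 0, 0, 0, 0, 0, 0, 0, 0, 0, 0, 0, 0, 0, 0, 0, 0, 0, 0, 0, 0, 0, 0, 0, 0, 0, 0, 0, 0, 0, 0, 0, 0, 0, 0, 0, 0, 0, 0, 0, 0, 1, 0, 0, 0, 0, 0, 0, 0, 0, 0, 0, 0, 1, 1, 0, 0, 0, 0, 0, 1]),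
    (.ovl [9] 48 [], [0, 0, 0, 0, 0, 0, 0, 0, 0, 0, 0, 1, 0, 1, 0, 0, 0, 0, 0, 0, 0, 0, 0, 0, 0, 0, 0, 0, 0, 0, 0, 0, 0, 0, 0, 0, 0, 0, 0, 0, 0, 0, 0, 0, 0, 0, 0, 0, 0, 0, 0, 0, 0, 0, 0, 0, 0, 0, 0, 0, 0, 0, 0, 0, 0, 0, 0, 0, 0, 0, 0, 0, 0, 0, 0, 0, 0, 0, 0, 0, 0, 0, 0, 0, 0, 0, 0, 0, 0, 0, 0, 0, 0, 0, 0, 0, 0, 0, 0, 0, 0, 0, 0, 0, 0, 0, 1, 0, 1, 0, 0, 0, 0, 0, 0, 1]),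
    (.ovl [10] 48 [], [0, 0, 0, 0, 0, 0, 0, 0, 0, 0, 0, 0, 0, 0, 0, 0, 0, 0, 0, 0, 0, 0, 0, 0, 0, 0, 0, 0, 0, 0, 0, 0, 0, 0, 0, 0, 0, 0, 0, 0, 0, 0, 0, 0, 0, 0, 0, 0, 0, 0, 0, 0, 0, 0, 0, 0, 0, 0, 0, 0, 0, 0, 0, 0, 0, 0, 0, 0, 0, 0, 0, 0, 0, 0, 0, 0, 0, 0, 0, 0, 0, 0, 0, 0, 0, 0, 0, 0, 0, 0, 0, 0, 0, 0, 0, 0, 0, 0, 0, 0, 0, 0, 0, 0, 0, 0, 0, 0, 0, 0, 1, 0, 1]),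
    (.ovl [7] 57 [], [0, 0, 0, 0, 0, 0, 0, 0, 0, 0, 0, 1, 0, 0, 0, 0, 0, 0, 0, 0, 0, 0, 0, 0, 0, 0, 0, 0, 0, 0, 0, 0, 0, 0, 0, 0, 0, 0, 0, 0, 0, 0, 0, 0, 0, 0, 0, 0, 0, 0, 0, 0, 0, 0, 0, 0, 0, 0, 0, 0, 0, 0, 1, 0, 0, 0, 0, 0, 0, 0, 0, 0, 0, 0, 0, 0, 0, 0, 0, 0, 0, 0, 0, 0, 0, 0, 0, 0, 0, 0, 0, 0, 0, 0, 0, 1, 0, 0, 0, 0, 0, 0, 0, 0, 0, 0, 0, 0, 0, 0, 0, 0, 0, 0, 0]),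
    (.ovl [7] 67 [], [0, 0, 0, 0, 0, 0, 0, 0, 0, 0, 0, 0, 1, 0, 1, 0, 0, 0, 0, 0, 0, 0, 0, 0, 0, 0, 0, 0, 0, 0, 0, 0, 0, 0, 0, 0, 0, 0, 0, 0, 0, 0, 0, 0, 0, 0, 0, 0, 0, 0, 0, 0, 0, 0, 0, 0, 0, 0, 0, 0, 0, 0, 0, 0, 0, 0, 0, 0, 0, 0, 0, 0, 1, 0, 0, 0, 0, 0, 0, 0, 0, 0, 0, 0, 0, 0, 0, 0, 0, 0, 0, 0, 0, 0, 0, 0, 1, 0, 1, 0, 0, 0, 0, 0, 0, 0, 0, 0, 0, 0, 0, 0, 0, 0, 0, 0, 0, 0, 1]),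
    (.ovl [8] 68 [], [0, 0, 0, 0, 0, 0, 0, 0, 0, 0, 0, 0, 1, 0, 1, 0, 0, 0, 0, 0, 0, 0, 0, 0, 0, 0, 0, 0, 0, 0, 0, 0, 0, 0, 0, 0, 0, 0, 0, 0, 0, 0, 0, 0, 0, 0, 0, 0, 0, 0, 0, 0, 0, 0, 0, 0, 0, 0, 0, 0, 0, 0, 0, 0, 0, 0, 0, 0, 0, 0, 0, 1, 0, 0, 1, 0, 0, 0, 0, 0, 0, 0, 0, 0, 0, 0, 0, 0, 0, 0, 0, 0, 0, 0, 0, 0, 0, 0, 0, 0, 0, 0, 1, 0, 1, 0, 0, 0, 0, 0, 0, 0, 0, 0, 0, 0, 0, 0, 1]),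
    (.ovl [7] 76 [], [0, 0, 0, 0, 0, 0, 0, 0, 0, 0, 0, 0, 0, 0, 0, 0, 0, 0, 0, 0, 0, 0, 0, 0, 0, 0, 0, 0, 0, 0, 0, 0, 0, 0, 0, 0, 0, 0, 0, 0, 0, 0, 0, 0, 0, 0, 0, 0, 0, 0, 0, 0, 0, 0, 0, 0, 0, 0, 0, 0, 0, 0, 0, 0, 0, 0, 0, 0, 0, 0, 0, 0, 0, 0, 0, 0, 0, 0, 0, 0, 0, 1]),
    (.cnj 0 [2, 1] [1, 2], [0, 0, 0, 0, 0, 0, 0, 0, 0, 0, 0, 0, 0, 0, 0, 0, 0, 0, 0, 0, 0, 0, 0, 0, 0, 0, 0, 0, 0, 0, 0, 0, 0, 0, 0, 0, 0, 0, 0, 0, 0, 0, 0, 0, 0, 0, 0, 0, 0, 0, 0, 0, 0, 0, 0, 0, 0, 0, 0, 0, 0, 0, 0, 0, 0, 0, 0, 0, 0, 0, 0, 0, 0, 0, 0, 0, 0, 0, 0, 0, 0, 0, 0, 0, 0, 0, 0, 0, 0, 0, 0, 0, 0, 0, 0, 0, 0, 0, 0, 0, 0, 0, 0, 0, 0, 0, 0, 0, 0, 0, 0, 0, 0, 1, 0, 0, 1, 0, 0, 0, 0, 0, 0]),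
    (.cnj 0 [2, 2] [], [0, 0, 0, 0, 0, 0, 0, 0, 0, 0, 1, 1, 0, 0, 1, 0, 0, 0, 0, 0, 0, 0, 0, 0, 0, 0, 0, 0, 0, 0, 0, 0, 0, 0, 0, 0, 0, 0, 0, 0, 0, 0, 0, 0, 0, 0, 0, 0, 0, 0, 0, 0, 0, 0, 0, 0, 0, 0, 0, 0, 0, 0, 0, 0, 0, 0, 0, 0, 0, 0, 0, 0, 0, 0, 0, 0, 0, 0, 0, 0, 0, 0, 0, 0, 0, 0, 0, 0, 0, 0, 0, 0, 0, 0, 0, 0, 0, 0, 0, 0, 0, 0, 0, 0, 0, 0, 0, 0, 0, 0, 0, 0, 0, 1, 0, 0, 0, 0, 0, 0, 0, 0, 0]),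
    (.cnj 0 [3, 0] [0, 3], [0, 0, 0, 0, 0, 0, 0, 0, 0, 0, 0, 0, 0, 0, 0, 0, 0, 0, 0, 0, 0, 0, 0, 0, 0, 0, 0, 1, 0, 0, 0, 0, 0, 0, 0, 0, 0, 0, 0, 0, 0, 0, 0, 0, 0, 0, 0, 0, 0, 0, 0, 0, 1, 0, 0, 0, 0, 0, 0, 0, 0, 0, 0, 0, 0, 0, 0, 0, 0, 0, 0, 0, 0, 1, 0, 0, 0, 0, 0, 0, 0, 0, 0, 0, 0, 0, 0, 0, 0, 0, 0, 0, 0, 0, 0, 0, 0, 1, 0, 0, 0, 0, 0, 0, 0, 0, 0, 0, 1, 0, 0, 0, 0, 0, 0, 0, 0, 0, 0, 0, 0, 0, 0, 0]),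
    (.cnj 0 [3, 1] [1, 3], [0, 0, 0, 0, 0, 0, 0, 0, 0, 0, 0, 0, 0, 0, 0, 0, 0, 0, 0, 0, 0, 0, 0, 0, 0, 0, 0, 0, 1, 0, 0, 0, 0, 0, 0, 0, 0, 0, 0, 0, 0, 0, 0, 0, 0, 0, 0, 0, 0, 0, 0, 0, 0, 1, 0, 0, 0, 0, 0, 0, 0, 0, 0, 0, 0, 0, 0, 0, 0, 0, 0, 0, 0, 0, 1, 0, 0, 0, 0, 0, 0, 0, 0, 0, 0, 0, 0, 0, 0, 0, 0, 0, 0, 0, 0, 0, 0, 0, 1, 0, 0, 0, 0, 0, 0, 0, 0, 0, 0, 1, 0, 0, 0, 0, 0, 0, 0, 0, 0, 0, 0, 0, 0, 0]),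
    (.cnj 0 [5, 5] [], [0, 0, 0, 0, 0, 0, 0, 0, 0, 0, 1, 1, 0, 1, 0, 0, 0, 0, 0, 0, 0, 0, 0, 0, 0, 0, 0, 0, 0, 0, 0, 0, 0, 0, 0, 0, 0, 0, 0, 0, 0, 0, 0, 0, 0, 0, 0, 0, 0, 0, 0, 0, 0, 0, 0, 0, 0, 0, 0, 0, 0, 0, 0, 0, 0, 0, 0, 0, 0, 0, 0, 0, 0, 0, 0, 0, 0, 0, 0, 0, 0, 0, 0, 0, 0, 0, 0, 0, 0, 0, 0, 0, 0, 0, 0, 0, 0, 0, 0, 0, 0, 0, 0, 0, 0, 0, 0, 0, 0, 0, 0, 1, 0, 0, 1, 1, 0, 1, 0, 0, 0, 0, 0, 0, 0, 0]),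
    (.cnj 0 [6, 5] [5, 6], [0, 0, 0, 0, 0, 0, 0, 0, 0, 0, 0, 0, 0, 0, 0, 0, 0, 0, 0, 0, 0, 0, 0, 0, 0, 0, 0, 0, 0, 0, 0, 0, 0, 0, 0, 0, 0, 0, 0, 0, 0, 0, 0, 0, 0, 0, 0, 0, 0, 1, 0, 1, 0, 0, 0, 0, 0, 0, 0, 0, 0, 0, 0, 0, 0, 0, 0, 0, 0, 0, 0, 0, 0, 0, 0, 0, 0, 0, 0, 0, 0, 0, 0, 0, 0, 0, 0, 0, 0, 0, 0, 0, 0, 0, 0, 0, 0, 0, 0, 0, 0, 1, 1, 1, 0, 1, 0, 1, 0, 0, 0, 0, 0, 0, 1, 0, 1, 1, 1, 1, 0, 0, 0, 0, 0, 0, 0]),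
    (.cnj 0 [9, 2] [2, 9], [0, 0, 0, 0, 0, 0, 0, 0, 0, 0, 0, 0, 0, 1, 1, 0, 0, 0, 0, 0, 0, 0, 0, 0, 1, 1, 0, 0, 1, 0, 0, 0, 0, 0, 0, 0, 0, 0, 0, 0, 0, 0, 0, 0, 0, 0, 0, 0, 0, 0, 1, 0, 1, 1, 0, 0, 0, 0, 0, 0, 0, 0, 0, 0, 0, 0, 0, 0, 0, 0, 0, 1, 0, 0, 0, 0, 0, 0, 0, 0, 1, 0, 0, 0, 0, 0, 0, 0, 0, 0, 0, 0, 0, 0, 0, 0, 0, 0, 0, 0, 0, 0, 0, 0, 0, 0, 1, 0, 0, 0, 0, 1, 0, 0, 0, 1, 0, 0, 1, 1, 0, 0, 0, 0, 0, 0, 0, 0, 0, 0]),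
    (.cnj 0 [0, 2, 0] [2], [0, 0, 0, 0, 0, 0, 0, 0, 0, 0, 0, 0, 0, 0, 0, 0, 0, 0, 0, 0, 0, 0, 0, 0, 0, 0, 0, 0, 0, 0, 0, 0, 0, 0, 0, 0, 0, 0, 0, 0, 0, 0, 0, 0, 0, 0, 0, 0, 0, 0, 0, 0, 0, 0, 0, 0, 0, 0, 0, 0, 0, 0, 0, 0, 0, 0, 0, 0, 0, 0, 0, 0, 0, 0, 0, 0, 0, 0, 0, 0, 0, 0, 0, 0, 0, 0, 0, 0, 0, 0, 0, 0, 0, 0, 0, 0, 0, 0, 0, 0, 0, 0, 0, 0, 0, 0, 0, 0, 0, 0, 0, 0, 1, 0, 0, 1, 0, 0, 0, 1, 0, 0, 0]),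
    (.cnj 0 [0, 6, 0] [6], [0, 0, 0, 0, 0, 0, 0, 0, 0, 0, 0, 0, 0, 0, 0, 0, 0, 0, 0, 0, 0, 0, 0, 0, 0, 0, 0, 0, 0, 0, 0, 0, 0, 0, 0, 0, 0, 0, 0, 0, 0, 0, 0, 0, 0, 0, 0, 0, 0, 0, 0, 0, 1, 0, 0, 0, 0, 0, 0, 0, 0, 0, 0, 0, 0, 0, 0, 0, 0, 0, 0, 0, 0, 0, 0, 0, 0, 0, 0, 0, 0, 0, 0, 0, 0, 0, 0, 0, 0, 0, 0, 0, 0, 0, 0, 0, 0, 0, 0, 0, 0, 0, 0, 1, 0, 0, 0, 0, 1, 0, 0, 0, 0, 0, 0, 1, 0, 0, 0, 1, 0, 0, 0, 0, 0, 0, 0]),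
    (.cnj 0 [3, 2, 3] [1, 6, 6], [1, 0, 0, 0, 1, 0, 0, 1, 0, 1, 0, 0, 1, 1, 1, 0, 0, 0, 1, 0, 0, 1, 0, 1, 1, 0, 0, 0, 1, 0, 0, 0, 0, 0, 0, 0, 0, 0, 0, 0, 0, 0, 0, 0, 0, 0, 0, 0, 1, 0, 1, 0, 0, 0, 0, 0, 0, 0, 0, 0, 0, 0, 0, 0, 0, 0, 0, 1, 0, 1, 0, 0, 0, 1, 0, 0, 0, 0, 0, 0, 0, 0, 0, 0, 0, 0, 0, 0, 0, 0, 0, 0, 1, 0, 1, 1, 1, 1, 0, 1, 1, 0, 0, 1, 0, 1, 0, 0, 1, 0, 0, 0, 0, 0, 0, 1, 0, 1, 1, 0, 0, 1, 1, 0, 0, 0, 0]),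
    (.cnj 0 [6, 2, 1] [0, 2, 6], [0, 0, 0, 0, 0, 0, 0, 0, 0, 0, 0, 0, 0, 0, 0, 0, 0, 0, 0, 0, 0, 0, 0, 0, 0, 0, 0, 0, 0, 0, 0, 0, 0, 0, 0, 0, 0, 0, 0, 0, 0, 0, 0, 0, 0, 0, 0, 0, 0, 0, 1, 0, 1, 0, 0, 0, 0, 0, 0, 0, 0, 0, 0, 0, 0, 0, 0, 0, 0, 0, 0, 0, 0, 0, 0, 0, 0, 0, 0, 0, 0, 0, 0, 0, 0, 0, 0, 0, 0, 0, 0, 0, 0, 0, 0, 0, 0, 0, 0, 0, 1, 0, 0, 1, 1, 0, 1, 0, 0, 1, 1, 0, 0, 1, 0, 1, 0, 0, 0, 0, 1, 1, 0, 0, 0, 0, 0]),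
    (.cnj 0 [6, 2, 3] [1, 3, 6], [0, 0, 0, 0, 0, 0, 0, 0, 0, 0, 1, 0, 1, 0, 1, 0, 0, 0, 0, 0, 0, 0, 1, 0, 1, 1, 0, 1, 1, 0, 0, 0, 0, 0, 0, 0, 0, 0, 0, 0, 0, 0, 0, 0, 0, 0, 0, 0, 1, 0, 1, 0, 0, 0, 0, 0, 0, 0, 0, 0, 0, 0, 0, 0, 0, 0, 0, 0, 1, 0, 0, 0, 1, 1, 1, 0, 0, 0, 0, 0, 0, 0, 0, 0, 0, 0, 0, 0, 0, 0, 0, 0, 1, 0, 0, 0, 0, 1, 0, 1, 0, 0, 0, 0, 1, 0, 1, 1, 1, 1, 0, 1, 0, 0, 0, 0, 1, 0, 1, 0, 0, 1, 1, 0, 0, 0, 0]),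
    (.cnj 0 [6, 8, 6] [0, 2, 8], [0, 0, 1, 0, 0, 0, 1, 1, 1, 0, 0, 1, 1, 0, 1, 0, 1, 0, 0, 0, 0, 0, 0, 1, 0, 1, 0, 1, 0, 0, 0, 0, 0, 0, 0, 0, 0, 0, 0, 0, 0, 0, 0, 0, 0, 1, 1, 1, 0, 1, 1, 1, 0, 0, 0, 0, 0, 0, 0, 0, 0, 0, 0, 0, 0, 0, 0, 0, 0, 0, 0, 0, 0, 0, 0, 0, 0, 1, 0, 0, 1, 0, 1, 1, 1, 1, 0, 0, 1, 0, 1, 0, 0, 1, 1, 0, 0, 0, 0, 0, 0, 0, 1, 1, 1, 0, 1, 1, 0, 1, 1, 1, 1, 1, 1, 1, 1, 1, 0, 1, 1, 0, 1, 0, 0, 0, 0, 0, 0]),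
    (.cnj 0 [0, 1, 2, 3] [3, 2], [0, 0, 0, 0, 0, 0, 0, 0, 0, 0, 0, 0, 1, 0, 0, 0, 0, 0, 0, 0, 0, 0, 0, 0, 1, 0, 0, 1, 0, 0, 0, 0, 0, 0, 0, 0, 0, 0, 0, 0, 0, 0, 0, 0, 0, 0, 0, 0, 0, 0, 1, 0, 1, 1, 0, 0, 0, 0, 0, 0, 0, 0, 0, 0, 0, 0, 0, 0, 0, 0, 1, 0, 0, 1, 0, 0, 0, 0, 0, 0, 0, 0, 0, 0, 0, 0, 0, 0, 0, 0, 0, 0, 0, 0, 1, 0, 1, 0, 0, 0, 0, 0, 0, 0, 0, 1, 0, 0, 0, 1, 0, 0, 1, 1, 0, 1, 1, 0, 1, 1, 1, 1, 0, 0]),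
    (.cnj 11 [14, 14] [], [0, 0, 0, 0, 0, 0, 0, 0, 0, 0, 0, 1, 0, 0, 0, 0, 0, 0, 0, 0, 0, 0, 0, 0, 0, 0, 0, 0, 0, 0, 0, 0, 0, 0, 0, 0, 0, 0, 0, 0, 0, 0, 0, 0, 0, 0, 0, 0, 0, 0, 0, 0, 0, 0, 0, 0, 0, 0, 0, 0, 0, 1, 0, 0, 0, 0, 0, 0, 0, 0, 0, 0, 0, 0, 0, 0, 0, 0, 0, 0, 0, 0, 0, 0, 0, 0, 0, 0, 0, 0, 0, 0, 0, 0, 0, 0, 0, 0, 0, 0, 0, 0, 0, 0, 0, 0, 0, 0, 0, 0, 0, 0, 0, 0, 0, 0, 0, 0, 0, 0, 0, 0, 0, 0, 0, 0, 0, 0, 0, 0, 0, 0, 0, 0, 0]),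
    (.cnj 11 [15, 15] [], [0, 0, 0, 0, 0, 0, 1, 1, 0, 0, 1, 1, 1, 0, 1, 0, 0, 0, 0, 0, 0, 0, 0, 0, 0, 0, 0, 0, 0, 0, 0, 0, 0, 0, 0, 0, 0, 0, 0, 0, 0, 0, 0, 0, 0, 0, 0, 0, 0, 0, 0, 0, 0, 0, 0, 0, 0, 0, 0, 0, 0, 0, 0, 0, 0, 0, 0, 0, 0, 0, 0, 0, 0, 0, 0, 0, 0, 0, 0, 0, 0, 0, 0, 0, 1, 0, 0, 0, 0, 0, 0, 0, 0, 0, 0, 1, 0, 0, 1, 0, 0, 0, 0, 0, 0, 0, 0, 0, 0, 0, 0, 0, 0, 0, 1, 0, 1, 0, 0, 0, 0, 0, 0, 0, 0, 0, 0, 0, 0, 0, 0, 0, 0, 0, 0, 0]),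
    (.cnj 11 [17, 17] [], [0, 0, 0, 0, 1, 0, 0, 1, 0, 1, 1, 0, 1, 1, 1, 0, 0, 0, 0, 0, 0, 0, 0, 0, 0, 0, 0, 0, 0, 0, 0, 0, 0, 0, 0, 0, 0, 0, 0, 0, 0, 0, 0, 0, 0, 0, 0, 0, 0, 0, 0, 0, 0, 0, 0, 0, 0, 0, 0, 0, 0, 0, 0, 0, 0, 0, 0, 1, 0, 0, 1, 0, 1, 0, 0, 0, 0, 0, 0, 0, 0, 0, 0, 0, 0, 0, 0, 0, 0, 0, 0, 0, 0, 0, 1, 0, 1, 1, 1, 0, 0, 0, 0, 0, 0, 0, 0, 0, 0, 0, 0, 1, 1, 1, 0, 0, 0, 0, 1, 1, 0, 0, 0, 0, 0, 0, 0, 0, 0, 0, 0, 0, 0, 0, 0, 0, 0, 0]),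
    (.cnj 11 [19, 19] [13], [0, 0, 0, 1, 0, 1, 0, 1, 0, 1, 0, 0, 0, 0, 1, 0, 0, 0, 0, 0, 0, 0, 0, 0, 0, 0, 0, 0, 0, 0, 0, 0, 0, 0, 0, 0, 0, 0, 0, 0, 0, 0, 0, 0, 0, 0, 0, 0, 0, 0, 0, 0, 0, 0, 0, 1, 0, 0, 0, 0, 0, 0, 0, 0, 0, 0, 0, 0, 0, 0, 0, 0, 0, 0, 0, 0, 0, 0, 0, 0, 0, 0, 0, 1, 0, 0, 0, 0, 0, 0, 0, 0, 0, 1, 0, 0, 1, 0, 1, 0, 0, 0, 0, 0, 0, 0, 0, 0, 0, 0, 0, 0, 0, 0, 0, 0, 0, 0, 1, 0, 0, 0, 0, 0, 0, 0, 0, 0, 0, 0, 0, 0, 0, 1, 0, 0, 0, 0, 0, 0]),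
    (.cnj 11 [20, 12] [12, 20], [0, 0, 0, 0, 0, 0, 0, 0, 0, 0, 0, 0, 0, 0, 0, 0, 0, 0, 0, 0, 0, 0, 0, 0, 0, 0, 0, 0, 0, 0, 0, 0, 0, 0, 0, 0, 0, 0, 0, 0, 0, 0, 0, 0, 0, 0, 0, 0, 0, 0, 0, 0, 0, 0, 0, 0, 0, 0, 0, 0, 0, 0, 0, 1, 0, 0, 0, 0, 0, 0, 0, 0, 0, 1, 0, 0, 0, 0, 0, 0, 0, 0, 1, 0, 0, 0, 0, 0, 0, 0, 0, 0, 0, 0, 0, 0, 0, 0, 0, 0, 0, 0, 0, 0, 0, 0, 0, 0, 0, 0, 0, 0, 1, 0, 0, 0, 0, 0, 0, 0, 0, 0, 0, 0, 0, 0, 0, 0, 0, 0, 0, 0, 0, 0, 0, 0, 0, 0, 0, 0, 0]),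
    (.cnj 11 [21, 11] [11, 21], [0, 0, 0, 0, 0, 0, 0, 0, 0, 0, 0, 0, 0, 0, 0, 0, 0, 0, 0, 0, 0, 0, 0, 0, 0, 0, 0, 0, 0, 0, 0, 0, 0, 0, 0, 0, 0, 0, 0, 0, 0, 0, 0, 0, 0, 0, 0, 0, 0, 0, 0, 0, 0, 0, 0, 0, 0, 0, 0, 0, 0, 0, 0, 0, 0, 0, 0, 0, 0, 0, 0, 1, 0, 0, 0, 0, 0, 0, 0, 0, 1, 0, 0, 0, 0, 0, 0, 0, 0, 0, 0, 0, 0, 0, 0, 0, 0, 0, 0, 0, 0, 0, 0, 0, 0, 0, 0, 0, 0, 0, 1, 0, 0, 0, 0, 0, 0, 0, 0, 0, 0, 0, 0, 0, 0, 0, 0, 0, 0, 0, 0, 0, 0, 0, 0, 0, 0, 0, 0, 0, 0, 0]),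
    (.cnj 11 [21, 21] [11, 12], [0, 0, 0, 0, 1, 1, 0, 0, 0, 0, 1, 1, 1, 0, 1, 0, 0, 0, 0, 0, 0, 0, 0, 0, 0, 0, 0, 0, 0, 0, 0, 0, 0, 0, 0, 0, 0, 0, 0, 0, 0, 0, 0, 0, 0, 0, 0, 0, 0, 0, 0, 0, 0, 0, 0, 0, 0, 0, 0, 0, 0, 0, 0, 0, 0, 1, 0, 0, 1, 0, 0, 0, 0, 0, 0, 0, 0, 1, 0, 0, 0, 1, 0, 0, 0, 0, 0, 0, 0, 0, 0, 0, 0, 0, 0, 0, 0, 0, 0, 0, 1, 1, 0, 0, 0, 0, 0, 0, 0, 0, 1, 0, 1, 1, 0, 0, 0, 1, 0, 1, 0, 0, 0, 0, 0, 0, 0, 0, 0, 0, 0, 1, 1, 0, 0, 0, 0, 0, 0, 0, 0, 0]),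
    (.cnj 11 [11, 15, 11] [15], [0, 0, 0, 0, 0, 0, 0, 0, 0, 0, 0, 0, 0, 0, 0, 0, 0, 0, 0, 0, 0, 0, 0, 0, 0, 0, 0, 0, 0, 0, 0, 0, 0, 0, 0, 0, 0, 0, 0, 0, 0, 0, 0, 0, 0, 0, 0, 0, 0, 0, 0, 0, 0, 0, 0, 0, 0, 0, 0, 0, 0, 0, 0, 0, 0, 0, 0, 0, 0, 0, 0, 0, 0, 0, 0, 0, 0, 0, 0, 0, 0, 0, 0, 0, 0, 0, 0, 0, 1, 0, 0, 0, 0, 0, 0, 1, 0, 0, 0, 0, 0, 0, 0, 0, 0, 0, 0, 0, 0, 0, 1, 0, 0, 0, 0, 0, 0, 0, 0, 0, 0, 0, 0, 0, 0, 0, 0, 0, 0, 0, 0, 0, 0, 0, 0, 0]),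
    (.cnj 11 [12, 15, 12] [15], [0, 0, 0, 0, 0, 0, 0, 0, 0, 0, 0, 0, 0, 0, 0, 0, 0, 0, 0, 0, 0, 0, 0, 0, 0, 0, 0, 0, 0, 0, 0, 0, 0, 0, 0, 0, 0, 0, 0, 0, 0, 0, 0, 0, 0, 0, 0, 0, 0, 0, 0, 0, 0, 0, 0, 0, 0, 0, 0, 0, 0, 0, 0, 0, 0, 0, 0, 0, 0, 0, 0, 0, 0, 0, 0, 0, 0, 0, 0, 0, 0, 0, 0, 0, 0, 0, 0, 0, 0, 0, 1, 0, 0, 0, 0, 0, 0, 1, 0, 0, 0, 0, 0, 0, 0, 0, 0, 0, 0, 0, 0, 0, 1, 0, 0, 0, 0, 0, 0, 0, 0, 0, 0, 0, 0, 0, 0, 0, 0, 0, 0, 0, 0, 0, 0, 0]),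
    (.cnj 11 [13, 15, 13] [15], [0, 0, 0, 0, 0, 0, 0, 0, 0, 0, 0, 0, 0, 0, 0, 0, 0, 0, 0, 0, 0, 0, 0, 0, 0, 0, 0, 0, 0, 0, 0, 0, 0, 0, 0, 0, 0, 0, 0, 0, 0, 0, 0, 0, 0, 0, 0, 0, 0, 0, 0, 0, 0, 0, 0, 0, 0, 0, 0, 0, 0, 0, 0, 0, 0, 0, 0, 0, 0, 0, 0, 0, 0, 0, 0, 0, 0, 0, 0, 0, 0, 0, 0, 0, 0, 0, 0, 0, 0, 0, 0, 1, 0, 0, 0, 0, 0, 0, 1, 0, 0, 0, 0, 0, 0, 0, 0, 0, 0, 0, 0, 0, 0, 1, 0, 0, 0, 0, 0, 0, 0, 0, 0, 0, 0, 0, 0, 0, 0, 0, 0, 0, 0, 0, 0, 0]),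
    (.cnj 11 [16, 17, 16] [17], [0, 0, 0, 0, 0, 0, 1, 1, 0, 0, 1, 1, 1, 0, 0, 0, 0, 0, 0, 0, 0, 0, 0, 0, 0, 0, 0, 0, 0, 0, 0, 0, 0, 0, 0, 0, 0, 0, 0, 0, 0, 0, 0, 0, 0, 0, 0, 0, 0, 0, 0, 0, 0, 0, 0, 0, 0, 0, 0, 0, 0, 0, 0, 0, 0, 0, 1, 1, 0, 0, 0, 0, 0, 0, 0, 0, 0, 0, 0, 0, 0, 0, 0, 0, 0, 0, 0, 1, 1, 0, 0, 1, 0, 0, 1, 0, 1, 0, 0, 0, 0, 0, 0, 0, 0, 1, 0, 0, 0, 0, 0, 0, 0, 0, 1, 0, 0, 0, 0, 0, 0, 0, 0, 0, 0, 0, 0, 0, 0, 0, 0, 0, 0, 0, 0, 0, 0, 0]),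
    (.cnj 11 [16, 19, 16] [11, 12, 19], [0, 0, 0, 0, 0, 0, 1, 1, 0, 0, 1, 0, 1, 0, 0, 0, 0, 0, 0, 0, 0, 0, 0, 0, 0, 0, 0, 0, 0, 0, 0, 0, 0, 0, 0, 0, 0, 0, 0, 0, 0, 0, 0, 0, 0, 0, 0, 0, 0, 0, 0, 0, 0, 0, 0, 0, 0, 0, 0, 0, 1, 1, 0, 1, 0, 0, 0, 0, 0, 0, 0, 0, 0, 0, 0, 0, 0, 0, 0, 1, 0, 1, 0, 1, 0, 0, 1, 0, 0, 0, 0, 1, 0, 1, 0, 0, 0, 0, 0, 0, 0, 0, 0, 0, 0, 0, 0, 0, 1, 1, 1, 0, 1, 0, 0, 0, 0, 1, 0, 1, 0, 0, 0, 0, 0, 0, 0, 0, 0, 0, 0, 1, 1, 0, 0, 0, 0, 0, 0, 0]),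
    (.cnj 11 [17, 14, 13] [11, 14, 17], [0, 0, 0, 0, 0, 0, 0, 0, 0, 0, 0, 1, 1, 1, 0, 0, 0, 0, 0, 0, 0, 0, 0, 0, 0, 0, 0, 0, 0, 0, 0, 0, 0, 0, 0, 0, 0, 0, 0, 0, 0, 0, 0, 0, 0, 0, 0, 0, 0, 0, 0, 0, 0, 0, 1, 0, 0, 1, 0, 1, 1, 0, 1, 0, 0, 0, 0, 0, 0, 0, 0, 0, 0, 0, 0, 0, 0, 0, 0, 0, 0, 0, 0, 0, 0, 0, 0, 0, 0, 0, 0, 0, 0, 0, 0, 1, 1, 1, 0, 0, 0, 0, 0, 0, 0, 0, 1, 0, 0, 0, 0, 1, 1, 0, 1, 0, 1, 1, 1, 0, 0, 0, 0, 0, 0, 0, 0, 0, 0, 0, 0, 1, 0, 1, 0, 0, 0, 0]),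
    (.cnj 11 [17, 19, 17] [11, 13, 19], [0, 0, 0, 0, 1, 0, 0, 1, 0, 1, 1, 0, 0, 1, 1, 0, 0, 0, 0, 0, 0, 0, 0, 0, 0, 0, 0, 0, 0, 0, 0, 0, 0, 0, 0, 0, 0, 0, 0, 0, 0, 0, 0, 0, 0, 0, 0, 0, 0, 0, 0, 0, 0, 0, 0, 0, 0, 0, 0, 1, 0, 1, 0, 0, 1, 0, 0, 0, 0, 1, 1, 0, 0, 0, 0, 0, 0, 0, 1, 0, 0, 0, 0, 0, 0, 0, 0, 0, 0, 0, 0, 0, 0, 1, 0, 0, 1, 0, 1, 0, 0, 0, 0, 0, 0, 1, 0, 1, 1, 1, 0, 1, 1, 1, 0, 1, 0, 0, 0, 0, 0, 0, 0, 0, 0, 0, 0, 0, 0, 0, 0, 1, 0, 1, 0, 0, 0, 0, 0, 0]),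
    (.cnj 11 [18, 18, 15] [11, 20, 20], [1, 0, 1, 1, 0, 1, 0, 1, 0, 1, 1, 1, 1, 1, 1, 0, 0, 0, 1, 0, 1, 0, 1, 0, 0, 0, 0, 1, 0, 0, 0, 0, 0, 0, 0, 0, 0, 0, 0, 0, 0, 0, 0, 0, 0, 0, 0, 0, 0, 0, 0, 0, 0, 0, 0, 0, 0, 1, 0, 0, 0, 0, 0, 0, 0, 1, 1, 1, 1, 0, 0, 1, 1, 0, 1, 0, 1, 0, 0, 1, 0, 0, 1, 0, 1, 0, 1, 0, 0, 0, 1, 1, 0, 0, 1, 0, 0, 1, 1, 1, 0, 1, 1, 0, 1, 1, 0, 0, 0, 0, 1, 0, 1, 0, 1, 0, 0, 0, 1, 0, 0, 0, 0, 0, 0, 0, 0, 0, 0, 0, 0, 1, 0, 0, 0, 1, 0, 0, 0, 0, 0]),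
    (.cnj 11 [18, 21, 18] [11, 12, 21], [1, 0, 1, 0, 1, 0, 0, 1, 0, 0, 0, 1, 0, 1, 0, 0, 0, 0, 1, 0, 1, 0, 0, 0, 1, 0, 0, 1, 1, 0, 0, 0, 0, 0, 0, 0, 0, 0, 0, 0, 0, 0, 0, 1, 1, 0, 0, 1, 0, 0, 0, 0, 0, 0, 0, 0, 0, 0, 0, 0, 0, 0, 0, 0, 0, 0, 0, 1, 0, 0, 1, 1, 1, 0, 1, 0, 0, 0, 1, 1, 0, 1, 1, 1, 1, 1, 1, 0, 0, 0, 0, 1, 0, 0, 0, 1, 0, 0, 0, 1, 1, 0, 0, 1, 0, 0, 0, 1, 0, 1, 0, 1, 1, 0, 1, 1, 1, 0, 0, 1, 0, 0, 0, 0, 0, 0, 0, 0, 0, 0, 0, 1, 1, 0, 0, 0, 0, 0, 0, 0, 0, 0]),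
    (.cnj 11 [19, 14, 13] [14, 19], [0, 0, 0, 0, 0, 0, 0, 0, 0, 0, 0, 1, 0, 0, 0, 0, 0, 0, 0, 0, 0, 0, 0, 0, 0, 0, 0, 0, 0, 0, 0, 0, 0, 0, 0, 0, 0, 0, 0, 0, 0, 0, 0, 0, 0, 0, 0, 0, 0, 0, 0, 0, 0, 0, 0, 1, 0, 1, 0, 1, 0, 0, 1, 0, 1, 0, 0, 0, 0, 0, 0, 0, 0, 0, 0, 0, 0, 0, 0, 0, 0, 0, 0, 0, 0, 0, 0, 0, 0, 0, 0, 0, 0, 0, 0, 1, 0, 0, 0, 0, 0, 0, 0, 0, 0, 0, 0, 0, 0, 0, 0, 0, 0, 0, 1, 0, 0, 0, 1, 0, 0, 0, 0, 0, 0, 0, 0, 0, 0, 0, 0, 0, 0, 1, 0, 0, 0, 0, 0, 0]),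
    (.cnj 11 [20, 15, 20] [12, 15], [0, 0, 0, 1, 1, 1, 0, 0, 0, 0, 1, 1, 0, 0, 0, 0, 0, 0, 0, 0, 0, 0, 0, 0, 0, 0, 0, 0, 0, 0, 0, 0, 0, 0, 0, 0, 0, 0, 0, 0, 0, 0, 0, 0, 0, 0, 0, 0, 0, 0, 0, 0, 0, 0, 0, 0, 1, 0, 0, 0, 0, 1, 1, 0, 1, 1, 0, 1, 0, 0, 0, 0, 0, 0, 0, 0, 1, 0, 0, 0, 0, 1, 0, 0, 1, 0, 0, 0, 0, 0, 1, 0, 0, 0, 0, 1, 1, 0, 0, 0, 0, 0, 0, 0, 0, 0, 0, 0, 0, 0, 0, 0, 0, 0, 0, 1, 1, 0, 0, 0, 0, 0, 0, 0, 0, 0, 0, 0, 0, 0, 0, 0, 1, 0, 0, 0, 0, 0, 0, 0, 0]),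
    (.cnj 11 [20, 19, 13] [11, 19, 20], [0, 0, 0, 0, 0, 0, 0, 0, 0, 0, 0, 1, 1, 0, 0, 0, 0, 0, 0, 0, 0, 0, 0, 0, 0, 0, 0, 0, 0, 0, 0, 0, 0, 0, 0, 0, 0, 0, 0, 0, 0, 0, 0, 0, 0, 0, 0, 0, 0, 0, 0, 0, 0, 0, 0, 1, 0, 1, 0, 0, 0, 0, 0, 0, 0, 0, 0, 1, 0, 1, 0, 1, 1, 0, 1, 0, 0, 0, 1, 0, 0, 1, 0, 0, 0, 0, 0, 0, 0, 0, 0, 0, 0, 1, 1, 0, 1, 0, 1, 0, 0, 0, 0, 0, 0, 1, 1, 0, 0, 0, 0, 0, 0, 1, 1, 0, 1, 0, 0, 0, 0, 0, 0, 0, 0, 0, 0, 0, 0, 0, 0, 1, 0, 1, 0, 0, 0, 0, 0, 0, 0]),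
    (.cnj 11 [22, 21, 15] [21, 22], [0, 0, 0, 0, 0, 0, 0, 0, 1, 1, 1, 1, 1, 1, 0, 0, 0, 0, 1, 1, 0, 0, 1, 0, 0, 0, 0, 0, 0, 0, 0, 0, 0, 0, 0, 0, 0, 0, 0, 0, 0, 0, 0, 0, 0, 0, 0, 1, 0, 1, 1, 0, 0, 0, 0, 0, 0, 0, 1, 0, 0, 1, 0, 1, 1, 1, 1, 1, 1, 0, 0, 1, 1, 0, 1, 0, 0, 1, 1, 1, 0, 1, 0, 1, 0, 1, 1, 1, 0, 0, 0, 0, 0, 1, 1, 1, 0, 1, 1, 1, 0, 0, 0, 1, 1, 1, 0, 1, 0, 1, 0, 0, 0, 0, 1, 0, 0, 0, 0, 0, 0, 0, 0, 0, 0, 0, 0, 0, 0, 0, 0, 0, 0, 0, 0, 1, 0, 0, 0, 0, 0, 0, 0]),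
    (.cnj 11 [11, 12, 13, 18] [18, 11], [0, 0, 0, 0, 0, 0, 0, 0, 0, 0, 0, 0, 0, 0, 0, 0, 0, 0, 0, 0, 0, 0, 0, 0, 0, 1, 0, 1, 1, 0, 0, 0, 0, 0, 0, 0, 0, 0, 0, 0, 0, 0, 0, 0, 0, 0, 0, 0, 0, 0, 1, 0, 1, 1, 0, 0, 0, 0, 0, 0, 0, 0, 0, 0, 0, 0, 0, 0, 0, 0, 0, 1, 0, 0, 0, 0, 0, 0, 0, 0, 0, 0, 0, 0, 0, 0, 0, 0, 1, 0, 0, 0, 0, 0, 0, 0, 0, 0, 0, 0, 0, 1, 0, 0, 0, 0, 0, 0, 0, 0, 0, 0, 0, 0, 0, 1, 0, 0, 0, 0, 0, 0, 0, 0, 0, 0, 0, 0, 0, 0, 0, 0, 1, 1, 0, 0, 0, 0, 0]),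
    (.cnj 23 [24, 24] [], [0, 0, 0, 0, 0, 0, 0, 0, 0, 0, 0, 0, 0, 0, 1, 0, 0, 0, 0, 0, 0, 0, 0, 0, 0, 0, 0, 0, 0, 0, 0, 0, 0, 0, 0, 0, 0, 0, 0, 0, 0, 0, 0, 0, 0, 0, 0, 0, 0, 0, 0, 0, 0, 0, 0, 0, 0, 0, 0, 0, 0, 0, 0, 0, 0, 0, 0, 0, 0, 0, 0, 0, 0, 0, 0, 0, 0, 0, 0, 0, 0, 0, 0, 1, 0, 0, 0, 0, 0, 0, 0, 0, 0, 0, 0, 0, 0, 0, 0, 0, 0, 0, 0, 0, 0, 0, 0, 0, 0, 0, 0, 0, 0, 0, 0, 0, 0, 0, 0, 0, 0, 0, 0, 0, 0, 0, 0, 0, 0, 0, 0, 0, 0, 0, 0, 0, 0, 0, 0, 0, 0, 0, 0, 0, 0]),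
    (.cnj 23 [25, 23] [23, 25], [0, 0, 0, 0, 0, 0, 0, 0, 0, 0, 0, 0, 0, 0, 0, 0, 0, 0, 0, 0, 0, 0, 0, 0, 0, 0, 0, 0, 0, 0, 0, 0, 0, 0, 0, 0, 0, 0, 0, 0, 0, 0, 0, 0, 0, 0, 0, 0, 0, 0, 0, 0, 0, 0, 0, 0, 0, 0, 0, 0, 0, 0, 0, 0, 0, 0, 0, 0, 0, 0, 0, 0, 0, 0, 0, 0, 0, 0, 0, 0, 0, 0, 1, 0, 0, 0, 0, 0, 0, 0, 0, 0, 0, 0, 0, 0, 0, 0, 0, 0, 0, 0, 0, 0, 0, 0, 0, 0, 0, 0, 0, 0, 0, 0, 0, 1, 0, 0, 0, 0, 0, 0, 0, 0, 0, 0, 0, 0, 0, 0, 0, 0, 0, 0, 0, 0, 0, 0, 0, 0, 0, 0, 0, 0, 0, 0]),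
    (.cnj 23 [25, 24] [24, 25], [0, 0, 0, 0, 0, 0, 0, 0, 0, 0, 0, 0, 0, 0, 0, 0, 0, 0, 0, 0, 0, 0, 0, 0, 0, 0, 0, 0, 0, 0, 0, 0, 0, 0, 0, 0, 0, 0, 0, 0, 0, 0, 0, 0, 0, 0, 0, 0, 0, 0, 0, 0, 0, 0, 0, 0, 0, 0, 0, 0, 0, 0, 0, 0, 0, 0, 0, 0, 0, 0, 0, 0, 0, 0, 0, 0, 0, 0, 0, 0, 1, 0, 1, 1, 0, 0, 0, 0, 0, 0, 0, 0, 0, 0, 0, 0, 0, 0, 0, 0, 0, 0, 0, 0, 0, 0, 0, 0, 0, 0, 0, 0, 0, 0, 0, 0, 0, 0, 0, 1, 0, 0, 0, 0, 0, 0, 0, 0, 0, 0, 0, 0, 0, 0, 0, 0, 0, 0, 0, 0, 0, 0, 0, 0, 0, 0]),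
    (.cnj 23 [25, 25] [], [0, 0, 0, 0, 0, 1, 0, 0, 0, 0, 0, 1, 0, 1, 0, 0, 0, 0, 0, 0, 0, 0, 0, 0, 0, 0, 0, 0, 0, 0, 0, 0, 0, 0, 0, 0, 0, 0, 0, 0, 0, 0, 0, 0, 0, 0, 0, 0, 0, 0, 0, 0, 0, 0, 0, 0, 0, 0, 0, 0, 0, 0, 0, 0, 0, 0, 0, 0, 0, 0, 0, 0, 0, 0, 0, 0, 0, 0, 0, 0, 0, 0, 1, 0, 0, 0, 0, 0, 0, 0, 0, 0, 0, 0, 0, 0, 0, 0, 0, 0, 0, 0, 0, 0, 0, 0, 0, 0, 0, 0, 0, 0, 0, 0, 0, 0, 0, 0, 0, 0, 0, 0, 0, 0, 0, 0, 0, 0, 0, 0, 0, 0, 0, 0, 0, 0, 0, 0, 0, 0, 0, 0, 0, 0, 0, 0]),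
    (.cnj 23 [26, 24] [24, 26], [0, 0, 0, 0, 0, 0, 0, 0, 0, 0, 0, 0, 0, 0, 0, 0, 0, 0, 0, 0, 0, 0, 0, 0, 0, 0, 0, 0, 0, 0, 0, 0, 0, 0, 0, 0, 0, 0, 0, 0, 0, 0, 0, 0, 0, 0, 0, 0, 0, 0, 0, 0, 0, 0, 0, 0, 0, 0, 0, 0, 0, 0, 0, 0, 0, 0, 0, 0, 0, 0, 0, 0, 0, 0, 0, 0, 0, 0, 1, 0, 0, 0, 0, 0, 0, 0, 0, 0, 0, 0, 0, 0, 0, 0, 0, 0, 0, 0, 0, 0, 0, 0, 0, 0, 0, 0, 0, 0, 0, 1, 0, 0, 0, 0, 0, 0, 0, 0, 0, 0, 0, 0, 0, 0, 0, 0, 0, 0, 0, 0, 0, 0, 0, 0, 0, 0, 0, 0, 0, 0, 0, 0, 0, 0, 0, 0, 0]),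
    (.cnj 23 [26, 25] [25, 26], [0, 0, 0, 0, 0, 0, 0, 0, 0, 0, 0, 0, 0, 0, 0, 0, 0, 0, 0, 0, 0, 0, 0, 0, 0, 0, 0, 0, 0, 0, 0, 0, 0, 0, 0, 0, 0, 0, 0, 0, 0, 0, 0, 0, 0, 0, 0, 0, 0, 0, 0, 0, 0, 0, 0, 0, 0, 0, 0, 0, 0, 0, 0, 0, 0, 0, 0, 0, 0, 0, 0, 0, 0, 0, 0, 0, 0, 0, 1, 0, 0, 0, 1, 0, 0, 0, 0, 0, 0, 0, 0, 0, 0, 0, 0, 0, 0, 0, 0, 0, 0, 0, 0, 0, 0, 0, 0, 0, 1, 0, 0, 0, 0, 0, 0, 0, 1, 0, 0, 0, 0, 0, 0, 0, 0, 0, 0, 0, 0, 0, 0, 0, 0, 0, 0, 0, 0, 0, 0, 0, 0, 0, 0, 0, 0, 0, 0]),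
    (.cnj 23 [26, 26] [], [0, 0, 0, 0, 0, 1, 0, 0, 0, 1, 0, 0, 0, 0, 1, 0, 0, 0, 0, 0, 0, 0, 0, 0, 0, 0, 0, 0, 0, 0, 0, 0, 0, 0, 0, 0, 0, 0, 0, 0, 0, 0, 0, 0, 0, 0, 0, 0, 0, 0, 0, 0, 0, 0, 0, 0, 0, 0, 0, 0, 0, 0, 0, 0, 0, 0, 0, 0, 0, 0, 0, 0, 0, 0, 0, 0, 0, 0, 1, 0, 0, 0, 0, 0, 0, 0, 0, 0, 0, 0, 0, 0, 0, 0, 0, 0, 0, 0, 0, 0, 0, 0, 0, 0, 0, 0, 0, 0, 0, 0, 0, 0, 0, 0, 0, 0, 0, 0, 0, 0, 0, 0, 0, 0, 0, 0, 0, 0, 0, 0, 0, 0, 0, 0, 0, 0, 0, 0, 0, 0, 0, 0, 0, 0, 0, 0, 0]),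
    (.cnj 23 [27, 27] [], [0, 0, 0, 0, 0, 1, 0, 0, 0, 1, 0, 0, 0, 0, 0, 0, 0, 0, 0, 0, 0, 0, 0, 0, 0, 0, 0, 0, 0, 0, 0, 0, 0, 0, 0, 0, 0, 0, 0, 0, 0, 0, 0, 0, 0, 0, 0, 0, 0, 0, 0, 0, 0, 0, 0, 0, 0, 0, 0, 0, 0, 0, 0, 0, 0, 0, 0, 0, 0, 0, 0, 0, 0, 0, 0, 0, 0, 0, 0, 0, 0, 1, 0, 0, 0, 0, 0, 0, 0, 0, 0, 0, 0, 0, 0, 0, 0, 0, 0, 0, 0, 0, 0, 0, 0, 0, 0, 1, 0, 0, 0, 0, 0, 0, 0, 0, 0, 0, 0, 0, 0, 0, 0, 0, 0, 0, 0, 0, 0, 0, 0, 0, 0, 0, 0, 0, 0, 0, 0, 0, 0, 0, 0, 0, 0, 0, 0, 0]),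
    (.cnj 23 [29, 23] [23, 29], [0, 0, 0, 0, 0, 0, 0, 0, 0, 0, 0, 0, 0, 0, 0, 0, 0, 0, 0, 0, 0, 0, 0, 0, 0, 0, 0, 0, 0, 0, 0, 0, 0, 0, 0, 0, 0, 0, 0, 0, 1, 0, 0, 0, 0, 0, 0, 0, 0, 0, 0, 0, 0, 0, 0, 0, 0, 0, 0, 0, 0, 0, 0, 1, 0, 0, 0, 0, 0, 0, 0, 0, 0, 0, 0, 0, 0, 0, 0, 0, 0, 0, 0, 0, 0, 0, 0, 0, 0, 0, 0, 0, 0, 0, 0, 0, 0, 0, 0, 0, 0, 0, 0, 0, 0, 0, 0, 0, 0, 0, 0, 0, 0, 0, 0, 0, 0, 1, 0, 1, 0, 0, 0, 0, 0, 0, 0, 0, 0, 0, 0, 0, 0, 0, 0, 0, 0, 0, 0, 0, 0, 0, 0, 0, 0, 0, 0, 0, 0, 0]),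
    (.cnj 23 [29, 27] [27, 29], [0, 0, 0, 0, 0, 0, 0, 0, 0, 0, 0, 1, 1, 0, 1, 0, 0, 0, 0, 0, 0, 0, 0, 0, 0, 0, 0, 0, 0, 0, 0, 0, 0, 0, 0, 0, 1, 0, 0, 1, 0, 0, 0, 0, 0, 0, 0, 0, 0, 0, 0, 0, 0, 0, 0, 0, 0, 0, 0, 1, 0, 1, 0, 0, 0, 0, 0, 0, 0, 0, 0, 0, 0, 0, 0, 0, 1, 0, 0, 0, 0, 1, 0, 0, 0, 0, 0, 0, 0, 0, 0, 0, 0, 1, 0, 0, 1, 0, 1, 0, 0, 0, 0, 0, 0, 0, 0, 0, 0, 1, 0, 0, 0, 0, 0, 0, 1, 0, 1, 0, 0, 0, 0, 0, 0, 0, 0, 0, 0, 0, 0, 0, 0, 0, 0, 0, 0, 0, 0, 0, 0, 0, 0, 0, 0, 0, 0, 0, 0, 0]),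
    (.cnj 23 [32, 24] [24, 32], [0, 0, 0, 0, 0, 0, 0, 0, 0, 0, 0, 0, 1, 0, 1, 0, 0, 0, 0, 0, 0, 0, 0, 0, 0, 0, 0, 0, 0, 0, 0, 0, 0, 0, 0, 0, 0, 0, 0, 0, 0, 0, 0, 0, 0, 0, 0, 0, 0, 0, 0, 0, 0, 0, 0, 0, 0, 0, 0, 0, 0, 0, 0, 0, 1, 0, 0, 0, 0, 0, 0, 0, 0, 0, 1, 0, 1, 1, 0, 1, 0, 1, 1, 0, 0, 0, 0, 0, 0, 0, 0, 0, 0, 0, 0, 0, 0, 0, 1, 0, 0, 0, 0, 0, 0, 0, 0, 0, 0, 0, 0, 1, 0, 1, 0, 0, 0, 0, 1, 0, 0, 0, 0, 0, 0, 0, 0, 0, 0, 0, 0, 0, 0, 0, 0, 0, 0, 0, 0, 0, 0, 0, 0, 0, 0, 0, 0, 0, 0, 0, 0, 0, 0]),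
    (.cnj 23 [32, 25] [25, 32], [0, 0, 0, 0, 0, 0, 0, 0, 0, 0, 0, 0, 0, 0, 1, 0, 0, 0, 0, 0, 0, 0, 0, 0, 0, 0, 0, 0, 0, 0, 0, 0, 0, 0, 0, 0, 0, 0, 0, 0, 0, 0, 0, 0, 0, 0, 0, 0, 0, 0, 0, 0, 0, 0, 0, 1, 0, 0, 0, 0, 0, 1, 0, 1, 0, 1, 0, 0, 0, 0, 0, 1, 0, 1, 1, 0, 1, 0, 0, 0, 0, 0, 0, 0, 0, 0, 0, 0, 0, 0, 0, 0, 0, 0, 0, 0, 0, 1, 0, 0, 0, 1, 0, 0, 0, 0, 0, 0, 0, 0, 1, 0, 0, 0, 1, 1, 0, 0, 0, 0, 0, 0, 0, 0, 0, 0, 0, 0, 0, 0, 0, 0, 0, 0, 0, 0, 0, 0, 0, 0, 0, 0, 0, 0, 0, 0, 0, 0, 0, 0, 0, 0, 0]),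
    (.cnj 23 [23, 26, 23] [26], [0, 0, 0, 0, 0, 0, 0, 0, 0, 0, 0, 0, 0, 0, 0, 0, 0, 0, 0, 0, 0, 0, 0, 0, 0, 0, 0, 0, 0, 0, 0, 0, 0, 0, 0, 0, 0, 0, 0, 0, 0, 0, 0, 0, 0, 0, 0, 0, 0, 0, 0, 0, 0, 0, 0, 0, 0, 0, 0, 0, 0, 0, 0, 0, 0, 0, 0, 0, 0, 0, 0, 0, 0, 0, 0, 0, 0, 0, 0, 0, 0, 0, 1, 0, 0, 0, 0, 0, 0, 0, 0, 0, 0, 0, 0, 0, 0, 0, 0, 0, 0, 0, 0, 0, 0, 0, 0, 0, 1, 0, 0, 0, 0, 0, 0, 0, 0, 0, 0, 1, 0, 0, 0, 0, 0, 0, 0, 0, 0, 0, 0, 0, 0, 0, 0, 0, 0, 0, 0, 0, 0, 0, 0, 0, 0, 0, 0]),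
    (.cnj 23 [24, 26, 27] [32, 32], [0, 0, 0, 0, 0, 0, 0, 1, 1, 1, 1, 1, 0, 1, 0, 0, 0, 0, 0, 0, 0, 0, 0, 0, 0, 0, 0, 0, 0, 0, 0, 0, 0, 0, 0, 0, 0, 0, 0, 0, 0, 0, 0, 0, 0, 0, 0, 0, 0, 0, 0, 0, 0, 0, 0, 0, 0, 1, 1, 0, 1, 0, 1, 1, 0, 0, 0, 1, 1, 0, 1, 1, 1, 1, 0, 0, 0, 0, 0, 0, 0, 0, 0, 0, 0, 0, 0, 0, 0, 0, 0, 0, 0, 0, 0, 1, 1, 0, 1, 0, 1, 0, 1, 0, 1, 0, 0, 0, 0, 0, 1, 1, 0, 0, 0, 1, 0, 1, 0, 1, 0, 0, 0, 0, 0, 0, 0, 0, 0, 0, 0, 0, 0, 0, 0, 0, 0, 0, 0, 0, 0, 0, 0, 0, 1, 0, 1, 1, 0, 0, 0, 0, 0]),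
    (.cnj 23 [24, 26, 30] [30, 27], [0, 0, 0, 0, 0, 1, 0, 0, 0, 0, 0, 1, 0, 0, 0, 0, 0, 0, 0, 0, 0, 0, 0, 0, 0, 0, 0, 0, 0, 0, 0, 0, 1, 0, 0, 0, 1, 0, 0, 0, 0, 0, 0, 0, 0, 0, 0, 0, 0, 0, 0, 0, 0, 0, 0, 0, 0, 0, 0, 0, 0, 0, 0, 0, 0, 1, 0, 0, 0, 1, 0, 1, 1, 0, 1, 0, 0, 1, 0, 0, 0, 0, 0, 0, 0, 0, 0, 0, 0, 0, 0, 0, 0, 0, 0, 0, 0, 0, 0, 1, 0, 0, 0, 0, 0, 0, 0, 0, 0, 0, 0, 0, 0, 0, 1, 0, 0, 0, 1, 0, 0, 0, 0, 0, 0, 0, 0, 0, 0, 0, 0, 0, 0, 0, 0, 0, 0, 0, 0, 0, 0, 0, 0, 0, 1, 0, 1, 1, 0, 0, 0]),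
    (.cnj 23 [24, 29, 24] [29], [0, 0, 0, 0, 0, 0, 0, 0, 0, 0, 0, 0, 0, 0, 0, 0, 0, 0, 0, 0, 0, 0, 0, 0, 0, 0, 0, 0, 0, 0, 0, 0, 1, 0, 0, 0, 0, 0, 0, 0, 0, 1, 0, 0, 0, 0, 0, 0, 0, 0, 0, 0, 0, 0, 0, 1, 0, 0, 0, 0, 0, 0, 0, 0, 0, 0, 0, 0, 0, 0, 0, 0, 0, 0, 0, 0, 0, 0, 0, 0, 0, 1, 0, 0, 0, 0, 0, 0, 0, 0, 0, 0, 0, 0, 0, 0, 0, 0, 1, 0, 0, 0, 0, 0, 0, 0, 0, 0, 0, 0, 0, 0, 0, 0, 0, 0, 0, 0, 0, 0, 0, 0, 0, 0, 0, 0, 0, 0, 0, 0, 0, 0, 0, 0, 0, 0, 0, 0, 0, 0, 0, 0, 0, 0, 0, 0, 0, 0, 0, 0]),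
    (.cnj 23 [24, 30, 26] [30, 27], [0, 0, 0, 0, 0, 1, 0, 0, 0, 0, 0, 0, 1, 0, 1, 0, 0, 0, 0, 0, 0, 0, 0, 0, 0, 0, 0, 0, 0, 0, 0, 0, 0, 0, 0, 0, 0, 0, 0, 0, 0, 1, 0, 0, 0, 0, 0, 0, 0, 0, 0, 0, 0, 0, 0, 0, 0, 0, 0, 0, 0, 0, 0, 0, 0, 0, 0, 0, 0, 0, 0, 0, 0, 0, 1, 0, 0, 0, 0, 0, 0, 0, 0, 1, 0, 0, 0, 0, 0, 0, 0, 0, 0, 0, 0, 0, 0, 0, 0, 0, 0, 0, 0, 0, 1, 0, 0, 1, 0, 0, 0, 0, 0, 0, 0, 0, 0, 0, 1, 0, 0, 0, 0, 0, 0, 0, 0, 0, 0, 0, 0, 0, 0, 0, 0, 0, 0, 0, 0, 0, 0, 0, 0, 0, 1, 0, 1, 1, 0, 0, 0]),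
    (.cnj 23 [29, 32, 29] [32], [0, 1, 0, 1, 0, 1, 0, 1, 0, 0, 0, 1, 0, 1, 0, 0, 0, 0, 0, 0, 0, 0, 0, 0, 0, 0, 0, 0, 0, 0, 0, 1, 0, 0, 0, 0, 0, 0, 1, 0, 0, 0, 0, 0, 0, 0, 0, 0, 0, 0, 0, 0, 0, 0, 1, 0, 0, 0, 0, 0, 0, 1, 0, 1, 0, 1, 0, 1, 0, 0, 0, 1, 1, 0, 1, 0, 1, 0, 0, 0, 1, 1, 0, 0, 0, 0, 0, 0, 0, 0, 0, 0, 1, 0, 1, 1, 1, 1, 1, 0, 0, 1, 1, 0, 1, 0, 0, 0, 0, 0, 0, 0, 0, 1, 0, 0, 1, 1, 0, 0, 0, 0, 0, 0, 0, 0, 0, 0, 0, 0, 0, 0, 0, 0, 0, 0, 0, 0, 0, 0, 0, 0, 0, 0, 0, 0, 0, 0, 0, 0, 0, 0, 0])]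
  lam := [[], [], [0, 1, 0, 0, 1, 0, 1, 0, 0, 0, 0, 0, 0, 0, 0, 1, 0, 1, 1, 0, 0, 0, 0, 0, 0, 0, 0, 0, 0, 0, 0, 0, 0, 0, 0, 1], [], [0, 0, 0, 0, 0, 0, 1, 1, 0, 0, 0, 0, 0, 0, 0, 0, 1, 1, 0, 1, 0, 0, 0, 0, 0, 0, 0, 0, 0, 0, 1, 0, 0, 0, 0, 1], [0, 1, 0, 0, 0, 0, 0, 0, 0, 0, 0, 0, 0, 0, 0, 0, 0, 0, 0, 0, 0, 0, 0, 0, 0, 0, 0, 0, 0, 0, 1, 0, 0, 0, 0, 1], [0, 0, 1, 0, 1, 0, 1, 0, 0, 0, 0, 0, 0, 0, 0, 0, 1, 0, 1, 1, 0, 0, 0, 0, 0, 0, 0, 0, 0, 0, 1, 0, 0, 0, 0, 1], [0, 0, 0, 0, 1, 0, 1, 1, 0, 0, 0, 0, 0, 0, 0, 0, 1, 0, 1, 1, 0, 0, 0, 0, 0, 0, 0, 0, 0, 0, 1, 0, 0, 0, 0, 1], [0, 0, 1, 0, 0, 0, 0, 1, 0, 0, 0, 0, 0, 0, 0, 0, 0, 0, 0, 1, 0, 0, 0, 0, 0, 0, 0, 0, 0, 0, 0, 0, 0, 0, 0, 1], [0, 0, 0, 0, 1, 0, 1, 1, 0, 0,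 0, 0, 0, 0, 0, 0, 1, 0, 1, 1, 0, 0, 0, 0, 0, 0, 0, 0, 0, 0, 0, 0, 0, 0, 0, 1], [0, 0, 1, 0, 0, 0, 1, 1, 0, 0, 0, 0, 0, 0, 0, 0, 0, 0, 1, 1], [0, 0, 0, 0, 1, 0, 1, 1, 0, 0, 0, 0, 0, 0, 0, 0, 1, 0, 1, 1], [0, 0, 0, 0, 0, 0, 0, 1], [0, 0, 0, 0, 1], [0, 0, 0, 0, 1, 0, 0, 0, 0, 0, 0, 0, 0, 0, 0, 0, 1, 0, 1, 1]]
  combos := [[(1, 1), (3, 1), (4, 1), (15, 1), (23, 1), (25, 1), (28, 1), (31, 1), (36, 1), (43, 1), (44, 1), (52, 1), (53, 1), (60, 1), (62, 1), (63, 1), (64, 1), (65, 1), (69, 1), (70, 1), (71, 1), (72, 1), (73, 1), (75, 1), (81, 1), (83, 1), (85, 1), (97, 1), (99, 1), (102, 1)],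
    [],
    [],
    [(24, 1), (28, 1), (30, 1), (32, 1), (44, 1), (46, 1), (52, 1), (53, 1), (56, 1), (58, 1), (61, 1), (62, 1), (63, 1), (66, 1), (69, 1), (79, 1), (92, 1), (98, 1), (101, 1), (104, 1), (109, 1)],
    [],
    [(28, 1), (30, 1), (44, 1), (51, 1), (52, 1), (53, 1), (56, 1), (61, 1), (62, 1), (63, 1), (66, 1), (69, 1), (97, 1), (98, 1), (101, 1), (104, 1), (109, 1)],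
    [],
    [],
    [(3, 1), (5, 1), (11, 1), (13, 1), (14, 1), (18, 1), (19, 1), (21, 1), (24, 1), (25, 1), (28, 1), (30, 1), (32, 1), (33, 1), (34, 1), (35, 1), (42, 1), (43, 1), (45, 1), (49, 1), (50, 1), (55, 1), (56, 1), (57, 1), (62, 1), (65, 1), (67, 1), (68, 1), (77, 1), (80, 1), (81, 1), (98, 1), (100, 1), (103, 1), (105, 1), (107, 1)],
    [(53, 1), (97, 1), (101, 1)],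
    [(28, 1), (51, 1), (52, 1), (53, 1), (56, 1), (61, 1), (66, 1), (69, 1), (97, 1), (100, 1), (101, 1), (104, 1), (109, 1)],
    [(44, 1), (53, 1), (97, 1), (98, 1), (100, 1), (101, 1), (102, 1), (103, 1), (109, 1)],
    [(28, 1), (30, 1), (34, 1), (44, 1), (51, 1), (56, 1), (61, 1), (98, 1), (102, 1), (103, 1), (104, 1)],
    [(30, 1), (51, 1), (52, 1), (56, 1), (61, 1), (62, 1), (63, 1), (66, 1), (69, 1), (98, 1), (102, 1), (103, 1), (104, 1)],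
    [(28, 1), (37, 1), (44, 1), (51, 1), (52, 1), (56, 1), (61, 1), (62, 1), (63, 1), (66, 1), (69, 1), (98, 1), (102, 1), (103, 1), (104, 1)],
    [],
    [],
    [],
    [],
    [],
    [(0, 1), (1, 1), (2, 1), (3, 1), (8, 1), (10, 1), (11, 1), (23, 1), (25, 1), (26, 1), (31, 1), (37, 1), (46, 1), (48, 1), (49, 1), (51, 1), (52, 1), (56, 1), (57, 1), (60, 1), (62, 1), (63, 1), (64, 1), (65, 1), (68, 1), (70, 1), (72, 1), (75, 1), (77, 1), (80, 1), (81, 1), (82, 1), (84, 1), (85, 1), (94, 1), (96, 1), (97, 1), (98, 1), (99, 1), (100, 1), (101, 1), (102, 1), (103, 1), (104, 1), (106, 1), (108, 1)],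
    [(0, 1), (1, 1), (2, 1), (4, 1), (10, 1), (11, 1), (12, 1), (14, 1), (15, 1), (16, 1), (18, 1), (26, 1), (29, 1), (31, 1), (33, 1), (36, 1), (37, 1), (42, 1), (43, 1), (45, 1), (47, 1), (52, 1), (58, 1), (60, 1), (62, 1), (68, 1), (69, 1), (70, 1), (71, 1), (72, 1), (74, 1), (76, 1), (77, 1), (79, 1), (80, 1), (84, 1), (85, 1), (87, 1), (90, 1), (95, 1), (96, 1), (97, 1), (99, 1), (100, 1), (101, 1), (104, 1), (105, 1), (107, 1), (108, 1), (110, 1), (113, 1)],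
    [(0, 1), (5, 1), (8, 1), (9, 1), (11, 1), (12, 1), (15, 1), (19, 1), (20, 1), (23, 1), (24, 1), (27, 1), (30, 1), (32, 1), (33, 1), (35, 1), (41, 1), (42, 1), (43, 1), (44, 1), (45, 1), (51, 1), (52, 1), (55, 1), (56, 1), (57, 1), (58, 1), (59, 1), (63, 1), (68, 1), (70, 1), (71, 1), (73, 1), (79, 1), (82, 1), (87, 1), (89, 1), (90, 1), (95, 1), (97, 1), (98, 1), (103, 1), (104, 1), (105, 1), (106, 1), (107, 1), (109, 1), (110, 1), (111, 1), (112, 1)],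
    [(2, 1), (3, 1), (4, 1), (5, 1), (8, 1), (9, 1), (10, 1), (12, 1), (13, 1), (16, 1), (20, 1), (21, 1), (22, 1), (24, 1), (25, 1), (26, 1), (29, 1), (30, 1), (31, 1), (34, 1), (35, 1), (36, 1), (41, 1), (44, 1), (45, 1), (48, 1), (51, 1), (53, 1), (57, 1), (59, 1), (60, 1), (63, 1), (64, 1), (65, 1), (67, 1), (70, 1), (72, 1), (73, 1), (74, 1), (76, 1), (80, 1), (84, 1), (85, 1), (100, 1), (104, 1), (107, 1), (108, 1), (109, 1), (111, 1), (112, 1), (113, 1)],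
    [(4, 1), (5, 1), (30, 1), (37, 1), (51, 1), (52, 1), (53, 1), (56, 1), (61, 1), (62, 1), (66, 1), (97, 1), (100, 1), (101, 1), (104, 1), (109, 1)],
    [(0, 1), (3, 1), (5, 1), (8, 1), (12, 1), (16, 1), (18, 1), (22, 1), (27, 1), (29, 1), (32, 1), (33, 1), (36, 1), (37, 1), (43, 1), (44, 1), (45, 1), (46, 1), (47, 1), (48, 1), (49, 1), (58, 1), (59, 1), (60, 1), (65, 1), (69, 1), (70, 1), (71, 1), (74, 1), (75, 1), (76, 1), (77, 1), (79, 1), (82, 1), (83, 1), (84, 1), (87, 1), (90, 1), (94, 1), (95, 1), (99, 1), (101, 1), (103, 1), (105, 1), (106, 1), (107, 1), (110, 1), (113, 1)],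
    [(0, 1), (4, 1), (5, 1), (8, 1), (12, 1), (16, 1), (18, 1), (22, 1), (27, 1), (30, 1), (32, 1), (33, 1), (34, 1), (36, 1), (37, 1), (43, 1), (44, 1), (45, 1), (46, 1), (47, 1), (48, 1), (49, 1), (51, 1), (53, 1), (56, 1), (57, 1), (58, 1), (59, 1), (60, 1), (61, 1), (62, 1), (63, 1), (65, 1), (66, 1), (70, 1), (71, 1), (74, 1), (75, 1), (76, 1), (77, 1), (79, 1), (82, 1), (83, 1), (84, 1), (87, 1), (90, 1), (94, 1), (95, 1), (97, 1), (99, 1), (100, 1), (103, 1), (104, 1), (105, 1), (106, 1), (107, 1), (109, 1), (110, 1), (113, 1)],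
    [(14, 1), (15, 1), (25, 1), (26, 1), (27, 1), (30, 1), (32, 1), (37, 1), (59, 1), (64, 1), (70, 1), (97, 1)],
    [(5, 1), (14, 1), (15, 1), (25, 1), (26, 1), (27, 1), (28, 1), (30, 1), (32, 1), (44, 1), (59, 1), (64, 1), (70, 1), (97, 1)],
    [(0, 1), (1, 1), (2, 1), (3, 1), (13, 1), (14, 1), (18, 1), (19, 1), (21, 1), (23, 1), (24, 1), (27, 1), (31, 1), (32, 1), (33, 1), (34, 1), (36, 1), (37, 1), (38, 1), (43, 1), (46, 1), (53, 1), (54, 1), (55, 1), (59, 1), (60, 1), (62, 1), (64, 1), (65, 1), (67, 1), (68, 1), (70, 1), (71, 1), (74, 1), (75, 1), (79, 1), (81, 1), (82, 1), (83, 1), (85, 1), (86, 1), (87, 1), (88, 1), (89, 1), (91, 1), (92, 1), (94, 1), (96, 1), (101, 1), (104, 1), (105, 1), (107,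 1), (108, 1), (111, 1), (113, 1), (114, 1)],
    [],
    [(5, 1), (11, 1), (12, 1), (14, 1), (18, 1), (19, 1), (22, 1), (24, 1), (26, 1), (27, 1), (29, 1), (30, 1), (31, 1), (32, 1), (33, 1), (36, 1), (43, 1), (45, 1), (46, 1), (48, 1), (52, 1), (53, 1), (55, 1), (56, 1), (57, 1), (59, 1), (60, 1), (61, 1), (64, 1), (65, 1), (66, 1), (67, 1), (68, 1), (70, 1), (72, 1), (75, 1), (77, 1), (79, 1), (80, 1), (83, 1), (87, 1), (88, 1), (89, 1), (92, 1), (94, 1), (96, 1), (97, 1), (100, 1), (103, 1), (107, 1), (108, 1), (114, 1)],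
    [(0, 1), (3, 1), (5, 1), (10, 1), (12, 1), (16, 1), (18, 1), (22, 1), (26, 1), (29, 1), (32, 1), (33, 1), (34, 1), (35, 1), (37, 1), (45, 1), (46, 1), (48, 1), (53, 1), (55, 1), (57, 1), (58, 1), (59, 1), (60, 1), (63, 1), (64, 1), (68, 1), (70, 1), (71, 1), (72, 1), (74, 1), (77, 1), (78, 1), (79, 1), (81, 1), (82, 1), (83, 1), (84, 1), (87, 1), (90, 1), (94, 1), (95, 1), (97, 1), (98, 1), (99, 1), (100, 1), (103, 1), (106, 1), (107, 1), (108, 1), (110, 1), (112, 1), (113, 1)],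
    [(2, 1), (4, 1), (5, 1), (7, 1), (10, 1), (13, 1), (14, 1), (17, 1), (18, 1), (19, 1), (21, 1), (24, 1), (25, 1), (30, 1), (34, 1), (36, 1), (42, 1), (43, 1), (44, 1), (45, 1), (47, 1), (48, 1), (49, 1), (50, 1), (51, 1), (54, 1), (55, 1), (62, 1), (64, 1), (67, 1), (73, 1), (74, 1), (75, 1), (76, 1), (77, 1), (78, 1), (79, 1), (80, 1), (81, 1), (82, 1), (83, 1), (84, 1), (85, 1), (93, 1), (94, 1), (102, 1), (105, 1), (109, 1), (111, 1), (113, 1)],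
    [(6, 1), (8, 1), (10, 1), (12, 1), (14, 1), (15, 1), (23, 1), (24, 1), (26, 1), (28, 1), (31, 1), (44, 1), (46, 1), (51, 1), (52, 1), (61, 1), (62, 1), (63, 1), (66, 1), (69, 1), (76, 1), (78, 1), (81, 1), (83, 1), (85, 1), (89, 1), (94, 1), (97, 1), (100, 1), (101, 1), (104, 1), (109, 1), (112, 1)],
    [],
    [(0, 1), (3, 1), (12, 1), (15, 1), (16, 1), (19, 1), (21, 1), (22, 1), (24, 1), (25, 1), (26, 1), (27, 1), (29, 1), (33, 1), (36, 1), (37, 1), (44, 1), (48, 1), (49, 1), (52, 1), (55, 1), (57, 1), (58, 1), (63, 1), (65, 1), (67, 1), (68, 1), (70, 1), (71, 1), (72, 1), (74, 1), (76, 1), (79, 1), (81, 1), (82, 1), (83, 1), (84, 1), (87, 1), (89, 1), (90, 1), (95, 1), (97, 1), (99, 1), (100, 1),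 (102, 1), (104, 1), (106, 1), (107, 1), (108, 1), (109, 1), (110, 1), (113, 1)],
    [(4, 1), (5, 1), (9, 1), (10, 1), (12, 1), (14, 1), (15, 1), (18, 1), (19, 1), (24, 1), (27, 1), (29, 1), (30, 1), (37, 1), (43, 1), (44, 1), (46, 1), (47, 1), (49, 1), (53, 1), (55, 1), (56, 1), (60, 1), (61, 1), (62, 1), (63, 1), (64, 1), (66, 1), (67, 1), (70, 1), (72, 1), (75, 1), (83, 1), (89, 1), (94, 1), (97, 1), (99, 1), (101, 1), (103, 1), (105, 1), (108, 1), (109, 1)],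
    [(0, 1), (3, 1), (5, 1), (8, 1), (14, 1), (16, 1), (18, 1), (22, 1), (23, 1), (24, 1), (29, 1), (30, 1), (31, 1), (32, 1), (33, 1), (34, 1), (35, 1), (37, 1), (45, 1), (48, 1), (52, 1), (53, 1), (55, 1), (56, 1), (57, 1), (58, 1), (59, 1), (60, 1), (62, 1), (64, 1), (66, 1), (68, 1), (69, 1), (70, 1), (71, 1), (72, 1), (74, 1), (76, 1), (77, 1), (79, 1), (82, 1), (84, 1), (85, 1), (87, 1), (89, 1), (90, 1), (95, 1), (97, 1), (99, 1), (101, 1), (102, 1), (106, 1), (107, 1), (108, 1), (109, 1), (110, 1), (113, 1)],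
    [(28, 1), (30, 1), (32, 1), (34, 1), (44, 1), (49, 1), (51, 1), (56, 1), (61, 1), (98, 1), (102, 1), (103, 1), (104, 1)],
    [(25, 1), (29, 1), (69, 1), (80, 1), (98, 1), (105, 1)],
    [(8, 1), (10, 1), (15, 1), (23, 1), (28, 1), (31, 1), (37, 1), (44, 1), (49, 1), (51, 1), (52, 1), (56, 1), (57, 1), (61, 1), (63, 1), (66, 1), (83, 1), (85, 1), (99, 1), (102, 1), (103, 1), (104, 1)],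
    [(1, 1), (3, 1), (5, 1), (6, 1), (9, 1), (13, 1), (16, 1), (18, 1), (21, 1), (22, 1), (24, 1), (28, 1), (29, 1), (32, 1), (35, 1), (39, 1), (40, 1), (41, 1), (42, 1), (44, 1), (46, 1), (49, 1), (53, 1), (55, 1), (56, 1), (57, 1), (58, 1), (59, 1), (60, 1), (61, 1), (62, 1), (63, 1), (64, 1), (65, 1), (66, 1), (67, 1), (69, 1), (72, 1), (73, 1), (74, 1), (78, 1), (80, 1), (81, 1), (85, 1), (86, 1), (87, 1), (89, 1), (90, 1), (91, 1), (92, 1), (95, 1), (100, 1), (101, 1), (102, 1), (104, 1), (107, 1), (108, 1), (109, 1), (110, 1), (112, 1), (113, 1), (114, 1)],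
    [(0, 1), (3, 1), (4, 1), (8, 1), (9, 1), (13, 1), (15, 1), (17, 1), (20, 1), (21, 1), (23, 1), (24, 1), (26, 1), (27, 1), (28, 1), (30, 1), (31, 1), (33, 1), (34, 1), (35, 1), (36, 1), (37, 1), (40, 1), (42, 1), (43, 1), (44, 1), (46, 1), (47, 1), (50, 1), (51, 1), (54, 1), (59, 1), (61, 1), (63, 1), (64, 1), (65, 1), (69, 1), (70, 1), (71, 1), (74, 1), (75, 1), (76, 1), (77, 1), (78, 1), (79, 1), (81, 1), (82, 1), (85, 1), (91, 1), (93, 1), (96, 1), (97, 1), (100, 1), (101, 1), (102, 1), (103, 1), (104, 1), (105, 1), (106, 1), (108, 1)],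
    [(4, 1), (8, 1), (9, 1), (10, 1), (12, 1), (13, 1), (14, 1), (15, 1), (16, 1), (17, 1), (18, 1), (20, 1), (21, 1), (22, 1), (23, 1), (24, 1), (26, 1), (28, 1), (32, 1), (33, 1), (36, 1), (37, 1), (40, 1), (42, 1), (43, 1), (44, 1), (45, 1), (46, 1), (47, 1), (49, 1), (53, 1), (56, 1), (59, 1), (60, 1), (62, 1), (65, 1), (66, 1), (67, 1), (72, 1), (75, 1), (76, 1), (78, 1), (79, 1), (82, 1), (85, 1), (89, 1), (93, 1), (98, 1), (101, 1), (103, 1), (105, 1), (107, 1), (108, 1)],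
    [(2, 1), (8, 1), (9, 1), (10, 1), (15, 1), (18, 1), (20, 1), (24, 1), (25, 1), (33, 1), (35, 1), (36, 1), (37, 1), (40, 1), (49, 1), (50, 1), (53, 1), (55, 1), (56, 1), (57, 1), (59, 1), (61, 1), (62, 1), (67, 1), (69, 1), (70, 1), (72, 1), (73, 1), (74, 1), (76, 1), (78, 1), (81, 1), (84, 1), (99, 1), (101, 1), (102, 1), (105, 1), (107, 1), (108, 1), (111, 1), (112, 1), (113, 1)],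
    [(2, 1), (5, 1), (9, 1), (12, 1), (14, 1), (16, 1), (18, 1), (20, 1), (22, 1), (24, 1), (27, 1), (29, 1), (31, 1), (33, 1), (36, 1), (40, 1), (48, 1), (50, 1), (51, 1), (53, 1), (54, 1), (55, 1), (57, 1), (62, 1), (63, 1), (64, 1), (65, 1), (66, 1), (67, 1), (69, 1), (72, 1), (73, 1), (74, 1), (76, 1), (78, 1), (81, 1), (84, 1), (85, 1), (100, 1), (102, 1), (104, 1), (105, 1), (107, 1), (108, 1), (109, 1), (111, 1), (112, 1), (113, 1)],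
    [(0, 1), (2, 1), (4, 1), (5, 1), (10, 1), (13, 1), (14, 1), (18, 1), (19, 1), (20, 1), (22, 1), (24, 1), (25, 1), (29, 1), (30, 1), (33, 1), (34, 1), (35, 1), (36, 1), (37, 1), (45, 1), (47, 1), (48, 1), (49, 1), (50, 1), (52, 1), (57, 1), (58, 1), (60, 1), (62, 1), (65, 1), (66, 1), (67, 1), (68, 1), (69, 1), (71, 1), (73, 1), (77, 1), (78, 1), (79, 1), (80, 1), (83, 1), (87, 1), (90, 1), (95, 1), (96, 1), (97, 1), (98, 1), (100, 1), (101, 1), (102, 1), (104, 1), (110, 1), (111, 1), (112, 1)],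
    [(0, 1), (3, 1), (4, 1), (5, 1), (8, 1), (12, 1), (14, 1), (15, 1), (16, 1), (18, 1), (19, 1), (22, 1), (25, 1), (28, 1), (32, 1), (33, 1), (43, 1), (44, 1), (45, 1), (46, 1), (47, 1), (48, 1), (49, 1), (52, 1), (58, 1), (64, 1), (65, 1), (66, 1), (67, 1), (68, 1), (70, 1), (71, 1), (74, 1), (75, 1), (76, 1), (79, 1), (82, 1), (83, 1), (84, 1), (87, 1), (90, 1), (94, 1), (95, 1), (100, 1), (105, 1), (106, 1), (107, 1), (109, 1), (110, 1), (113, 1)],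
    [(5, 1), (14, 1), (15, 1), (25, 1), (29, 1), (30, 1), (35, 1), (36, 1), (37, 1), (44, 1), (52, 1), (54, 1), (57, 1), (60, 1), (63, 1), (64, 1), (65, 1), (66, 1), (67, 1), (70, 1), (81, 1), (99, 1)],
    [(0, 1), (3, 1), (4, 1), (8, 1), (12, 1), (16, 1), (18, 1), (22, 1), (28, 1), (33, 1), (34, 1), (35, 1), (36, 1), (43, 1), (45, 1), (46, 1), (47, 1), (48, 1), (49, 1), (56, 1), (57, 1), (58, 1), (60, 1), (62, 1), (66, 1), (68, 1), (69, 1), (71, 1), (74, 1), (75, 1), (76, 1), (77, 1), (79, 1), (81, 1), (82, 1), (83, 1), (84, 1), (87, 1), (90, 1), (94, 1), (95, 1), (99, 1), (102, 1), (103, 1), (105, 1), (106, 1), (107, 1), (109, 1), (110, 1), (113, 1)],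
    [(5, 1), (14, 1), (25, 1), (27, 1), (28, 1), (30, 1), (32, 1), (35, 1), (37, 1), (43, 1), (44, 1), (53, 1), (54, 1), (59, 1), (61, 1), (62, 1), (63, 1), (64, 1), (65, 1), (69, 1), (70, 1), (97, 1), (98, 1), (100, 1), (102, 1), (104, 1)],
    [(15, 1), (26, 1), (27, 1), (28, 1), (32, 1), (37, 1), (59, 1), (70, 1), (97, 1), (109, 1)],
    [(5, 1), (14, 1), (25, 1), (27, 1), (32, 1), (44, 1), (59, 1), (64, 1), (65, 1), (70, 1), (98, 1), (101, 1), (102, 1), (109, 1)],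
    [(0, 1), (3, 1), (5, 1), (10, 1), (13, 1), (14, 1), (16, 1), (18, 1), (21, 1), (23, 1), (25, 1), (26, 1), (28, 1), (34, 1), (35, 1), (43, 1), (45, 1), (47, 1), (49, 1), (56, 1), (57, 1), (61, 1), (64, 1), (71, 1), (74, 1), (75, 1), (77, 1), (79, 1), (82, 1), (83, 1), (84, 1), (85, 1), (88, 1), (90, 1), (94, 1), (95, 1), (96, 1), (100, 1), (101, 1), (106, 1), (107, 1), (110, 1), (113, 1)],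
    [(0, 1), (3, 1), (5, 1), (8, 1), (12, 1), (16, 1), (18, 1), (22, 1), (23, 1), (26, 1), (29, 1), (31, 1), (32, 1), (33, 1), (34, 1), (35, 1), (45, 1), (46, 1), (48, 1), (49, 1), (53, 1), (55, 1), (58, 1), (59, 1), (60, 1), (61, 1), (62, 1), (63, 1), (64, 1), (68, 1), (69, 1), (70, 1), (71, 1), (72, 1), (74, 1), (77, 1), (78, 1), (79, 1), (81, 1), (82, 1), (84, 1), (85, 1), (87, 1), (90, 1), (94, 1), (95, 1), (100, 1), (103, 1), (106, 1), (107, 1), (108, 1), (110, 1), (113, 1)],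
    [(4, 1), (5, 1), (25, 1), (26, 1), (27, 1), (29, 1), (30, 1), (33, 1), (34, 1), (35, 1), (36, 1), (37, 1), (46, 1), (47, 1), (51, 1), (58, 1), (59, 1), (60, 1), (64, 1), (66, 1), (68, 1), (69, 1), (70, 1), (77, 1), (78, 1), (79, 1), (80, 1), (81, 1), (83, 1), (84, 1), (89, 1), (93, 1), (94, 1), (96, 1), (99, 1), (100, 1), (101, 1), (103, 1), (104, 1), (105, 1), (109, 1)],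
    [(0, 1), (3, 1), (10, 1), (12, 1), (16, 1), (19, 1), (21, 1), (22, 1), (23, 1), (24, 1), (25, 1), (26, 1), (27, 1), (29, 1), (31, 1), (33, 1), (34, 1), (35, 1), (36, 1), (46, 1), (48, 1), (49, 1), (53, 1), (55, 1), (56, 1), (58, 1), (65, 1), (66, 1), (67, 1), (68, 1), (70, 1), (71, 1), (72, 1), (74, 1), (79, 1), (81, 1), (82, 1), (84, 1), (85, 1), (87, 1), (89, 1), (90, 1), (95, 1), (97, 1), (98, 1), (99, 1), (100, 1), (102, 1), (103, 1), (107, 1), (108, 1), (110, 1), (113, 1)],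
    [(3, 1), (4, 1), (5, 1), (8, 1), (10, 1), (11, 1), (12, 1), (13, 1), (14, 1), (21, 1), (22, 1), (25, 1), (29, 1), (30, 1), (31, 1), (32, 1), (35, 1), (42, 1), (44, 1), (46, 1), (47, 1), (48, 1), (49, 1), (50, 1), (51, 1), (56, 1), (57, 1), (58, 1), (59, 1), (60, 1), (61, 1), (62, 1), (63, 1), (68, 1), (72, 1), (75, 1), (82, 1), (87, 1), (97, 1), (98, 1), (99, 1), (101, 1), (104, 1), (106, 1), (110, 1), (113, 1)],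
    [(5, 1), (8, 1), (10, 1), (14, 1), (15, 1), (18, 1), (19, 1), (21, 1), (25, 1), (26, 1), (27, 1), (34, 1), (35, 1), (36, 1), (45, 1), (53, 1), (57, 1), (59, 1), (60, 1), (61, 1), (63, 1), (64, 1), (65, 1), (66, 1), (67, 1), (76, 1), (77, 1), (81, 1), (98, 1), (100, 1), (104, 1), (106, 1), (109, 1)],
    [(10, 1), (15, 1), (21, 1), (22, 1), (23, 1), (26, 1), (32, 1), (33, 1), (34, 1), (36, 1), (44, 1), (48, 1), (49, 1), (50, 1), (52, 1), (53, 1), (55, 1), (56, 1), (57, 1), (59, 1), (60, 1), (63, 1), (66, 1), (68, 1), (70, 1), (72, 1), (75, 1), (81, 1), (85, 1), (87, 1), (89, 1), (96, 1), (98, 1), (100, 1), (101, 1), (103, 1), (106, 1), (107, 1), (108, 1), (111, 1), (112, 1), (113, 1)],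
    [(44, 1), (53, 1), (76, 1), (97, 1), (98, 1), (100, 1), (101, 1), (102, 1), (103, 1), (109, 1)],
    [(15, 1), (23, 1), (30, 1), (31, 1), (32, 1), (37, 1), (51, 1), (52, 1), (53, 1), (56, 1), (57, 1), (58, 1), (61, 1), (63, 1), (66, 1), (83, 1), (85, 1), (100, 1), (101, 1), (104, 1), (109, 1)],
    [(25, 1), (30, 1), (69, 1), (80, 1), (98, 1)],
    [(24, 1), (28, 1), (37, 1), (44, 1), (51, 1), (52, 1), (56, 1), (61, 1), (62, 1), (63, 1), (66, 1), (69, 1), (98, 1), (102, 1), (103, 1), (104, 1)],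
    [(0, 1), (3, 1), (5, 1), (8, 1), (10, 1), (12, 1), (14, 1), (16, 1), (18, 1), (22, 1), (23, 1), (26, 1), (29, 1), (31, 1), (32, 1), (34, 1), (36, 1), (45, 1), (46, 1), (48, 1), (53, 1), (55, 1), (57, 1), (58, 1), (59, 1), (61, 1), (62, 1), (63, 1), (64, 1), (68, 1), (69, 1), (70, 1), (71, 1), (72, 1), (74, 1), (76, 1), (77, 1), (78, 1), (79, 1), (80, 1), (81, 1), (82, 1), (84, 1), (85, 1), (87, 1), (90, 1), (94, 1), (95, 1), (100, 1), (103, 1), (106, 1), (107, 1), (110, 1), (113, 1)],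
    [(0, 1), (3, 1), (5, 1), (8, 1), (12, 1), (16, 1), (18, 1), (26, 1), (36, 1), (37, 1), (43, 1), (45, 1), (46, 1), (47, 1), (48, 1), (49, 1), (51, 1), (55, 1), (56, 1), (58, 1), (59, 1), (61, 1), (62, 1), (64, 1), (66, 1), (68, 1), (70, 1), (71, 1), (72, 1), (74, 1), (76, 1), (77, 1), (78, 1), (79, 1), (82, 1), (84, 1), (85, 1), (86, 1), (87, 1), (90, 1), (94, 1), (95, 1), (97, 1), (98, 1), (100, 1), (102, 1), (103, 1), (104, 1), (105, 1), (106, 1), (107, 1), (109, 1), (110, 1), (113, 1)],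
    [(0, 1), (3, 1), (5, 1), (8, 1), (12, 1), (15, 1), (16, 1), (18, 1), (22, 1), (23, 1), (26, 1), (28, 1), (29, 1), (31, 1), (32, 1), (35, 1), (36, 1), (37, 1), (44, 1), (45, 1), (46, 1), (47, 1), (48, 1), (49, 1), (51, 1), (53, 1), (55, 1), (56, 1), (58, 1), (59, 1), (61, 1), (62, 1), (63, 1), (64, 1), (68, 1), (69, 1), (70, 1), (71, 1), (72, 1), (74, 1), (76, 1), (77, 1), (78, 1), (79, 1), (82, 1), (84, 1), (85, 1), (87, 1), (90, 1), (94, 1), (95, 1), (97, 1), (98, 1), (102, 1), (104, 1), (105, 1), (106, 1), (107, 1), (110, 1), (113, 1)],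
    [(0, 1), (3, 1), (8, 1), (10, 1), (12, 1), (14, 1), (16, 1), (18, 1), (24, 1), (26, 1), (29, 1), (30, 1), (31, 1), (32, 1), (36, 1), (44, 1), (45, 1), (46, 1), (50, 1), (52, 1), (55, 1), (56, 1), (57, 1), (58, 1), (61, 1), (62, 1), (65, 1), (71, 1), (74, 1), (75, 1), (77, 1), (78, 1), (79, 1), (81, 1), (84, 1), (85, 1), (87, 1), (89, 1), (90, 1), (94, 1), (95, 1), (96, 1), (97, 1), (99, 1), (100, 1), (101, 1), (102, 1), (103, 1), (104, 1), (107, 1), (108, 1), (109, 1), (110, 1), (111, 1), (112, 1)],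
    [(0, 1), (3, 1), (12, 1), (13, 1), (14, 1), (16, 1), (19, 1), (21, 1), (23, 1), (27, 1), (28, 1), (29, 1), (32, 1), (34, 1), (36, 1), (37, 1), (49, 1), (50, 1), (55, 1), (56, 1), (58, 1), (59, 1), (60, 1), (63, 1), (65, 1), (66, 1), (67, 1), (68, 1), (70, 1), (71, 1), (72, 1), (74, 1), (79, 1), (82, 1), (84, 1), (87, 1), (89, 1), (90, 1), (95, 1), (101, 1), (102, 1), (103, 1), (104, 1), (105, 1), (106, 1), (110, 1), (111, 1), (112, 1)],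
    [(8, 1), (10, 1), (12, 1), (22, 1), (23, 1), (24, 1), (26, 1), (33, 1), (34, 1), (35, 1), (36, 1), (37, 1), (44, 1), (46, 1), (47, 1), (48, 1), (49, 1), (51, 1), (57, 1), (59, 1), (60, 1), (61, 1), (62, 1), (83, 1), (89, 1), (94, 1), (100, 1), (101, 1), (102, 1), (103, 1), (104, 1), (105, 1), (108, 1)],
    [(28, 1), (37, 1), (44, 1), (51, 1), (52, 1), (56, 1), (57, 1), (61, 1), (62, 1), (63, 1), (66, 1), (81, 1), (97, 1), (99, 1), (102, 1), (103, 1), (104, 1)],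
    [(15, 1), (28, 1), (30, 1), (32, 1), (34, 1), (35, 1), (37, 1), (44, 1), (51, 1), (56, 1), (59, 1), (61, 1), (97, 1), (98, 1), (102, 1), (103, 1), (104, 1)],
    [(25, 1)],
    [(26, 1), (37, 1), (44, 1), (51, 1), (52, 1), (56, 1), (61, 1), (62, 1), (63, 1), (66, 1), (69, 1), (102, 1), (103, 1), (104, 1)],
    [(0, 1), (3, 1), (4, 1), (8, 1), (10, 1), (12, 1), (14, 1), (15, 1), (16, 1), (19, 1), (22, 1), (27, 1), (28, 1), (29, 1), (30, 1), (32, 1), (33, 1), (34, 1), (37, 1), (43, 1), (45, 1), (46, 1), (47, 1), (48, 1), (52, 1), (58, 1), (59, 1), (61, 1), (66, 1), (67, 1), (68, 1), (71, 1), (74, 1), (75, 1), (76, 1), (79, 1), (82, 1), (83, 1), (84, 1), (87, 1), (90, 1), (94, 1), (95, 1), (98, 1), (102,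 1), (103, 1), (105, 1), (106, 1), (107, 1), (110, 1), (113, 1)],
    [(10, 1), (15, 1), (23, 1), (30, 1), (31, 1), (37, 1), (44, 1), (49, 1), (51, 1), (52, 1), (56, 1), (57, 1), (61, 1), (63, 1), (66, 1), (83, 1), (85, 1), (97, 1), (98, 1), (102, 1), (103, 1), (104, 1)],
    [(0, 1), (3, 1), (5, 1), (13, 1), (14, 1), (16, 1), (18, 1), (23, 1), (25, 1), (26, 1), (29, 1), (32, 1), (33, 1), (34, 1), (37, 1), (44, 1), (45, 1), (53, 1), (55, 1), (56, 1), (57, 1), (58, 1), (59, 1), (60, 1), (61, 1), (64, 1), (68, 1), (69, 1), (70, 1), (71, 1), (72, 1), (74, 1), (76, 1), (77, 1), (79, 1), (80, 1), (82, 1), (84, 1), (87, 1), (89, 1), (90, 1), (95, 1), (101, 1), (102, 1), (105, 1), (106, 1), (108, 1), (109, 1),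 (110, 1), (113, 1)],
    [(30, 1), (37, 1), (102, 1), (109, 1)],
    [(0, 1), (3, 1), (5, 1), (10, 1), (13, 1), (14, 1), (16, 1), (18, 1), (24, 1), (25, 1), (28, 1), (30, 1), (31, 1), (32, 1), (33, 1), (34, 1), (35, 1), (45, 1), (49, 1), (52, 1), (53, 1), (55, 1), (56, 1), (58, 1), (59, 1), (60, 1), (64, 1), (68, 1), (69, 1), (70, 1), (71, 1), (72, 1), (74, 1), (76, 1), (77, 1), (79, 1), (80, 1), (82, 1), (83, 1), (84, 1), (85, 1), (87, 1), (89, 1), (90, 1), (95, 1), (101, 1), (102, 1), (105, 1), (106, 1), (107, 1), (108, 1), (109, 1), (110, 1), (113, 1)],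
    [(30, 1), (37, 1), (44, 1), (51, 1), (52, 1), (56, 1), (61, 1), (62, 1), (63, 1), (66, 1), (69, 1), (97, 1), (99, 1), (102, 1), (103, 1), (104, 1)],
    [(61, 1)],
    [(28, 1), (98, 1)],
    [(28, 1), (37, 1), (44, 1), (51, 1), (52, 1), (56, 1), (61, 1), (62, 1), (63, 1), (66, 1), (69, 1), (97, 1), (98, 1), (102, 1), (103, 1), (104, 1)],
    [(23, 1), (31, 1), (32, 1), (37, 1), (44, 1), (51, 1), (56, 1), (57, 1), (61, 1), (63, 1), (69, 1), (77, 1), (83, 1), (85, 1), (98, 1), (102, 1), (103, 1), (104, 1)],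
    [(0, 1), (3, 1), (5, 1), (8, 1), (11, 1), (12, 1), (13, 1), (14, 1), (16, 1), (19, 1), (20, 1), (21, 1), (23, 1), (25, 1), (26, 1), (27, 1), (30, 1), (32, 1), (33, 1), (35, 1), (36, 1), (37, 1), (44, 1), (49, 1), (51, 1), (53, 1), (54, 1), (55, 1), (58, 1), (64, 1), (66, 1), (68, 1), (69, 1), (71, 1), (72, 1), (74, 1), (76, 1), (79, 1), (80, 1), (81, 1), (82, 1), (84, 1), (87, 1), (89, 1), (90, 1), (95, 1), (100, 1), (101, 1), (103, 1), (105, 1), (106, 1), (108, 1), (110, 1), (113, 1)],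
    [(4, 1), (5, 1), (15, 1), (21, 1), (23, 1), (24, 1), (26, 1), (27, 1), (28, 1), (30, 1), (31, 1), (34, 1), (35, 1), (36, 1), (43, 1), (44, 1), (46, 1), (47, 1), (55, 1), (56, 1), (61, 1), (62, 1), (63, 1), (64, 1), (66, 1), (69, 1), (72, 1), (75, 1), (81, 1), (83, 1), (85, 1), (89, 1), (94, 1), (97, 1), (98, 1), (100, 1), (102, 1), (103, 1), (104, 1), (105, 1), (108, 1), (109, 1)],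
    [(0, 1), (3, 1), (5, 1), (10, 1), (14, 1), (16, 1), (18, 1), (22, 1), (24, 1), (29, 1), (31, 1), (33, 1), (35, 1), (44, 1), (45, 1), (51, 1), (53, 1), (55, 1), (57, 1), (58, 1), (59, 1), (60, 1), (61, 1), (64, 1), (68, 1), (70, 1), (71, 1), (72, 1), (74, 1), (76, 1), (77, 1), (79, 1), (82, 1), (83, 1), (84, 1), (85, 1), (87, 1), (89, 1), (90, 1), (95, 1), (101, 1), (103, 1), (104, 1), (106, 1), (107, 1), (108, 1), (109, 1), (110, 1), (113, 1)],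
    [(15, 1), (23, 1), (28, 1), (31, 1), (32, 1), (37, 1), (44, 1), (51, 1), (52, 1), (56, 1), (61, 1), (63, 1), (66, 1), (69, 1), (85, 1), (97, 1), (98, 1), (102, 1), (103, 1), (104, 1)],
    [(23, 1), (32, 1)],
    [(14, 1), (28, 1), (30, 1), (69, 1), (84, 1), (98, 1)],
    [(15, 1), (28, 1), (37, 1), (44, 1), (51, 1), (52, 1), (56, 1), (61, 1), (63, 1), (66, 1), (69, 1), (85, 1), (97, 1), (98, 1), (102, 1), (103, 1), (104, 1)],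
    [(0, 1), (3, 1), (8, 1), (11, 1), (12, 1), (13, 1), (15, 1), (16, 1), (19, 1), (21, 1), (23, 1), (26, 1), (27, 1), (28, 1), (29, 1), (32, 1), (49, 1), (55, 1), (56, 1), (57, 1), (58, 1), (60, 1), (61, 1), (63, 1), (65, 1), (66, 1), (67, 1), (68, 1), (70, 1), (71, 1), (72, 1), (74, 1), (76, 1), (79, 1), (80, 1), (82, 1), (84, 1), (87, 1), (89, 1), (90, 1), (95, 1), (97, 1), (99, 1), (103, 1), (104, 1), (105, 1), (106, 1), (108, 1), (109, 1), (110, 1), (113, 1)],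
    [(0, 1), (3, 1), (5, 1), (8, 1), (12, 1), (14, 1), (16, 1), (18, 1), (22, 1), (23, 1), (24, 1), (29, 1), (31, 1), (33, 1), (34, 1), (37, 1), (45, 1), (48, 1), (49, 1), (51, 1), (53, 1), (55, 1), (56, 1), (57, 1), (58, 1), (59, 1), (60, 1), (61, 1), (63, 1), (64, 1), (68, 1), (70, 1), (71, 1), (72, 1), (74, 1), (76, 1), (77, 1), (79, 1), (82, 1), (84, 1), (85, 1), (87, 1), (89, 1), (90, 1), (95, 1), (97, 1), (99, 1), (101, 1), (102, 1), (103, 1), (104, 1), (106, 1), (107, 1), (108, 1), (109, 1), (110, 1), (113, 1)],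
    [(0, 1), (3, 1), (5, 1), (10, 1), (14, 1), (15, 1), (16, 1), (18, 1), (24, 1), (28, 1), (31, 1), (32, 1), (33, 1), (37, 1), (44, 1), (45, 1), (53, 1), (55, 1), (56, 1), (57, 1), (58, 1), (59, 1), (60, 1), (62, 1), (63, 1), (64, 1), (66, 1), (68, 1), (70, 1), (71, 1), (72, 1), (74, 1), (76, 1), (77, 1), (79, 1), (82, 1), (83, 1), (84, 1), (85, 1), (87, 1), (89, 1), (90, 1), (95, 1), (97, 1), (98, 1), (101, 1), (102, 1), (106, 1), (107, 1), (108, 1), (109, 1), (110, 1), (113, 1)],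
    [(15, 1), (23, 1), (30, 1), (31, 1), (32, 1), (37, 1), (44, 1), (51, 1), (52, 1), (56, 1), (57, 1), (61, 1), (63, 1), (66, 1), (83, 1), (85, 1), (97, 1), (98, 1), (102, 1), (103, 1), (104, 1)],
    [(32, 1)],
    [(14, 1), (98, 1)],
    [(15, 1), (28, 1), (44, 1), (51, 1), (52, 1), (56, 1), (61, 1), (62, 1), (63, 1), (66, 1), (69, 1), (97, 1), (98, 1), (102, 1), (103, 1), (104, 1)],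
    [(0, 1), (3, 1), (5, 1), (10, 1), (14, 1), (16, 1), (18, 1), (22, 1), (23, 1), (24, 1), (26, 1), (29, 1), (31, 1), (32, 1), (35, 1), (36, 1), (37, 1), (44, 1), (45, 1), (48, 1), (49, 1), (50, 1), (51, 1), (53, 1), (55, 1), (56, 1), (58, 1), (59, 1), (63, 1), (64, 1), (68, 1), (69, 1), (70, 1), (71, 1), (72, 1), (74, 1), (76, 1), (77, 1), (79, 1), (81, 1), (82, 1), (84, 1), (85, 1), (87, 1), (89, 1), (90, 1), (95, 1), (97, 1), (99, 1), (100, 1), (102, 1), (103, 1), (106, 1), (107, 1), (108, 1), (109, 1), (110, 1), (113, 1)],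
    [(0, 1), (3, 1), (4, 1), (5, 1), (8, 1), (12, 1), (14, 1), (16, 1), (18, 1), (22, 1), (25, 1), (27, 1), (28, 1), (32, 1), (33, 1), (34, 1), (35, 1), (36, 1), (37, 1), (43, 1), (44, 1), (45, 1), (46, 1), (47, 1), (48, 1), (49, 1), (51, 1), (52, 1), (53, 1), (55, 1), (57, 1), (58, 1), (59, 1), (60, 1), (61, 1), (64, 1), (65, 1), (68, 1), (69, 1), (70, 1), (71, 1), (74, 1), (75, 1), (76, 1), (77, 1), (79, 1), (81, 1), (82, 1), (83, 1), (84, 1), (87, 1), (90, 1), (94, 1), (95, 1), (97, 1), (98, 1), (99, 1), (100, 1), (103, 1), (104, 1), (105, 1), (106, 1), (107, 1), (109, 1), (110, 1), (113, 1)],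
    [(15, 1), (23, 1), (26, 1), (30, 1), (31, 1), (33, 1), (34, 1), (35, 1), (36, 1), (44, 1), (53, 1), (60, 1), (62, 1), (81, 1), (83, 1), (85, 1), (97, 1), (98, 1), (99, 1), (100, 1), (101, 1), (102, 1), (103, 1), (109, 1)],
    [(15, 1), (23, 1), (28, 1), (31, 1), (33, 1), (37, 1), (44, 1), (52, 1), (53, 1), (57, 1), (63, 1), (66, 1), (83, 1), (85, 1), (98, 1), (100, 1), (101, 1), (102, 1), (103, 1), (109, 1)],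
    [(15, 1), (26, 1), (27, 1), (28, 1), (32, 1), (37, 1), (59, 1), (97, 1), (98, 1)],
    [(15, 1), (23, 1), (26, 1), (30, 1), (31, 1), (33, 1), (34, 1), (35, 1), (44, 1), (53, 1), (60, 1), (62, 1), (81, 1), (83, 1), (85, 1), (97, 1), (98, 1), (99, 1), (100, 1), (101, 1), (102, 1), (103, 1), (109, 1)],
    [(30, 1), (37, 1), (43, 1), (44, 1), (51, 1), (52, 1), (53, 1), (56, 1), (61, 1), (62, 1), (66, 1), (97, 1), (98, 1), (100, 1), (102, 1), (104, 1), (109, 1)],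
    [(44, 1), (51, 1), (52, 1), (53, 1), (61, 1), (62, 1), (63, 1), (66, 1), (69, 1), (97, 1), (98, 1), (100, 1), (101, 1), (104, 1)],
    [(28, 1), (30, 1), (44, 1), (51, 1), (52, 1), (56, 1), (62, 1), (63, 1), (66, 1), (69, 1), (98, 1), (109, 1)],
    [(28, 1), (30, 1), (98, 1), (109, 1)],
    [(30, 1), (37, 1), (101, 1), (102, 1), (109, 1)],
    [(28, 1), (30, 1), (57, 1), (69, 1)],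
    [(29, 1), (30, 1), (34, 1), (44, 1), (62, 1), (63, 1), (66, 1)],
    [(28, 1), (30, 1), (69, 1)],
    [(37, 1), (62, 1)],
    [(34, 1)],
    [(28, 1)],
    [(37, 1)],
    [(29, 1)],
    [(35, 1)],
    [(30, 1)]]


end CfsgLib.KnownB.Mult.Ru.P2
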