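import Cfsg.Agent.Lib.KnownB.Mult.Ru.P5Table

/-! Certificate at 5 for the double cover of the Rudvalis group. -/

set_option autoImplicit false
set_option maxRecDepth 100000
set_option Elab.async false

namespace CfsgLib.KnownB.Mult.Ru.P5

open CfsgLib.KnownB.Mult

/-- the certificate -/
def cert : Cert (List ℕ) where
  n := 3
  σ := [tab.getD 48 [],
    tab.getD 47 [],
    tab.getD 38 []]
  rules := [([0, 0, 0, 0, 0], []),
    ([1, 1, 1, 1, 1], []),
    ([2, 2, 2, 2, 2], []),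
    ([1, 0], [0, 1, 2, 2, 2]),
    ([2, 0], [0, 2]),
    ([2, 1], [1, 2])]
  conjs := [(tab.getD 35 [], [0], [1]),
    (tab.getD 35 [], [2], [2]),
    (tab.getD 35 [], [1, 1, 1], [0, 0, 2]),
    (tab.getD 35 [], [0, 0], [1, 1]),
    (tab.getD 35 [], [0, 2], [1, 2]),
    (tab.getD 35 [], [2, 2], [2, 2])]
  rows := [(.ovl [1] 0 [], [0, 0, 3, 0, 0]),
    (.cnj 0 [0, 0] [3], [0, 0, 0, 0, 0, 0, 2, 0, 0, 4]),
    (.cnj 0 [0, 1] [4], [0, 0, 0, 0, 0, 0, 1, 1, 0, 0, 4]),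
    (.cnj 0 [1, 0] [4], [0, 0, 0, 0, 4, 1, 1, 1, 0, 0, 4]),
    (.cnj 0 [2, 1] [1, 2], [0, 0, 0, 0, 3, 3, 0, 0, 0]),
    (.cnj 0 [0, 3, 3] [], [4, 1, 0, 0, 0, 0, 1, 0, 0, 2]),
    (.cnj 0 [2, 2, 2, 2, 2] [], [2, 2, 1, 0, 0, 0, 0, 0, 0])]
  lam := [[], [], [0, 0, 0, 2]]
  combos := [[(0, 3), (1, 1), (5, 3), (6, 1)],
    [(0, 3), (1, 4), (5, 2), (6, 1)],
    [(0, 3)],
    [],
    [(2, 2), (3, 3), (4, 4)],
    [(2, 3), (3, 2), (4, 4)]]

theorem gen : cert.genOK K = true := by decide +kernel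

theorem rel0 : (piece cert.rules 12 0).all (cert.ruleF K) = true := by decide +kernel

theorem rel_conj : (List.range cert.conjs.length).all (cert.cnjF K) = true := by decide +kernel

theorem rel : cert.relOK K = true := by
  refine Cert.relOK_of K cert (all_of_pieces _ 12 1 _ (fun i hi => ?_) (by decide +kernel)) rel_conj
  interval_cases i
  · exact rel0

theorem pcs : cert.pcOK 5 = true := by decide +kernel

theorem rows : cert.rowsOK K 5 = true := by decide +kernel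

theorem target : cert.targetOK 5 = true := by decide +kernel

theorem core : cert.Core K 5 := ⟨gen, rel, pcs, rows, target⟩

/-- transversal levels of the Sylow subgroup -/
def levels : List (ℕ × List (List ℕ)) := [
  (7592255707112348306475648477021095564232372492109143344357617162489287443893714948, [[], [0], [1], [0, 0], [1, 0], [2, 0], [1, 1], [0, 0, 0], [1, 0, 0], [2, 0, 0], [0, 1, 0], [1, 1, 0], [2, 2, 0], [1, 1, 1], [0, 0, 0, 0], [2, 0, 0, 0], [0, 1, 0, 0], [2, 1, 0, 0], [0, 0, 1, 0], [1, 1, 1, 1], [1, 0, 0, 0, 0], [2, 0, 0, 0, 0], [0, 0, 1, 0, 0], [2, 0, 1, 0, 0], [0, 0, 0, 1, 0]]),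
  (1, [[], [2, 1, 1, 1, 1], [2, 2, 1, 1, 1], [2, 2, 2, 1, 1], [2, 2, 2, 2, 1]])]

theorem levels_ok : Cert.levelsOK K cert appP Nat.beq levels [] = true := by decide +kernel

end CfsgLib.KnownB.Mult.Ru.P5
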