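import Cfsg.Agent.Lib.KnownB.Mult.Ru.Lat
import Cfsg.Agent.Lib.KnownB.Mult.HS.Rows

/-!
Reduction modulo `2 - i` is a faithful representation of `Cfsg.Spor.fourRu` over five elements.
-/

set_option autoImplicit false
set_option maxRecDepth 100000

namespace CfsgLib.KnownB.Mult.Ru

open Cfsg Cfsg.Spor
open CfsgLib.KnownB.Mult.HS (K5 A28 encA)
open scoped Matrix

instance : Fact (Nat.Prime 5) := ⟨by norm_num⟩

/-- matrices on the coordinates over five elements -/
abbrev MI : Type := Matrix RuIdx RuIdx K5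

/-- four times a coordinate vector -/
def four (p : RuIdx) : ruLattice := ⟨sgl p 4, four_one_mem p⟩

theorem ruNorm_sgl (p : RuIdx) : ruNorm (sgl p (4 : GaussianInt)) = 16 := by
  rw [ruNorm, Finset.sum_eq_single p]
  · rw [sgl, Pi.single_eq_same]; rfl
  · intro q _ hq
    rw [sgl, Pi.single_eq_of_ne hq, Zsqrtd.norm_zero]
  · simp

/-- an element as a homomorphism -/
def hom (f : fourRu) : ruLattice →+ RuVec where
  toFun v := ((f.1 v : ruLattice) : RuVec)
  map_zero' := by
    have h := f.2.1 0 0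
    rw [add_zero] at h
    rw [left_eq_add.1 h, AddSubgroup.coe_zero]
  map_add' v w := by rw [f.2.1, AddSubgroup.coe_add]

theorem hom_ruI (f : fourRu) (v : ruLattice) : hom f (ruI v) = gI • hom f v := by
  show ((f.1 (ruI v) : ruLattice) : RuVec) = _
  rw [f.2.2.1]; rfl

/-- scalar multiplication on the lattice -/
def sm (c : GaussianInt) (v : ruLattice) : ruLattice := ⟨c • (v : RuVec), smul_mem c v.2⟩

theorem sm_eq (c : GaussianInt) (v : ruLattice) : sm c v = c.re • v + c.im • ruI v := by
  refine Subtype.ext ?_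
  show c • (v : RuVec) = c.re • (v : RuVec) + c.im • (gI • (v : RuVec))
  funext p
  apply Zsqrtd.ext <;> simp [gI] <;> ring

theorem hom_sm (f : fourRu) (c : GaussianInt) (v : ruLattice) : hom f (sm c v) = c • hom f v := by
  rw [sm_eq, map_add, map_zsmul, map_zsmul, hom_ruI]
  funext p
  apply Zsqrtd.ext <;> simp [gI] <;> ring

theorem four_smul_eq (v : ruLattice) : sm 4 v = ∑ p, sm ((v : RuVec) p) (four p) := by
  refine Subtype.ext ?_
  rw [AddSubgroup.val_finsetSum]
  show (4 : GaussianInt) • (v : RuVec) = ∑ p, (v : RuVec) p • sgl p 4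
  funext q
  rw [Finset.sum_apply, Finset.sum_eq_single q]
  · simp [sgl, mul_comm]
  · intro r _ hr
    simp [sgl, Ne.symm hr]
  · simp

theorem linear (f : fourRu) (v : ruLattice) (q : RuIdx) :
    4 * hom f v q = ∑ p, (v : RuVec) p * hom f (four p) q := by
  have h := congrArg (fun w => hom f w q) (four_smul_eq v)
  simp only [hom_sm, map_sum, Finset.sum_apply, Pi.smul_apply, smul_eq_mul] at h
  exact h

/-- reduction modulo `2 - i` -/
def rho : GaussianInt →+* K5 := Zsqrtd.lift ⟨2, by decide⟩

theorem rho_four : rho 4 = 4 := map_ofNat rho 4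

/-- the matrix of an element -/
def mat (f : fourRu) : MI := fun p q => 4 * rho (hom f (four p) q)

theorem rho_hom (f : fourRu) (v : ruLattice) (q : RuIdx) :
    rho (hom f v q) = ∑ p, rho ((v : RuVec) p) * mat f p q := by
  have h := congrArg rho (linear f v q)
  rw [map_mul, map_sum, rho_four] at h
  have e : (∑ p, rho ((v : RuVec) p) * mat f p q) = 4 * ∑ p, rho ((v : RuVec) p * hom f (four p) q) := by
    rw [Finset.mul_sum]
    exact Finset.sum_congr rfl fun p _ => by rw [mat, map_mul]; ring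
  rw [e, ← h, ← mul_assoc, show (4 : K5) * 4 = 1 by decide, one_mul]

theorem mat_one : mat 1 = 1 := by
  funext p q
  show 4 * rho (sgl p (4 : GaussianInt) q) = _
  by_cases e : p = q
  · subst e
    rw [sgl, Pi.single_eq_same, rho_four, Matrix.one_apply_eq]
    decide
  · rw [sgl, Pi.single_eq_of_ne (Ne.symm e), map_zero, mul_zero, Matrix.one_apply_ne e]

theorem mat_mul (f g : fourRu) : mat (f * g) = mat g * mat f := by
  funext p q
  show 4 * rho (hom f (g.1 (four p)) q) = _
  rw [rho_hom, Finset.mul_sum, Matrix.mul_apply]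
  refine Finset.sum_congr rfl fun r _ => ?_
  show 4 * (rho (hom g (four p) r) * mat f r q) = 4 * rho (hom g (four p) r) * mat f r q
  rw [mul_assoc]

theorem ruNorm_sub_le (v w : RuVec) : ruNorm (v - w) ≤ 2 * (ruNorm v + ruNorm w) := by
  rw [ruNorm, ruNorm, ruNorm, ← Finset.sum_add_distrib, Finset.mul_sum]
  refine Finset.sum_le_sum fun p _ => ?_
  simp only [Zsqrtd.norm, Pi.sub_apply, Zsqrtd.re_sub, Zsqrtd.im_sub]
  nlinarith [sq_nonneg ((v p).re + (w p).re), sq_nonneg ((v p).im + (w p).im)]

theorem eq_zero_of_rho {x : RuVec} (hx : x ∈ ruLattice) (h : ∀ p, rho (x p) = 0)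
    (hn : ruNorm x ≤ 64) : x = 0 := by
  have h5 : ∀ p, (5 : ℤ) ∣ (x p).re + 2 * (x p).im := fun p => by
    have := h p
    rw [show rho (x p) = (x p).re + (x p).im * 2 from rfl] at this
    refine (ZMod.intCast_zmod_eq_zero_iff_dvd _ 5).1 ?_
    push_cast
    rw [← this]
    ring
  let y : RuVec := fun p => ⟨(2 * (x p).re - (x p).im) / 5, ((x p).re + 2 * (x p).im) / 5⟩
  have hy1 : ∀ p, 5 * (y p).re = 2 * (x p).re - (x p).im ∧ 5 * (y p).im = (x p).re + 2 * (x p).im := by
    intro p
    have := h5 p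
    constructor <;> simp only [y] <;> omega
  have e5 : (2 : GaussianInt) • x + gI • x = (5 : GaussianInt) • y := by
    funext p
    obtain ⟨a, b⟩ := hy1 p
    apply Zsqrtd.ext <;> simp [gI] <;> omega
  have hy : y ∈ ruLattice := by
    have e : y = ((2 : GaussianInt) • x + gI • x) - (4 : GaussianInt) • y := by
      rw [e5, ← sub_smul, show (5 : GaussianInt) - 4 = 1 by norm_num, one_smul]
    rw [e]
    exact sub_mem (add_mem (smul_mem _ hx) (smul_mem _ hx)) (four_mem _)
  have hn5 : 5 * ruNorm y = ruNorm x := by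
    rw [ruNorm, ruNorm, Finset.mul_sum]
    refine Finset.sum_congr rfl fun p _ => ?_
    obtain ⟨a, b⟩ := hy1 p
    simp only [Zsqrtd.norm]
    refine mul_left_cancel₀ (show (5 : ℤ) ≠ 0 by norm_num) ?_
    linear_combination (5 * (y p).re + (2 * (x p).re - (x p).im)) * a +
      (5 * (y p).im + ((x p).re + 2 * (x p).im)) * b
  obtain ⟨h8, hne⟩ := norm_eight hy
  have hnn : 0 ≤ ruNorm y := Finset.sum_nonneg fun p _ => GaussianInt.norm_nonneg _
  have h0 : ruNorm y = 0 := by omega
  have hz : ∀ p, y p = 0 := fun p => GaussianInt.norm_eq_zero.1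
    ((Finset.sum_eq_zero_iff_of_nonneg fun p _ => GaussianInt.norm_nonneg _).1 h0 p (Finset.mem_univ p))
  funext p
  obtain ⟨a, b⟩ := hy1 p
  rw [hz p] at a b
  simp only [Zsqrtd.re_zero, Zsqrtd.im_zero, mul_zero] at a b
  apply Zsqrtd.ext <;> simp <;> omega

theorem mat_eq_one {f : fourRu} (h : mat f = 1) : f = 1 := by
  have hfix : ∀ p, hom f (four p) = sgl p 4 := fun p => by
    refine sub_eq_zero.1 (eq_zero_of_rho (sub_mem (f.1 (four p)).2 (four p).2) (fun q => ?_) ?_)
    · rw [Pi.sub_apply, map_sub, rho_hom, sub_eq_zero, Finset.sum_eq_single q]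
      · rw [h, Matrix.one_apply_eq, mul_one]
        rfl
      · intro r _ hr
        rw [h, Matrix.one_apply_ne hr, mul_zero]
      · simp
    · refine (ruNorm_sub_le _ _).trans ?_
      have e : ruNorm ((f.1 (four p) : ruLattice) : RuVec) = 16 :=
        (f.2.2.2 _).trans (ruNorm_sgl p)
      show 2 * (ruNorm ((f.1 (four p) : ruLattice) : RuVec) + ruNorm (sgl p 4)) ≤ 64
      rw [e, ruNorm_sgl]
      norm_num
  refine Subtype.ext (Equiv.ext fun v => Subtype.ext ?_)
  funext q
  have hl := linear f v q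
  rw [Finset.sum_eq_single q] at hl
  · rw [hfix, sgl, Pi.single_eq_same, mul_comm _ (4 : GaussianInt)] at hl
    exact mul_left_cancel₀ (by decide) hl
  · intro r _ hr
    rw [hfix, sgl, Pi.single_eq_of_ne (Ne.symm hr), mul_zero]
  · simp

/-- indices -/
def idx : RuIdx ≃ Fin 28 := finProdFinEquiv

/-- the representation -/
def red : fourRu →* A28 where
  toFun f := Matrix.reindexAlgEquiv ℕ K5 idx (mat f⁻¹)
  map_one' := by rw [inv_one, mat_one, map_one]
  map_mul' f g := by rw [mul_inv_rev, mat_mul, map_mul]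

theorem red_injective : Function.Injective red := by
  refine (injective_iff_map_eq_one red).2 fun f hf => ?_
  have h : mat f⁻¹ = 1 := by
    refine (Matrix.reindexAlgEquiv ℕ K5 idx).injective ?_
    rw [map_one]; exact hf
  exact inv_eq_one.1 (mat_eq_one h)

instance : Finite fourRu := Finite.of_injective _ red_injective

end CfsgLib.KnownB.Mult.Ru
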