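import Cfsg.Agent.Lib.KnownB.Mult.Ru.P2
import Cfsg.Agent.Lib.KnownB.Mult.Ru.P3
import Cfsg.Agent.Lib.KnownB.Mult.Ru.P5
import Cfsg.Agent.Lib.KnownB.Mult.Ru.Centre
import Cfsg.Agent.Lib.RuGroup.Order

/-!
The cover is a stem extension of the Rudvalis group by a group of order two: multiplication by `i` lies
outside a Sylow subgroup of the cover, so by transfer the cover has index two in `Cfsg.Spor.fourRu`.
-/

set_option autoImplicit false
set_option maxRecDepth 100000
set_option Elab.async false
set_option maxHeartbeats 0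

namespace CfsgLib.KnownB.Mult.Ru

open Cfsg Cfsg.Spor
open CfsgLib.KnownB.Mult
open CfsgLib.KnownB.Mult.HS (K5 A28 encA encR decR okR okR_iff dg pk p28 encA_inj mulA mulA_enc dg_encR
  decR_encR)
open scoped commutatorElement

instance : Fact (Nat.Prime 2) := ⟨Nat.prime_two⟩
instance : Fact (Nat.Prime 3) := ⟨Nat.prime_three⟩

/-- the code of a word in the generators of the Sylow subgroup -/
def evS (w : List ℕ) : List ℕ :=
  w.foldr (fun a e => mulA (P2.cert.σ.getD a oneR) e) oneR

/-- the generators of the Sylow subgroup -/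
noncomputable def sgen (j : ℕ) : cover := P2.cert.gen P2.K j

theorem rep_evS (w : List ℕ) : RepR (Mult.P sgen w) (evS w) :=
  Cert.rep_ev (K := P2.K) P2.core w

theorem rep_sgen (j : ℕ) : RepR (sgen j) (P2.cert.σ.getD j oneR) :=
  Cert.rep_gen (K := P2.K) P2.core j

theorem notMem_sgen : ∀ k < P2.cert.n, sgen k ∉ Mult.tail sgen P2.cert.n (k + 1) :=
  Cert.notMem_of_levels P2.core ptAct appP Nat.beq (fun h v => ptAct_app h v)
    (fun _ _ => Nat.beq_eq ▸ Iff.rfl) P2.levels P2.levels_ok (by decide)

theorem notMem_of_tables {T : List (List ℕ)} {Pr : List (ℕ × ℕ × ℕ)} {h : slpOK T Pr = true} {p : ℕ}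
    [Fact p.Prime] (c : Cert (List ℕ)) (hc : c.Core (code T Pr h) p) (L : List (ℕ × List (List ℕ)))
    (hL : Cert.levelsOK (code T Pr h) c appP Nat.beq L [] = true)
    (hprod : p ^ c.n ≤ (L.map fun l => l.2.length).prod) :
    p ^ c.n ∣ Nat.card cover ∧
      ∀ {m : ℕ}, Nat.card cover = p ^ c.n * m → ¬ p ∣ m → PrimeCond cover p := by
  have hne := Cert.notMem_of_levels hc ptAct appP Nat.beq (fun h v => ptAct_app h v)
    (fun _ _ => Nat.beq_eq ▸ Iff.rfl) L hL hprod
  exact ⟨Cert.natCard_syl hc hne ▸ Subgroup.card_subgroup_dvd_card _,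
    fun hN hm => Cert.primeCond_of_notMem hc hne hN hm⟩

theorem facts_two : 2 ^ 15 ∣ Nat.card cover ∧
    ∀ {m : ℕ}, Nat.card cover = 2 ^ 15 * m → ¬ 2 ∣ m → PrimeCond cover 2 :=
  notMem_of_tables P2.cert P2.core P2.levels P2.levels_ok (by decide)

theorem facts_three : 3 ^ 3 ∣ Nat.card cover ∧
    ∀ {m : ℕ}, Nat.card cover = 3 ^ 3 * m → ¬ 3 ∣ m → PrimeCond cover 3 :=
  notMem_of_tables P3.cert P3.core P3.levels P3.levels_ok (by decide)

theorem facts_five : 5 ^ 3 ∣ Nat.card cover ∧
    ∀ {m : ℕ}, Nat.card cover = 5 ^ 3 * m → ¬ 5 ∣ m → PrimeCond cover 5 :=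
  notMem_of_tables P5.cert P5.core P5.levels P5.levels_ok (by decide)

/-- the image of the Sylow subgroup in the whole group -/
noncomputable def syl₀ : Subgroup fourRu :=
  (Mult.tail sgen P2.cert.n 0).map cover.subtype

/-- the test of one vector of the orbit -/
def orbStep (v : ℕ) : Bool :=
  (List.range P2.cert.n).all fun a => orbV.any fun w => Nat.beq (appP (P2.cert.σ.getD a oneR) v) w

theorem orb_part0 : ((orbV.drop 0).take 8).all orbStep = true := by decide +kernel

theorem orb_part1 : ((orbV.drop 8).take 8).all orbStep = true := by decide +kernel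

theorem orb_part2 : ((orbV.drop 16).take 8).all orbStep = true := by decide +kernel

theorem orb_part3 : ((orbV.drop 24).take 8).all orbStep = true := by decide +kernel

theorem orb_part4 : ((orbV.drop 32).take 8).all orbStep = true := by decide +kernel

theorem orb_part5 : ((orbV.drop 40).take 8).all orbStep = true := by decide +kernel

theorem orb_part6 : ((orbV.drop 48).take 8).all orbStep = true := by decide +kernel

theorem orb_part7 : ((orbV.drop 56).take 8).all orbStep = true := by decide +kernel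

theorem orb_split : (orbV.drop 0).take 8 ++ (orbV.drop 8).take 8 ++ (orbV.drop 16).take 8 ++ (orbV.drop 24).take 8 ++ (orbV.drop 32).take 8 ++ (orbV.drop 40).take 8 ++ (orbV.drop 48).take 8 ++ (orbV.drop 56).take 8 = orbV := by decide +kernel

theorem orb_rest : (orbV.all fun w => !Nat.beq orbTriple w) = true ∧
    appP (scalC 3) (orbV.getD 0 0) = orbTriple ∧ 0 < orbV.length := by
  decide +kernel

theorem orb_all : orbV.all orbStep = true := by
  refine (congrArg (fun l => l.all orbStep) orb_split).symm.trans ?_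
  simp only [List.all_append, orb_part0, orb_part1, orb_part2, orb_part3, orb_part4, orb_part5, orb_part6, orb_part7, Bool.and_self]

theorem orb_ok : (orbV.all fun v => (List.range P2.cert.n).all fun a =>
      orbV.any fun w => Nat.beq (appP (P2.cert.σ.getD a oneR) v) w) = true ∧
    (orbV.all fun w => !Nat.beq orbTriple w) = true ∧
    appP (scalC 3) (orbV.getD 0 0) = orbTriple ∧ 0 < orbV.length :=
  ⟨orb_all, orb_rest⟩

theorem iota_notMem : iota ∉ syl₀ := by
  rintro ⟨y, hy, e⟩
  let S : Set ℕ := {v | v ∈ orbV}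
  have hstab : ∀ g ∈ Mult.tail sgen P2.cert.n 0, ∀ v ∈ S, ptAct.act g v ∈ S := by
    intro g hg
    induction hg using Subgroup.closure_induction with
    | mem x hx =>
      obtain ⟨j, hj, rfl⟩ := hx
      intro v hv
      rw [ptAct_app (rep_sgen j)]
      have h := orb_ok.1
      simp only [List.all_eq_true, List.mem_range, List.any_eq_true, Nat.beq_eq] at h
      obtain ⟨w, hw, e⟩ := h v hv j hj.2
      show _ ∈ orbV
      rw [e]; exact hw
    | one => intro v hv; rw [ptAct.act_one]; exact hv
    | mul a b _ _ ha hb => intro v hv; rw [ptAct.act_mul]; exact ha _ (hb _ hv)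
    | inv a _ ha =>
      have hpow : ∀ n : ℕ, ∀ v ∈ S, ptAct.act (a ^ n) v ∈ S := by
        intro n
        induction n with
        | zero => intro v hv; rw [pow_zero, ptAct.act_one]; exact hv
        | succ n ih => intro v hv; rw [pow_succ', ptAct.act_mul]; exact ha _ (ih _ hv)
      have he : a⁻¹ = a ^ (orderOf a - 1) := by
        rw [inv_eq_iff_mul_eq_one, ← pow_succ', Nat.sub_add_cancel (orderOf_pos a), pow_orderOf_eq_one]
      rw [he]
      exact hpow _
  have hv0 : orbV.getD 0 0 ∈ S := by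
    show _ ∈ orbV
    rw [List.getD_eq_getElem _ _ orb_ok.2.2.2]
    exact List.getElem_mem _
  have h := hstab y hy _ hv0
  have hy' : RepR y (scalC 3) := by
    show encA (red y.1) = _
    rw [show (y.1 : fourRu) = iota from e, red_iota]
    exact scal_ok ⟨3, by norm_num⟩
  rw [ptAct_app hy', orb_ok.2.2.1] at h
  have h2 := orb_ok.2.1
  simp only [List.all_eq_true, Bool.not_eq_true'] at h2
  have := h2 _ h
  rw [Nat.beq_refl] at this
  exact Bool.noConfusion this

theorem neg_ok : evS negW = scalC 4 ∧ (negW.all fun j => Nat.blt j P2.cert.n) = true := by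
  decide +kernel

theorem P_mem (w : List ℕ) (h : (w.all fun j => Nat.blt j P2.cert.n) = true) :
    Mult.P sgen w ∈ Mult.tail sgen P2.cert.n 0 := by
  refine Subgroup.list_prod_mem _ fun x hx => ?_
  obtain ⟨j, hj, rfl⟩ := List.mem_map.1 hx
  exact Mult.mem_tail sgen (Nat.zero_le _) (Nat.blt_eq.mp (List.all_eq_true.1 h j hj))

theorem iota_sq_eq : iota ^ 2 = (Mult.P sgen negW).1 := by
  refine red_injective (encA_inj ?_)
  have h : RepR (Mult.P sgen negW) (evS negW) := rep_evS _
  rw [h, neg_ok.1, map_pow, red_iota, smul_pow, one_pow, show ((3 : K5) ^ 2) = (4 : Fin 5).val by decide]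
  exact scal_ok ⟨4, by norm_num⟩

theorem iota_sq_mem_syl : iota ^ 2 ∈ syl₀ :=
  iota_sq_eq ▸ Subgroup.mem_map_of_mem _ (P_mem _ neg_ok.2)

theorem iota_sq_mem : iota ^ 2 ∈ cover := iota_sq_eq ▸ (Mult.P sgen negW).2

theorem natCard_syl₀ : Nat.card syl₀ = 2 ^ 15 := by
  rw [syl₀, Nat.card_congr ((Mult.tail sgen P2.cert.n 0).equivMapOfInjective cover.subtype
    cover.subtype_injective).toEquiv.symm]
  exact Cert.natCard_syl (K := P2.K) P2.core notMem_sgen

/-- the Sylow subgroup of the whole group -/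
noncomputable def big : Subgroup fourRu := syl₀ ⊔ Subgroup.zpowers iota

theorem mem_big {g : fourRu} (hg : g ∈ big) : g ∈ syl₀ ∨ g * iota ∈ syl₀ := by
  have hn : Subgroup.zpowers iota ≤ Subgroup.normalizer (syl₀ : Set fourRu) := by
    refine Subgroup.zpowers_le.2 (Subgroup.mem_normalizer_iff.2 fun h => ?_)
    rw [← Subgroup.mem_center_iff.1 iota_center h, mul_inv_cancel_right]
  have hg' := SetLike.mem_coe.2 hg
  rw [big, Subgroup.coe_mul_of_right_le_normalizer_left _ _ hn] at hg'
  obtain ⟨s, hs, z, hz, rfl⟩ := hg'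
  obtain ⟨k, rfl⟩ := hz
  obtain ⟨m, rfl | rfl⟩ := Int.even_or_odd' k
  · left
    show s * iota ^ (2 * m) ∈ syl₀
    rw [zpow_mul, zpow_ofNat]
    exact syl₀.mul_mem hs (zpow_mem iota_sq_mem_syl _)
  · right
    show s * iota ^ (2 * m + 1) * iota ∈ syl₀
    rw [mul_assoc, show iota ^ (2 * m + 1) * iota = (iota ^ 2) ^ (m + 1) by
      rw [← zpow_add_one, ← zpow_ofNat iota 2, ← zpow_mul]; ring_nf]
    exact syl₀.mul_mem hs (zpow_mem iota_sq_mem_syl _)

theorem index_syl_big : (syl₀.subgroupOf big).index = 2 := by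
  rw [Subgroup.index_eq_two_iff]
  refine ⟨⟨iota, Subgroup.mem_sup_right (Subgroup.mem_zpowers iota)⟩, fun g => ?_⟩
  rw [Subgroup.mem_subgroupOf, Subgroup.mem_subgroupOf]
  show Xor _ _
  rcases mem_big g.2 with h | h
  · refine Or.inr ⟨h, fun h' => iota_notMem ?_⟩
    rw [← inv_mul_cancel_left g.1 iota]
    exact syl₀.mul_mem (syl₀.inv_mem h) h'
  · refine Or.inl ⟨h, fun h' => iota_notMem ?_⟩
    rw [← inv_mul_cancel_left g.1 iota]
    exact syl₀.mul_mem (syl₀.inv_mem h') h

theorem natCard_big : Nat.card big = 2 ^ 16 := by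
  have h := (syl₀.subgroupOf big).card_mul_index
  have hle : syl₀ ≤ big := le_sup_left
  rw [index_syl_big, Nat.card_congr (Subgroup.subgroupOfEquivOfLe hle).toEquiv, natCard_syl₀] at h
  exact h.symm.trans (by norm_num)

open Classical in
/-- the sign on the Sylow subgroup -/
noncomputable def sgnHom : big →* ℤˣ where
  toFun g := if g ∈ syl₀.subgroupOf big then 1 else -1
  map_one' := if_pos (one_mem _)
  map_mul' a b := by
    have h := Subgroup.mul_mem_iff_of_index_two index_syl_big (a := a) (b := b)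
    by_cases ha : a ∈ syl₀.subgroupOf big <;> by_cases hb : b ∈ syl₀.subgroupOf big <;>
      simp only [h, ha, hb, if_true, if_false, iff_self, iff_false, not_true_eq_false, not_false_eq_true] <;>
      decide

/-- the transfer -/
noncomputable def ver : fourRu →* ℤˣ := MonoidHom.transfer sgnHom

theorem ver_iota : ver iota = -1 := by
  classical
  rw [ver, MonoidHom.transfer_eq_pow sgnHom iota (fun k g0 _ => by
    rw [Subgroup.mem_center_iff.1 ((Subgroup.center fourRu).pow_mem iota_center k) g0⁻¹, mul_assoc,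
      inv_mul_cancel, mul_one])]
  have hidx : big.index = 8906625 := by
    have h := big.card_mul_index
    rw [natCard_big, CfsgLib.RuGroup.card_fourRu] at h
    omega
  show (if _ ∈ syl₀.subgroupOf big then (1 : ℤˣ) else -1) = -1
  refine if_neg fun h => iota_notMem ?_
  rw [Subgroup.mem_subgroupOf] at h
  have e : iota ^ 8906625 = (iota ^ 2) ^ 4453312 * iota := by rw [← pow_mul, ← pow_succ]
  have h' : iota ^ big.index ∈ syl₀ := h
  rw [hidx, e] at h'
  exact (syl₀.mul_mem_cancel_left (syl₀.pow_mem iota_sq_mem_syl _)).1 h'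

theorem natCard_ver_ker : Nat.card ver.ker = 291852288000 := by
  have hs : Function.Surjective ver := fun u => by
    rcases Int.units_eq_one_or u with rfl | rfl
    · exact ⟨1, map_one _⟩
    · exact ⟨iota, ver_iota⟩
  have h := ver.ker.card_mul_index
  rw [Subgroup.index_ker, MonoidHom.range_eq_top.2 hs, Subgroup.card_top,
    show Nat.card ℤˣ = 2 by simp, CfsgLib.RuGroup.card_fourRu] at h
  omega

theorem word_facts : wordC (List.replicate 29 0) = oneR ∧ wordC [0] ≠ oneR ∧
    wordC (List.replicate 7 1) = oneR ∧ wordC [1] ≠ oneR ∧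
    wordC (List.replicate 13 w13).flatten = oneR ∧ wordC w13 ≠ oneR ∧
    (w13.all fun g => Nat.blt g 2) = true := by
  decide +kernel

theorem rep_word_append {a b : cover} : ∀ {u w : List ℕ}, RepR a (wordC u) → RepR b (wordC w) →
    (u.all fun g => Nat.blt g 2) = true → RepR (a * b) (wordC (u ++ w))
  | [], w, ha, hb, _ => by
    rw [eq_of_rep ha rep_oneR, one_mul]; exact hb
  | g :: u, w, ha, hb, h => by
    simp only [List.all_cons, Bool.and_eq_true, Nat.blt_eq] at h
    obtain ⟨c, hc⟩ := exists_gen g h.1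
    obtain ⟨d, hd⟩ := exists_word u h.2
    rw [eq_of_rep ha (rep_mulR hc hd), mul_assoc]
    exact rep_mulR hc (rep_word_append hd hb h.2)

theorem rep_word_pow {a : cover} {u : List ℕ} (ha : RepR a (wordC u))
    (h : (u.all fun g => Nat.blt g 2) = true) :
    ∀ n, RepR (a ^ n) (wordC (List.replicate n u).flatten)
  | 0 => by rw [pow_zero]; exact rep_oneR
  | n + 1 => by
    rw [pow_succ', List.replicate_succ, List.flatten_cons]
    exact rep_word_append ha (rep_word_pow ha h n) h

theorem flatten_replicate_single (g : ℕ) : ∀ n, (List.replicate n [g]).flatten = List.replicate n g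
  | 0 => rfl
  | n + 1 => by rw [List.replicate_succ, List.flatten_cons, flatten_replicate_single g n]; rfl

theorem order_of_word (q : ℕ) (hq : q.Prime) (u : List ℕ) (h : (u.all fun g => Nat.blt g 2) = true)
    (h1 : wordC (List.replicate q u).flatten = oneR) (h2 : wordC u ≠ oneR) :
    ∃ a : cover, RepR a (wordC u) ∧ orderOf a = q := by
  obtain ⟨a, ha⟩ := exists_word u h
  haveI := Fact.mk hq
  refine ⟨a, ha, orderOf_eq_prime ?_ ?_⟩
  · have := rep_word_pow ha h q
    rw [h1] at this
    exact eq_of_rep this rep_oneR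
  · rintro rfl
    exact h2 (ha.symm.trans rep_oneR)

theorem le_ker : cover ≤ ver.ker := by
  refine (Subgroup.closure_le _).2 ?_
  have key : ∀ (g : fourRu) (q k : ℕ), q = 2 * k + 1 → g ^ q = 1 → ver g = 1 := by
    intro g q k hq h
    have h2 : ver g ^ q = 1 := by rw [← map_pow, h, map_one]
    rcases Int.units_eq_one_or (ver g) with e | e
    · exact e
    · rw [e, hq, pow_succ, pow_mul, show ((-1 : ℤˣ) ^ 2) = 1 by decide, one_pow, one_mul] at h2
      exact absurd h2 (by decide)
  rintro g (rfl | rfl)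
  · obtain ⟨a, ha, ho⟩ := order_of_word 29 (by norm_num) [0] (by decide)
      (by rw [flatten_replicate_single]; exact word_facts.1) word_facts.2.1
    have hr : RepR ⟨gA, Subgroup.subset_closure (Or.inl rfl)⟩ (wordC [0]) := by
      have h0 : RepR ⟨gA, Subgroup.subset_closure (Or.inl rfl)⟩ (gList.getD 0 []) := by
        show encA (Matrix.reindexAlgEquiv ℕ K5 idx (mat gA⁻¹)) = _
        rw [gA, (exists_elem a_pair).choose_spec.1]
        exact gA_enc
      have := rep_mulR h0 rep_oneR
      rwa [mul_one] at this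
    refine key _ 29 14 rfl ?_
    have e := eq_of_rep hr ha
    have hp : a ^ 29 = 1 := ho ▸ pow_orderOf_eq_one a
    rw [← e] at hp
    exact congrArg Subtype.val hp
  · obtain ⟨a, ha, ho⟩ := order_of_word 7 (by norm_num) [1] (by decide)
      (by rw [flatten_replicate_single]; exact word_facts.2.2.1) word_facts.2.2.2.1
    have hr : RepR ⟨gB, Subgroup.subset_closure (Or.inr rfl)⟩ (wordC [1]) := by
      have h0 : RepR ⟨gB, Subgroup.subset_closure (Or.inr rfl)⟩ (gList.getD 1 []) := by
        show encA (Matrix.reindexAlgEquiv ℕ K5 idx (mat gB⁻¹)) = _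
        rw [gB, (exists_elem b_pair).choose_spec.1]
        exact gB_enc
      have := rep_mulR h0 rep_oneR
      rwa [mul_one] at this
    refine key _ 7 3 rfl ?_
    have e := eq_of_rep hr ha
    have hp : a ^ 7 = 1 := ho ▸ pow_orderOf_eq_one a
    rw [← e] at hp
    exact congrArg Subtype.val hp

theorem natCard_cover : Nat.card cover = 291852288000 := by
  have hle : Nat.card cover ≤ 291852288000 := natCard_ver_ker ▸ Subgroup.card_le_of_le le_ker
  have d29 : 29 ∣ Nat.card cover := by
    obtain ⟨a, -, ho⟩ := order_of_word 29 (by norm_num) [0] (by decide)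
      (by rw [flatten_replicate_single]; exact word_facts.1) word_facts.2.1
    exact ho ▸ orderOf_dvd_natCard a
  have d7 : 7 ∣ Nat.card cover := by
    obtain ⟨a, -, ho⟩ := order_of_word 7 (by norm_num) [1] (by decide)
      (by rw [flatten_replicate_single]; exact word_facts.2.2.1) word_facts.2.2.2.1
    exact ho ▸ orderOf_dvd_natCard a
  have d13 : 13 ∣ Nat.card cover := by
    obtain ⟨a, -, ho⟩ := order_of_word 13 (by norm_num) w13 word_facts.2.2.2.2.2.2
      word_facts.2.2.2.2.1 word_facts.2.2.2.2.2.1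
    exact ho ▸ orderOf_dvd_natCard a
  have e1 := (show Nat.Coprime (2 ^ 15) (3 ^ 3) by norm_num).mul_dvd_of_dvd_of_dvd facts_two.1 facts_three.1
  have e2 := (show Nat.Coprime (2 ^ 15 * 3 ^ 3) (5 ^ 3) by norm_num).mul_dvd_of_dvd_of_dvd e1 facts_five.1
  have e3 := (show Nat.Coprime (2 ^ 15 * 3 ^ 3 * 5 ^ 3) 7 by norm_num).mul_dvd_of_dvd_of_dvd e2 d7
  have e4 := (show Nat.Coprime (2 ^ 15 * 3 ^ 3 * 5 ^ 3 * 7) 13 by norm_num).mul_dvd_of_dvd_of_dvd e3 d13
  have e5 := (show Nat.Coprime (2 ^ 15 * 3 ^ 3 * 5 ^ 3 * 7 * 13) 29 by norm_num).mul_dvd_of_dvd_of_dvd e4 d29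
  norm_num at e5
  exact le_antisymm hle (Nat.le_of_dvd Nat.card_pos e5)

theorem iota_notMem_cover : iota ∉ cover := fun h => by
  have h' := MonoidHom.mem_ker.1 (le_ker h)
  rw [ver_iota] at h'
  exact absurd h' (by decide)

theorem mem_cover_or (g : fourRu) : g ∈ cover ∨ g * iota ∈ cover := by
  have hk : cover = ver.ker := Subgroup.eq_of_le_of_card_ge le_ker (by rw [natCard_ver_ker, natCard_cover])
  rcases Int.units_eq_one_or (ver g) with e | e
  · exact Or.inl (hk ▸ MonoidHom.mem_ker.2 e)
  · refine Or.inr (hk ▸ MonoidHom.mem_ker.2 ?_)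
    rw [map_mul, e, ver_iota]
    decide

/-- the projection -/
def proj : cover →* Cfsg.Spor.Ru := (QuotientGroup.mk' _).comp cover.subtype

theorem proj_surjective : Function.Surjective proj := by
  intro x
  obtain ⟨g, rfl⟩ := QuotientGroup.mk'_surjective _ x
  rcases mem_cover_or g with h | h
  · exact ⟨⟨g, h⟩, rfl⟩
  · refine ⟨⟨g * iota, h⟩, ?_⟩
    show QuotientGroup.mk' _ (g * iota) = _
    rw [map_mul, (QuotientGroup.eq_one_iff iota).2 iota_center |> fun e => (show QuotientGroup.mk' _ iota = 1 from e), mul_one]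

theorem ker_proj_eq {y : cover} (hy : y ∈ proj.ker) : y.1 = 1 ∨ y.1 = iota ^ 2 := by
  have hc : y.1 ∈ Subgroup.center fourRu := (QuotientGroup.eq_one_iff y.1).1 (MonoidHom.mem_ker.1 hy)
  rw [center_eq] at hc
  obtain ⟨k, hk⟩ := hc
  have hk' : y.1 = iota ^ (k % 4) := by
    have := zpow_mod_orderOf iota k
    rw [orderOf_iota] at this
    simp only [Nat.cast_ofNat] at this
    exact hk.symm.trans this.symm
  have h0 := Int.emod_nonneg k (show (4 : ℤ) ≠ 0 by norm_num)
  have h1 := Int.emod_lt_of_pos k (show (0 : ℤ) < 4 by norm_num)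
  have hmem := y.2
  obtain h | h | h | h : k % 4 = 0 ∨ k % 4 = 1 ∨ k % 4 = 2 ∨ k % 4 = 3 := by omega
  · left; rw [hk', h, zpow_zero]
  · rw [hk', h, zpow_one] at hmem
    exact absurd hmem iota_notMem_cover
  · right; rw [hk', h, zpow_ofNat]
  · rw [hk', h, zpow_ofNat, pow_succ] at hmem
    exact absurd ((cover.mul_mem_cancel_left iota_sq_mem).1 hmem) iota_notMem_cover

theorem iota_sq_ne_one : iota ^ 2 ≠ 1 := fun h => by
  have := orderOf_le_of_pow_eq_one (by norm_num) h
  rw [orderOf_iota] at this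
  omega

theorem iota_sq_center : iota ^ 2 ∈ Subgroup.center fourRu := (Subgroup.center fourRu).pow_mem iota_center 2

theorem natCard_ker_proj : Nat.card proj.ker = 2 := by
  have h1 : (⟨iota ^ 2, iota_sq_mem⟩ : cover) ∈ proj.ker :=
    MonoidHom.mem_ker.2 ((QuotientGroup.eq_one_iff _).2 iota_sq_center)
  rw [Nat.card_eq_two_iff]
  refine ⟨1, ⟨_, h1⟩, fun e => iota_sq_ne_one (congrArg (fun z : proj.ker => z.1.1) e).symm, ?_⟩
  rw [Set.eq_univ_iff_forall]
  intro z
  rcases ker_proj_eq z.2 with h | h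
  · exact Or.inl (Subtype.ext (Subtype.ext h))
  · exact Or.inr (Subtype.ext (Subtype.ext h))

theorem ker_le_center : proj.ker ≤ Subgroup.center cover := fun z hz =>
  Subgroup.mem_center_iff.2 fun g => Subtype.ext
    (Subgroup.mem_center_iff.1 ((QuotientGroup.eq_one_iff z.1).1 (MonoidHom.mem_ker.1 hz)) g.1)

theorem com_ok : evS (comX ++ comY) = evS (negW ++ (comY ++ comX)) := by decide +kernel

theorem ker_le_commutator : proj.ker ≤ commutator cover := by
  intro z hz
  rcases ker_proj_eq hz with h | h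
  · rw [show z = 1 from Subtype.ext h]
    exact one_mem _
  have hz' : z = Mult.P sgen negW := Subtype.ext (h.trans iota_sq_eq)
  have happ : ∀ u w, Mult.P sgen (u ++ w) = Mult.P sgen u * Mult.P sgen w := fun u w => by
    simp only [Mult.P, List.map_append, List.prod_append]
  have e : Mult.P sgen (comX ++ comY) = Mult.P sgen (negW ++ (comY ++ comX)) :=
    eq_of_rep (com_ok ▸ rep_evS _) (rep_evS _)
  rw [happ, happ, happ] at e
  have hc : ⁅Mult.P sgen comX, Mult.P sgen comY⁆ = z := by
    rw [hz', commutatorElement_def, e]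
    group
  rw [← hc]
  exact Subgroup.commutator_mem_commutator (Subgroup.mem_top _) (Subgroup.mem_top _)

end CfsgLib.KnownB.Mult.Ru
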